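import Groth.Agent.PicTangent.JacPoint
import Groth.Agent.CurveCover.OmegaFamily
import Groth.Agent.Synt29.SmoothDim
import Groth.Agent.FlatMisc.ApproxDim
import Groth.Agent.Pic13Lib.CurveAlgEq
import Groth.Agent.Lib.RigPoints
import Groth.Agent.S12409
import Groth.Agent.S12411

/-!
# Degrees and algebraic triviality for relative curves
-/

set_option autoImplicit false
set_option linter.style.haveILetI false
set_option linter.unusedSectionVars false
set_option backward.isDefEq.respectTransparency false
set_option backward.isDefEq.respectTransparency.types false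
set_option maxHeartbeats 1000000

universe u

open CategoryTheory CategoryTheory.Limits AlgebraicGeometry TopologicalSpace

noncomputable section

namespace Groth.Agent.PicTangent.JacDeg

open Groth.Agent Groth.Agent.H23
open scoped Groth.Agent.H23.PicMul

variable {C S : Scheme.{u}} (f : C ⟶ S) [IsProper f] [Smooth f] [GeometricallyConnected f]
  (hdim : ∀ s : S, topologicalKrullDim ↥(f.fiber s) = 1)

include hdim in
/-- A family of curves is smooth of relative dimension one. -/
theorem smoothOfRelativeDimension_one : SmoothOfRelativeDimension 1 f := by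
  have key : ∀ x : C, ∃ V : C.Opens, x ∈ V ∧ SmoothOfRelativeDimension 1 (V.ι ≫ f) := fun x => by
    obtain ⟨U, hU, V, hV, e, n, hxV, h, hs, hn⟩ := Synt29.SmoothDim.exists_chart f x
    rw [CurveCover.fibreDimAt_eq_one f hdim x] at hn
    obtain rfl : n = 1 := by exact_mod_cast hn.symm
    exact ⟨V, hxV, hs⟩
  choose V hxV hV using key
  exact IsZariskiLocalAtSource.of_iSup_eq_top (P := @SmoothOfRelativeDimension 1) V
    (top_le_iff.1 fun x _ => Opens.mem_iSup.2 ⟨x, hxV x⟩) hV

/-- A family of smooth connected curves is geometrically integral. -/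
theorem geometricallyIntegral : GeometricallyIntegral f := by
  refine ⟨fun L _ t Y fst snd hpb => ?_⟩
  haveI : IsProper snd := MorphismProperty.of_isPullback hpb ‹IsProper f›
  haveI : Smooth snd := MorphismProperty.of_isPullback hpb ‹Smooth f›
  haveI : ConnectedSpace Y :=
    GeometricallyConnected.geometrically_connectedSpace (f := f) _ _ _ hpb
  haveI : CompactSpace Y := QuasiCompact.compactSpace_of_compactSpace snd
  exact CurveCohLib.isIntegral_of_smooth_connected (k := L) snd

section Geometric

variable (T : Over S) {Ω : Type u} [Field Ω] (σ : Spec (CommRingCat.of Ω) ⟶ T.left)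

/-- The geometric fibre of `X_T` over its field of definition. -/
abbrev overG : (pullback (PicF.XTproj f T) σ).Over (Spec (CommRingCat.of Ω)) := ⟨pullback.snd _ σ⟩

include hdim in
theorem dim_geom : topologicalKrullDim ↥(pullback (PicF.XTproj f T) σ) = 1 := by
  let s := (σ ≫ T.hom) (IsLocalRing.closedPoint Ω)
  have outer : IsPullback (pullback.fst (PicF.XTproj f T) σ ≫ pullback.fst f T.hom)
      (pullback.snd (PicF.XTproj f T) σ) f (σ ≫ T.hom) :=
    (IsPullback.of_hasPullback (PicF.XTproj f T) σ).paste_horiz (IsPullback.of_hasPullback f T.hom)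
  rw [← hdim s, ← FlatMisc.ApproxDim.fibre_dim_baseChange outer (IsLocalRing.closedPoint Ω)]
  haveI : Subsingleton ↥(Spec (CommRingCat.of Ω)) := inferInstanceAs (Subsingleton (PrimeSpectrum Ω))
  let g := pullback.snd (PicF.XTproj f T) σ
  have hsurj : Function.Surjective (g.fiberι (IsLocalRing.closedPoint Ω)) := fun x =>
    (g.range_fiberι _).superset (show x ∈ g ⁻¹' {IsLocalRing.closedPoint Ω} from Subsingleton.elim _ _)
  exact ((g.fiberι (IsLocalRing.closedPoint Ω)).isEmbedding.toHomeomorphOfSurjective hsurj).isHomeomorph.topologicalKrullDim_eq.symm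

/-- Degrees on geometric fibres are degrees on fibres. -/
theorem curveDeg_geom (t : T.left) (ht : σ (IsLocalRing.closedPoint Ω) = t) (L : (PicF.XT f T).Modules)
    (hL : PicF.IsInvertible L) :
    Pic13.curveDeg Ω (pullback.snd (PicF.XTproj f T) σ)
        ((Scheme.Modules.pullback (pullback.fst (PicF.XTproj f T) σ)).obj L) =
      FGA.eulerCharLE (T.left.residueField t) (FGA.fibreAt f T t).left (FGA.restrFibre f T t L) 1 -
        FGA.eulerCharLE (T.left.residueField t) (FGA.fibreAt f T t).left
          (Coh.structureModule (FGA.fibreAt f T t).left) 1 := by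
  subst ht
  let t := σ (IsLocalRing.closedPoint Ω)
  obtain ⟨ψ, hψ⟩ : ∃ ψ : T.left.residueField t ⟶ CommRingCat.of Ω, Spec.map ψ ≫ T.left.fromSpecResidueField t = σ :=
    ⟨_, Scheme.descResidueField_stalkClosedPointTo_fromSpecResidueField Ω T.left σ⟩
  let E := T.left.residueField t
  letI : Algebra E Ω := ψ.hom.toAlgebra
  letI : (FGA.fibreAt f T t).left.Over (Spec (CommRingCat.of E)) := ⟨(FGA.fibreAt f T t).hom⟩
  letI := overG f T σ
  haveI : IsProper (PicF.XTproj f T) := MorphismProperty.pullback_snd f T.hom inferInstance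
  haveI : IsProper ((FGA.fibreAt f T t).left ↘ Spec (CommRingCat.of E)) :=
    MorphismProperty.pullback_snd (PicF.XTproj f T) _ inferInstance
  haveI : IsProper (pullback (PicF.XTproj f T) σ ↘ Spec (CommRingCat.of Ω)) :=
    MorphismProperty.pullback_snd (PicF.XTproj f T) σ inferInstance
  let p₁ := pullback.fst (PicF.XTproj f T) (T.left.fromSpecResidueField t)
  let g : pullback (PicF.XTproj f T) σ ⟶ (FGA.fibreAt f T t).left :=
    pullback.lift (pullback.fst _ σ) (pullback.snd _ σ ≫ Spec.map ψ)
      (by rw [Category.assoc, hψ]; exact pullback.condition)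
  have sq : IsPullback g (pullback (PicF.XTproj f T) σ ↘ Spec (CommRingCat.of Ω))
      ((FGA.fibreAt f T t).left ↘ Spec (CommRingCat.of E))
      (Spec.map (CommRingCat.ofHom (algebraMap E Ω))) := by
    refine IsPullback.of_right ?_ (pullback.lift_snd _ _ _)
      (IsPullback.of_hasPullback (PicF.XTproj f T) (T.left.fromSpecResidueField t))
    rw [pullback.lift_fst]
    show IsPullback _ _ _ (Spec.map ψ ≫ _)
    rw [hψ]
    exact IsPullback.of_hasPullback (PicF.XTproj f T) σ
  have hg : g ≫ p₁ = pullback.fst (PicF.XTproj f T) σ := pullback.lift_fst _ _ _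
  obtain ⟨eO⟩ := PicClLib.nonempty_pullback_structureModule g
  have hM : PicF.IsInvertible (FGA.restrFibre f T t L) := PicClLib.isInvertible_pullback p₁ hL
  obtain ⟨eM⟩ : Nonempty ((Scheme.Modules.pullback g).obj (FGA.restrFibre f T t L) ≅
      (Scheme.Modules.pullback (pullback.fst (PicF.XTproj f T) σ)).obj L) := by
    refine PicMul.cl_eq_iff.1 ?_
    show PicF.pullCl g (PicF.pullCl p₁ (PicF.cl L)) = PicF.pullCl _ (PicF.cl L)
    rw [PicClLib.pullCl_comp, hg]
  show FGA.eulerCharLE Ω (pullback (PicF.XTproj f T) σ) _ 1 - FGA.eulerCharLE Ω (pullback (PicF.XTproj f T) σ) _ 1 = _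
  rw [JacPoint.eulerCharLE_bc g sq (JacPoint.isQCoh_of_isInvertible hM) eM 1,
    JacPoint.eulerCharLE_bc g sq (JacPoint.isQCoh_of_isInvertible (PicLoc.isInvertible_structureModule _)) eO 1]

include hdim in
/-- Algebraic triviality on a geometric fibre is degree zero. -/
theorem algEquivZero_iff [IsAlgClosed Ω] (t : T.left) (ht : σ (IsLocalRing.closedPoint Ω) = t)
    (L : (PicF.XT f T).Modules) (hL : PicF.IsInvertible L) :
    @Pic13.IsAlgEquivZero Ω _ (pullback (PicF.XTproj f T) σ) (overG f T σ)
        ((Scheme.Modules.pullback (pullback.fst (PicF.XTproj f T) σ)).obj L) ↔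
      FGA.eulerCharLE (T.left.residueField t) (FGA.fibreAt f T t).left (FGA.restrFibre f T t L) 1 -
        FGA.eulerCharLE (T.left.residueField t) (FGA.fibreAt f T t).left
          (Coh.structureModule (FGA.fibreAt f T t).left) 1 = 0 := by
  letI := overG f T σ
  let g := pullback.snd (PicF.XTproj f T) σ
  haveI : IsProper (PicF.XTproj f T) := MorphismProperty.pullback_snd f T.hom inferInstance
  haveI : Smooth (PicF.XTproj f T) := MorphismProperty.pullback_snd f T.hom inferInstance
  haveI : GeometricallyConnected (PicF.XTproj f T) := MorphismProperty.pullback_snd f T.hom inferInstance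
  haveI : IsProper (pullback (PicF.XTproj f T) σ ↘ Spec (CommRingCat.of Ω)) :=
    MorphismProperty.pullback_snd (PicF.XTproj f T) σ inferInstance
  haveI : Smooth (pullback (PicF.XTproj f T) σ ↘ Spec (CommRingCat.of Ω)) :=
    MorphismProperty.pullback_snd (PicF.XTproj f T) σ inferInstance
  haveI : ConnectedSpace ↥(pullback (PicF.XTproj f T) σ) :=
    GeometricallyConnected.geometrically_connectedSpace (f := PicF.XTproj f T) _ _ _ (IsPullback.of_hasPullback _ σ)
  rw [← curveDeg_geom f T σ t ht L hL]
  exact S12411.result Ω _ (dim_geom f hdim T σ) _ (PicClLib.isInvertible_pullback _ hL)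

end Geometric

variable {P : Over S} {φ : ∀ T : Over S, PicF.Cl (PicF.XT f T) → (T ⟶ P)}

/-- The defining property of the degree function on the Picard scheme. -/
def IsDeg (φ : ∀ T : Over S, PicF.Cl (PicF.XT f T) → (T ⟶ P)) (d : P.left → ℤ) : Prop :=
  ∀ (T : Over S) (L : (PicF.XT f T).Modules), PicF.IsInvertible L → ∀ t : T.left,
    d ((φ T (PicF.cl L)).left.base t) =
      FGA.eulerCharLE (T.left.residueField t) (FGA.fibreAt f T t).left (FGA.restrFibre f T t L) 1 -
        FGA.eulerCharLE (T.left.residueField t) (FGA.fibreAt f T t).left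
          (Coh.structureModule (FGA.fibreAt f T t).left) 1

include hdim in
/-- Classes of `Pic⁰` are the classes of degree zero on every fibre. -/
theorem isPicZeroCl_iff {d : P.left → ℤ} (hd : IsDeg f φ d) (T : Over S) {c : PicF.Cl (PicF.XT f T)}
    (hc : PicF.IsInvertibleCl c) : AbDual.IsPicZeroCl f T c ↔ ∀ t, d ((φ T c).left t) = 0 := by
  constructor
  · rintro ⟨L, rfl, hL, h⟩ t
    let Ω := AlgebraicClosure (T.left.residueField t)
    let σ : Spec (CommRingCat.of Ω) ⟶ T.left :=
      Spec.map (CommRingCat.ofHom (algebraMap (T.left.residueField t) Ω)) ≫ T.left.fromSpecResidueField t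
    have hr : Set.range σ = {t} := by
      refine Set.range_eq_singleton_iff.2 fun z => ?_
      show T.left.fromSpecResidueField t _ = t
      exact Scheme.fromSpecResidueField_apply _ _
    rw [hd T L hL t]
    exact (algEquivZero_iff f hdim T σ t (Set.range_eq_singleton_iff.1 hr _) L hL).1 (h t Ω σ hr)
  · intro h
    obtain ⟨L, rfl, hL⟩ := hc
    refine ⟨L, rfl, hL, fun t Ω _ _ σ hσ => ?_⟩
    refine (algEquivZero_iff f hdim T σ t (Set.range_eq_singleton_iff.1 hσ _) L hL).2 ?_
    rw [← hd T L hL t]
    exact h t

end Groth.Agent.PicTangent.JacDeg
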