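import Groth.Agent.PicTangent.JacPoint
import Groth.Agent.Lib.AVPoincareExist
import Groth.Agent.Lib.AVDualBC
import Groth.Agent.PicLift.Flat
import Groth.Agent.Snapper.DimVanish
import Groth.Agent.FibDim.BaseField
import Groth.Agent.S1417
import Groth.Prelude.Def_ega3

/-!
# Fibres of relative `Pic⁰` of a curve over an algebraically closed field
-/

set_option autoImplicit false
set_option linter.style.haveILetI false
set_option linter.unusedSectionVars false
set_option backward.isDefEq.respectTransparency false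
set_option backward.isDefEq.respectTransparency.types false
set_option maxHeartbeats 1000000

universe u

open CategoryTheory CategoryTheory.Limits AlgebraicGeometry MonoidalCategory CartesianMonoidalCategory
  TopologicalSpace Opposite

noncomputable section

namespace Groth.Agent.PicTangent.PicZeroFibre

open Groth.Agent Groth.Agent.H23
open scoped Groth.Agent.H23.PicMul

section BaseChange

variable {S S' : Scheme.{u}} (f : S' ⟶ S) {A At : Over S}

/-- Representing objects of `Pic⁰` are stable under base change. -/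
theorem isRelPicZeroK_bc {φ : AgPol.DualMap A At} (hφ : AbDual.IsRelPicZeroK Scheme.fppfPrecoverage A.hom At φ) :
    AbDual.IsRelPicZeroK Scheme.fppfPrecoverage (Red.bc f A).hom (Red.bc f At) (AgPol.bcDual f A At φ) where
  natural T T' g c hc := by
    rw [AVDualBC.bcDual_eq, AVDualBC.bcDual_eq, ← AVDualBC.up_pre,
      ← hφ.natural _ _ (AVDualBC.dnMap f g) _ (AVDualBC.pz_inv hc), PicClLib.pullCl_comp, AVDualBC.inv_xtMap,
      ← PicClLib.pullCl_comp]
  locallySurjective T g := by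
    obtain ⟨x, rfl⟩ := AVDualBC.up_surjective g
    obtain ⟨R, hR, hs⟩ := hφ.locallySurjective (AVDualBC.dn f T) x
    refine ⟨R, hR, fun U v hv => ?_⟩
    obtain ⟨c, hc, hcv⟩ := hs v hv
    let a : AVDualBC.dn f (AbDual.ovr T v) ⟶ AbDual.ovr (AVDualBC.dn f T) v := Over.homMk (𝟙 U) (by
      show 𝟙 U ≫ v ≫ T.hom ≫ f = (v ≫ T.hom) ≫ f
      rw [Category.id_comp, Category.assoc])
    refine ⟨PicF.pullCl (AgPol.bcXTIso f A (AbDual.ovr T v)).hom (PicF.pullCl (PicF.XTmap A.hom a) c),
      AVDualBC.pz_hom (AbDualBase.pz_xtMap a hc), ?_⟩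
    rw [AVDualBC.bcDual_eq, PicClLib.pullCl_comp (AgPol.bcXTIso f A (AbDual.ovr T v)).inv, Iso.inv_hom_id,
      PicClLib.pullCl_id, hφ.natural _ _ a c hc, hcv, ← AVDualBC.up_pre]
    refine congrArg AVDualBC.up (Over.OverMorphism.ext ?_)
    show 𝟙 U ≫ v ≫ x.left = v ≫ x.left
    rw [Category.id_comp]
  locallyInjective T c c' hc hc' e := by
    rw [AVDualBC.bcDual_eq, AVDualBC.bcDual_eq] at e
    obtain ⟨R, hR, hi⟩ := hφ.locallyInjective (AVDualBC.dn f T) _ _ (AVDualBC.pz_inv hc) (AVDualBC.pz_inv hc')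
      (AVDualBC.up_injective e)
    refine ⟨R, hR, fun U v hv => ?_⟩
    let a : AVDualBC.dn f (AbDual.ovr T v) ⟶ AbDual.ovr (AVDualBC.dn f T) v := Over.homMk (𝟙 U) (by
      show 𝟙 U ≫ v ≫ T.hom ≫ f = (v ≫ T.hom) ≫ f
      rw [Category.id_comp, Category.assoc])
    have key : ∀ d : PicF.Cl (PicF.XT (Red.bc f A).hom T),
        PicF.pullCl (PicF.XTmap (Red.bc f A).hom (AbDual.ovrHom T v)) d =
        PicF.pullCl (AgPol.bcXTIso f A (AbDual.ovr T v)).hom (PicF.pullCl (PicF.XTmap A.hom a)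
          (PicF.pullCl (PicF.XTmap A.hom (AbDual.ovrHom (AVDualBC.dn f T) v))
            (PicF.pullCl (AgPol.bcXTIso f A T).inv d))) := fun d => by
      rw [PicClLib.pullCl_comp, PicClLib.pullCl_comp, PicClLib.pullCl_comp]
      refine congrArg (PicF.pullCl · d) ?_
      rw [← cancel_mono (AgPol.bcXTIso f A T).hom, AVDualBC.hom_xtMap]
      simp only [Category.assoc, Iso.inv_hom_id, Category.comp_id]
      refine congrArg (_ ≫ ·) (pullback.hom_ext ?_ ?_)
      · simp [PicF.XTmap]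
      · simp [PicF.XTmap, a]
    rw [key, key, hi v hv]

end BaseChange

section Closed

variable {K : Type u} [Field K] [IsAlgClosed K] {C P : Over (Spec (CommRingCat.of K))} [IsProper C.hom]
  [Smooth C.hom] [GeometricallyConnected C.hom] {φ : AgPol.DualMap C P}
  (hP : AbDual.IsRelPicZeroK Scheme.fppfPrecoverage C.hom P φ)

/-- A nonempty proper scheme over an algebraically closed field has a rational point. -/
theorem exists_section [Nonempty C.left] : ∃ σ : Spec (CommRingCat.of K) ⟶ C.left, σ ≫ C.hom = 𝟙 _ := by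
  haveI : JacobsonSpace C.left := LocallyOfFiniteType.jacobsonSpace C.hom
  obtain ⟨w, -, hw⟩ := nonempty_inter_closedPoints (Z := (Set.univ : Set C.left)) Set.univ_nonempty
    isClosed_univ.isLocallyClosed
  exact ⟨pointOfClosedPoint C.hom w (mem_closedPoints_iff.1 hw), pointOfClosedPoint_comp C.hom w _⟩

variable (σ : Spec (CommRingCat.of K) ⟶ C.left) (hσ : σ ≫ C.hom = 𝟙 _)

include hσ in
/-- Functions on base changes are constant. -/
theorem isIso_app (T : Over (Spec (CommRingCat.of K))) (V : T.left.Opens) :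
    IsIso ((PicF.XTproj C.hom T).app V) := by
  let f := PicF.XTproj C.hom T
  haveI : IsProper f := inferInstanceAs (IsProper (pullback.snd C.hom T.hom))
  haveI : Smooth f := inferInstanceAs (Smooth (pullback.snd C.hom T.hom))
  haveI : GeometricallyConnected f := inferInstanceAs (GeometricallyConnected (pullback.snd C.hom T.hom))
  haveI : GeometricallyReduced f := H23.RigidGamma.geometricallyReduced_of_smooth f
  exact (ConcreteCategory.isIso_iff_bijective _).2 (SectionGamma.bijective_app f (H23.RigidGamma.constFibres f)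
    (PicF.secT C.hom σ hσ T) (pullback.lift_snd _ _ _) V)

include hP hσ in
theorem existsUnique_point {R : Type u} [CommRing R] [IsLocalRing R] {v : Spec (CommRingCat.of R) ⟶ Spec (CommRingCat.of K)}
    (c : PicF.Cl (PicF.XT C.hom (Over.mk v))) (hc : AbDual.IsPicZeroCl C.hom (Over.mk v) c) :
    ∃ γ : Over.mk v ⟶ P, φ _ c = γ ∧ ∀ c', AbDual.IsPicZeroCl C.hom (Over.mk v) c' → φ _ c' = γ → c' = c := by
  refine ⟨_, rfl, fun c' hc' h => ?_⟩
  have hrig : ∀ {d : PicF.Cl (PicF.XT C.hom (Over.mk v))}, PicF.IsInvertibleCl d →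
      PicF.pullCl (PicF.secT C.hom σ hσ (Over.mk v)) d = PicF.cl (Coh.structureModule (Spec (CommRingCat.of R))) :=
    fun hd => JacPoint.eq_structure_of_isLocalRing (R := R) (PicLoc.isInvertibleCl_pullCl _ hd)
  exact congrArg Subtype.val (RigPoints.injective C.hom σ hσ (isIso_app σ hσ)
    (AVPoincareExist.dom (A := C)) ⟨hP.natural, hP.locallySurjective, hP.locallyInjective⟩
    (c := ⟨c', AbDualBase.pz_invertible hc', hrig (AbDualBase.pz_invertible hc')⟩)
    (c' := ⟨c, AbDualBase.pz_invertible hc, hrig (AbDualBase.pz_invertible hc)⟩) hc' hc h)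

include hP hσ in
/-- Points on local rings are classes. -/
theorem exists_class {R : Type u} [CommRing R] [IsLocalRing R] {v : Spec (CommRingCat.of R) ⟶ Spec (CommRingCat.of K)}
    (γ : Over.mk v ⟶ P) : ∃ c, AbDual.IsPicZeroCl C.hom (Over.mk v) c ∧ φ _ c = γ := by
  obtain ⟨c, hc, h⟩ := RigPoints.surjective C.hom σ hσ (isIso_app σ hσ)
    (AVPoincareExist.dom (A := C)) ⟨hP.natural, hP.locallySurjective, hP.locallyInjective⟩ γ
  exact ⟨c.1, hc, h⟩

/-- Algebraic triviality on geometric fibres is tested on a closed subscheme containing all geometric points. -/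
theorem pz_of_pull {T T₀ : Over (Spec (CommRingCat.of K))} (i : T₀ ⟶ T)
    (hi : ∀ (Ω : Type u) [Field Ω] (σ' : Spec (CommRingCat.of Ω) ⟶ T.left), ∃ τ, τ ≫ i.left = σ')
    {c : PicF.Cl (PicF.XT C.hom T)} (hc : PicF.IsInvertibleCl c)
    (h : AbDual.IsPicZeroCl C.hom T₀ (PicF.pullCl (PicF.XTmap C.hom i) c)) : AbDual.IsPicZeroCl C.hom T c := by
  obtain ⟨L, rfl, hL⟩ := hc
  refine ⟨L, rfl, hL, fun t Ω _ _ σ' hσ' => ?_⟩
  obtain ⟨τ, rfl⟩ := hi Ω σ'
  obtain ⟨L₀, hL₀c, -, hL₀t⟩ := h
  have h0 := hL₀t (τ (IsLocalRing.closedPoint Ω)) Ω τ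
    (by rw [Set.range_eq_singleton_iff]; intro z; exact congrArg τ (Subsingleton.elim z _))
  let e : pullback (PicF.XTproj C.hom T) (τ ≫ i.left) ⟶ pullback (PicF.XTproj C.hom T₀) τ :=
    pullback.lift ((RigPoints.isPullback_XTmap C.hom i).lift (pullback.fst _ (τ ≫ i.left)) (pullback.snd _ _ ≫ τ)
      (by rw [Category.assoc, pullback.condition])) (pullback.snd _ _) (IsPullback.lift_snd _ _ _ _)
  have he : e ≫ pullback.fst (PicF.XTproj C.hom T₀) τ ≫ PicF.XTmap C.hom i = pullback.fst _ (τ ≫ i.left) := by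
    rw [pullback.lift_fst_assoc, IsPullback.lift_fst]
  letI : (pullback (PicF.XTproj C.hom T) (τ ≫ i.left)).Over (Spec (CommRingCat.of Ω)) := ⟨pullback.snd _ _⟩
  refine AVDual.algEquivZero_of_iso (Nonempty.some ((PicGrp.cl_eq_cl_iff _ _).1 ?_))
    (AVDual.algEquivZero_pullback _ _ e (pullback.lift_snd _ _ _) h0)
  show PicF.pullCl e (PicF.pullCl (pullback.fst (PicF.XTproj C.hom T₀) τ) (PicF.cl L₀)) =
    PicF.pullCl (pullback.fst (PicF.XTproj C.hom T) (τ ≫ i.left)) (PicF.cl L)
  rw [hL₀c, PicClLib.pullCl_comp, PicClLib.pullCl_comp, Category.assoc, he]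

/-- Geometric points factor through quotients by nilpotents. -/
theorem exists_factor {R B : Type u} [CommRing R] [CommRing B] (φ : R →+* B) (hφ : Function.Surjective φ)
    (hn : ∀ x, φ x = 0 → IsNilpotent x) (Ω : Type u) [Field Ω] (s : Spec (CommRingCat.of Ω) ⟶ Spec (CommRingCat.of R)) :
    ∃ τ, τ ≫ Spec.map (CommRingCat.ofHom φ) = s := by
  obtain ⟨g, rfl⟩ := Spec.map_surjective s
  refine ⟨Spec.map (CommRingCat.ofHom (φ.liftOfSurjective hφ
    ⟨g.hom, fun x hx => (IsNilpotent.map (hn x (RingHom.mem_ker.1 hx)) g.hom).eq_zero⟩)), ?_⟩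
  rw [← Spec.map_comp]
  congr 1
  refine CommRingCat.hom_ext (RingHom.ext fun x => ?_)
  exact RingHom.liftOfRightInverse_comp_apply φ _ (Function.rightInverse_surjInv hφ) ⟨g.hom, _⟩ x

include hP hσ in
/-- The classifier at a rational point. -/
theorem exists_isCls (p : T (k := K) K ⟶ P) : ∃ L, Classifier.IsCls C P p L := by
  have hz : ∀ (R : Type u) [CommRing R] [Algebra K R], (∃ aug : R →ₐ[K] K, ∀ x, aug x = 0 → IsNilpotent x) →
      IsLocalRing R := fun R _ _ ⟨aug, h⟩ => JacPoint.isLocalRing_of_thin aug h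
  obtain ⟨d, hd, hdp⟩ := exists_class hP σ hσ p
  obtain ⟨b, hb, hbd⟩ : ∃ b : PicF.Cl (PicF.XT C.hom (T (k := K) K)), PicF.IsInvertibleCl b ∧ b * d = 1 := by
    obtain ⟨b, hb⟩ := PicMul.exists_inv ⟨d, AbDualBase.pz_invertible hd⟩
    exact ⟨b.1, b.2, hb⟩
  -- the classes of arbitrary points
  let Dm := AVPoincareExist.dom (A := C)
  have hs : ∀ (R : Type u) [CommRing R] [Algebra K R] (γ : T (k := K) R ⟶ P),
      ∃ c : PicF.Rig C.hom σ hσ (T (k := K) R), AbDual.IsPicZeroCl C.hom _ c.1 ∧ φ _ c.1 = γ := fun R _ _ γ =>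
    RigPoints.surjective C.hom σ hσ (isIso_app σ hσ) Dm ⟨hP.natural, hP.locallySurjective, hP.locallyInjective⟩ γ
  choose ρ hρz hρ using hs
  have huniq : ∀ (R : Type u) [CommRing R] [Algebra K R] (γ : T (k := K) R ⟶ P)
      (c : PicF.Rig C.hom σ hσ (T (k := K) R)), AbDual.IsPicZeroCl C.hom _ c.1 → φ _ c.1 = γ → ρ R γ = c :=
    fun R _ _ γ c hc h => RigPoints.injective C.hom σ hσ (isIso_app σ hσ) Dm
      ⟨hP.natural, hP.locallySurjective, hP.locallyInjective⟩ (hρz R γ) hc ((hρ R γ).trans h.symm)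
  have hρp : (ρ K p).1 = d := by
    have hr : PicF.pullCl (PicF.secT C.hom σ hσ (T (k := K) K)) d = PicF.cl (Coh.structureModule _) :=
      JacPoint.eq_structure_of_isLocalRing (R := K) (PicLoc.isInvertibleCl_pullCl _ (AbDualBase.pz_invertible hd))
    exact congrArg Subtype.val (huniq K p ⟨d, AbDualBase.pz_invertible hd, hr⟩ hd hdp)
  have hofId : ∀ {R R' : Type u} [CommRing R] [Algebra K R] [CommRing R'] [Algebra K R'] (ψ : R →ₐ[K] R'),
      Tmap ψ ≫ Tmap (Algebra.ofId K R) = Tmap (Algebra.ofId K R') := fun ψ => by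
    rw [Tmap_comp, Tmap_eq_iff]
    exact Subsingleton.elim _ _
  have hidT : PicF.XTmap C.hom (Tmap (Algebra.ofId K K)) = 𝟙 _ := by
    rw [show Tmap (Algebra.ofId K K) = 𝟙 (T (k := K) K) from Over.OverMorphism.ext (by
      show Spec.map (CommRingCat.ofHom (algebraMap K K)) = _
      rw [Algebra.algebraMap_self, CommRingCat.ofHom_id, Spec.map_id]
      rfl)]
    apply pullback.hom_ext <;> simp [PicF.XTmap] <;> exact Category.id_comp _
  refine ⟨fun R _ _ γ => (ρ R γ).1 * PicF.pullCl (PicF.XTmap C.hom (Tmap (Algebra.ofId K R))) b,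
    ⟨fun R _ _ γ => PicMul.isInvertibleCl_mul (ρ R γ).2.1 (PicLoc.isInvertibleCl_pullCl _ hb), ?_, ?_, ?_, ?_⟩⟩
  · intro R R' _ _ _ _ ψ γ
    rw [← XTmap_eq C ψ, PicMul.pullCl_mul, ← pullCl_XTmap_comp C, hofId]
    congr 1
    exact congrArg Subtype.val (huniq R' (Tmap ψ ≫ γ) (RigPoints.pullRig C.hom σ hσ (Tmap ψ) (ρ R γ))
      (Dm.pull _ (hρz R γ)) ((hP.natural _ _ _ _ (hρz R γ)).trans (by rw [hρ]))).symm
  · rw [hidT, PicClLib.pullCl_id, hρp, mul_comm]
    exact hbd
  · intro R _ _ aug hnil γ γ' h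
    have hu := PicMul.isUnit_of_isInvertibleCl
      (PicLoc.isInvertibleCl_pullCl (PicF.XTmap C.hom (Tmap (Algebra.ofId K R))) hb)
    rw [← hρ R γ, ← hρ R γ', hu.mul_right_cancel h]
  · intro R _ _ aug hnil c hc hred
    change PicF.Cl (PicF.XT C.hom (T (k := K) R)) at c
    haveI := hz R ⟨aug, hnil⟩
    let c' := c * PicF.pullCl (PicF.XTmap C.hom (Tmap (Algebra.ofId K R))) d
    have hc' : PicF.IsInvertibleCl c' :=
      PicMul.isInvertibleCl_mul hc (PicLoc.isInvertibleCl_pullCl _ (AbDualBase.pz_invertible hd))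
    have hc'0 : AbDual.IsPicZeroCl C.hom (T (k := K) R) c' := by
      refine pz_of_pull (Tmap aug) (fun Ω _ s => exists_factor aug.toRingHom
        (fun a => ⟨algebraMap K R a, aug.commutes a⟩) hnil Ω s) hc' ?_
      have e : PicF.pullCl (PicF.XTmap C.hom (Tmap aug)) c' = d := by
        rw [PicMul.pullCl_mul, ← pullCl_XTmap_comp C, hofId, hidT, PicClLib.pullCl_id,
          show PicF.pullCl (PicF.XTmap C.hom (Tmap aug)) c = 1 from (XTmap_eq C aug).symm ▸ hred]
        exact one_mul _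
      rw [e]
      exact hd
    refine ⟨φ _ c', ?_⟩
    have e := congrArg Subtype.val (huniq R (φ _ c') ⟨c', hc',
      JacPoint.eq_structure_of_isLocalRing (R := R) (PicLoc.isInvertibleCl_pullCl _ hc')⟩ hc'0 rfl)
    show (ρ R _).1 * _ = c
    rw [e, mul_assoc, ← PicMul.pullCl_mul, mul_comm d b, hbd, PicMul.pullCl_one, mul_one]

variable [LocallyOfFiniteType P.hom]

include hP hσ in
/-- `Pic⁰` of a curve is smooth. -/
theorem smooth (h2 : Subsingleton (Coh.HH C.left (Coh.structureModule _) 2)) : Smooth P.hom := by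
  refine (Groth.Agent.S1417.result P.hom).2 ?_
  intro B B' _ _ _ _ _ _ ψ ε hψ hker hεm α β hβ hcomm
  by_cases hε : ε = 0
  · have hbij : Function.Bijective ψ := by
      refine ⟨(RingHom.injective_iff_ker_eq_bot ψ).2 ?_, hψ⟩
      rw [hker, hε, Ideal.span_singleton_eq_bot.2 rfl]
    haveI : IsIso (CommRingCat.ofHom ψ) := (ConcreteCategory.isIso_iff_bijective _).2 hbij
    refine ⟨inv (Spec.map (CommRingCat.ofHom ψ)) ≫ α, IsIso.hom_inv_id_assoc _ _, ?_⟩
    rw [Category.assoc, ← hcomm, IsIso.inv_hom_id_assoc]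
  obtain ⟨b, rfl⟩ := Spec.map_surjective β
  letI : Algebra K B' := b.hom.toAlgebra
  haveI : Algebra.FiniteType K B' := (HasRingHomProperty.Spec_iff (P := @LocallyOfFiniteType)).1 hβ
  haveI : IsLocalHom ψ := IsLocalHom.of_surjective ψ hψ
  let k' := IsLocalRing.ResidueField B'
  haveI : Algebra.FiniteType K k' :=
    Algebra.FiniteType.trans (S := B') inferInstance
      (Algebra.FiniteType.of_surjective (Algebra.ofId B' k') IsLocalRing.residue_surjective)
  haveI : Module.Finite K k' := finite_of_finite_type_of_isJacobsonRing K k'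
  have hbij : Function.Bijective (algebraMap K k') :=
    IsAlgClosed.algebraMap_bijective_of_isIntegral (k := K) (K := k')
  let e : K ≃+* k' := RingEquiv.ofBijective _ hbij
  let res : B' →+* K := e.symm.toRingHom.comp (IsLocalRing.residue B')
  have hres : Function.Surjective res := e.symm.surjective.comp IsLocalRing.residue_surjective
  have hres0 : ∀ x, res x = 0 ↔ x ∈ IsLocalRing.maximalIdeal B' := fun x => by
    rw [← IsLocalRing.residue_eq_zero_iff]
    exact map_eq_zero_iff _ e.symm.injective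
  have hresK : ∀ a, res (algebraMap K B' a) = a := fun a => e.symm_apply_apply a
  have hεmax : ε ∈ IsLocalRing.maximalIdeal B' := by
    refine (IsLocalRing.mem_maximalIdeal _).2 fun hu => ?_
    have h0 : ψ ε = 0 := by
      rw [← RingHom.mem_ker, hker]
      exact Ideal.mem_span_singleton_self ε
    exact not_isUnit_zero (h0 ▸ hu.map ψ)
  have hεε : ε * ε = 0 := hεm ε hεmax
  let T' : Over (Spec (CommRingCat.of K)) := Over.mk (Spec.map b)
  let T₀ : Over (Spec (CommRingCat.of K)) := Over.mk (Spec.map (CommRingCat.ofHom ψ) ≫ Spec.map b)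
  let mq : T₀ ⟶ T' := Over.homMk (Spec.map (CommRingCat.ofHom ψ)) rfl
  let α₀ : T₀ ⟶ P := Over.homMk α hcomm.symm
  obtain ⟨c, hc, hcα⟩ := exists_class hP σ hσ (R := B) α₀
  let f₁ : PicF.XT C.hom T' ⟶ Spec (CommRingCat.of B') := pullback.snd C.hom T'.hom
  haveI : Flat f₁ := MorphismProperty.pullback_snd C.hom T'.hom inferInstance
  let t : PicF.XT C.hom T₀ ⟶ PicF.XT C.hom T' := PicF.XTmap C.hom mq
  have sqt : IsPullback t (pullback.snd C.hom T₀.hom) f₁ (Spec.map (CommRingCat.ofHom ψ)) :=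
    RigPoints.isPullback_XTmap C.hom mq
  haveI : IsClosedImmersion t := PicLift.closed_of_sq hψ sqt
  have hI : t.ker * t.ker = ⊥ := by
    refine Scheme.IdealSheafData.ext (funext fun V => ?_)
    rw [Scheme.IdealSheafData.ideal_mul]
    show t.ker.ideal V * t.ker.ideal V = (⊥ : Scheme.IdealSheafData _).ideal V
    rw [PicLift.ideal_ker hψ sqt V.2, ← Ideal.map_mul, hker, Ideal.span_singleton_mul_span_singleton, hεε,
      Ideal.span_singleton_eq_bot.2 rfl, Ideal.map_bot]
    simp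
  let j₀ : C.left ⟶ PicF.XT C.hom T' := pullback.lift (𝟙 _) (C.hom ≫ Spec.map (CommRingCat.ofHom res)) (by
    show 𝟙 _ ≫ C.hom = (_ ≫ _) ≫ Spec.map b
    rw [Category.id_comp, Category.assoc, ← Spec.map_comp,
      show b ≫ CommRingCat.ofHom res = 𝟙 _ from CommRingCat.hom_ext (RingHom.ext hresK), Spec.map_id,
      Category.comp_id])
  have sq₀ : IsPullback j₀ C.hom f₁ (Spec.map (CommRingCat.ofHom res)) := by
    refine IsPullback.of_right ?_ (pullback.lift_snd _ _ _) (IsPullback.of_hasPullback C.hom T'.hom)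
    rw [pullback.lift_fst]
    show IsPullback (𝟙 C.left) C.hom C.hom (Spec.map (CommRingCat.ofHom res) ≫ Spec.map b)
    rw [← Spec.map_comp,
      show b ≫ CommRingCat.ofHom res = 𝟙 _ from CommRingCat.hom_ext (RingHom.ext hresK), Spec.map_id]
    exact IsPullback.of_horiz_isIso ⟨by simp⟩
  have hann : ∀ x, x * ε = 0 ↔ res x = 0 := by
    intro x
    constructor
    · intro hx
      by_contra hne
      exact hε ((IsUnit.mul_right_eq_zero (by
        by_contra hu
        exact hne ((hres0 x).2 ((IsLocalRing.mem_maximalIdeal x).2 hu)))).1 hx)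
    · intro hx
      rw [mul_comm]
      exact hεm x ((hres0 x).1 hx)
  have hH2 : Subsingleton (Coh.HH (PicF.XT C.hom T') (ClSub.idealMod t.ker) 2) :=
    PicLift.subsingleton_smallExt hres hψ hker hann sqt sq₀ 2 h2
  obtain ⟨L₁, hL₁, hL₁i⟩ := AbDualBase.pz_invertible hc
  obtain ⟨L, hL, ⟨eL⟩⟩ := PicLift.exists_lift_closed t hI hH2 L₁ hL₁i
  have hpull : PicF.pullCl (PicF.XTmap C.hom mq) (PicF.cl L) = c :=
    ((PicGrp.cl_eq_cl_iff _ _).2 ⟨eL⟩).trans hL₁
  have hz : AbDual.IsPicZeroCl C.hom T' (PicF.cl L) := by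
    refine pz_of_pull mq (fun Ω _ s => exists_factor ψ hψ (fun x hx => ⟨2, ?_⟩) Ω s) ⟨L, rfl, hL⟩
      (hpull.symm ▸ hc)
    obtain ⟨y, rfl⟩ := Ideal.mem_span_singleton'.1 (hker ▸ RingHom.mem_ker.2 hx)
    rw [mul_pow, pow_two ε, hεε, mul_zero]
  refine ⟨(φ T' (PicF.cl L)).left, ?_, Over.w (φ T' (PicF.cl L))⟩
  show (mq ≫ φ T' (PicF.cl L)).left = _
  rw [← hP.natural _ _ mq _ hz, hpull, hcα]
  rfl

include hP hσ in
/-- The dimension of `Pic⁰` of a curve is the genus. -/
theorem topologicalKrullDim_eq (h2 : Subsingleton (Coh.HH C.left (Coh.structureModule _) 2)) :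
    letI : C.left.Over (Spec (CommRingCat.of K)) := ⟨C.hom⟩
    topologicalKrullDim P.left = (Module.finrank K (Coh.HH C.left (Coh.structureModule _) 1) : WithBot ℕ∞) := by
  letI : C.left.Over (Spec (CommRingCat.of K)) := ⟨C.hom⟩
  haveI : IsProper (C.left ↘ Spec (CommRingCat.of K)) := ‹IsProper C.hom›
  haveI := smooth hP σ hσ h2
  haveI : IsSepClosed K := inferInstance
  haveI : Nonempty P.left :=
    ⟨(φ (Over.mk (𝟙 (Spec (CommRingCat.of K)))) 1).left (IsLocalRing.closedPoint K)⟩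
  refine JacPoint.topologicalKrullDim_eq _ fun p => ?_
  obtain ⟨L, hL⟩ := exists_isCls hP σ hσ p
  exact Classifier.finrank_cotangent C.left hL

end Closed

end Groth.Agent.PicTangent.PicZeroFibre
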