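import Groth.Agent.SeesawX.PicSep
import Groth.Agent.Lib.AbDualBase

/-!
# Separatedness of the representing scheme of `Pic⁰`
-/

set_option autoImplicit false
set_option linter.style.haveILetI false
set_option linter.unusedSectionVars false
set_option backward.isDefEq.respectTransparency false
set_option backward.isDefEq.respectTransparency.types false
set_option maxHeartbeats 1000000

universe u

open CategoryTheory CategoryTheory.Limits AlgebraicGeometry TopologicalSpace Opposite
open Groth.Agent.H23.PicMul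

namespace Groth.Agent.PicTangent.PicZeroSep

open Groth.Agent Groth.Agent.SeesawX Groth.Agent.SeesawX.PicSep

variable {X S : Scheme.{u}} (f : X ⟶ S) [IsProper f] [Flat f] [LocallyOfFinitePresentation f] [GeometricallyIntegral f]

variable {P : Over S} {φ : ∀ T : Over S, PicF.Cl (PicF.XT f T) → (T ⟶ P)}
  (hP : AbDual.IsRelPicZeroK Scheme.fppfPrecoverage f P φ)

include hP in
/-- Two classes have the same point on a field valued point iff they agree on the fibre. -/
theorem fibre_eq_iff {V : Over S} {c d : PicF.Cl (PicF.XT f V)} (hc₀ : AbDual.IsPicZeroCl f V c)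
    (hd₀ : AbDual.IsPicZeroCl f V d) (y : V.left) :
    pullHom ((PicF.XTproj f V).fiberι y) c = pullHom ((PicF.XTproj f V).fiberι y) d ↔
      AbDual.ovrHom V (V.left.fromSpecResidueField y) ≫ φ V c = AbDual.ovrHom V (V.left.fromSpecResidueField y) ≫ φ V d := by
  let q := AbDual.ovrHom V (V.left.fromSpecResidueField y)
  let Ty := AbDual.ovr V (V.left.fromSpecResidueField y)
  let i : (PicF.XTproj f V).fiber y ≅ PicF.XT f Ty :=
    (isPullback_XTmap f q).isoPullback.symm
  have hi : i.hom ≫ PicF.XTmap f q = (PicF.XTproj f V).fiberι y := (isPullback_XTmap f q).isoPullback_inv_fst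
  have hi' : PicF.XTmap f q = i.inv ≫ (PicF.XTproj f V).fiberι y := by rw [← hi, Iso.inv_hom_id_assoc]
  have hc := AbDualBase.pz_invertible (A := Over.mk f) hc₀
  have hd := AbDualBase.pz_invertible (A := Over.mk f) hd₀
  rw [← hi, pullHom_comp, pullHom_comp, ← hP.natural V Ty q c hc₀, ← hP.natural V Ty q d hd₀]
  constructor
  · intro h
    have h2 := congrArg (pullHom i.inv) h
    rw [← pullHom_comp, ← pullHom_comp, ← pullHom_comp, ← pullHom_comp, Iso.inv_hom_id, Category.id_comp] at h2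
    exact congrArg (φ Ty) h2
  · intro h
    refine congrArg (pullHom i.hom) ?_
    have hinv : ∀ {e : PicF.Cl (PicF.XT f V)}, PicF.IsInvertibleCl e →
        PicF.IsInvertibleCl (pullHom (PicF.XTmap f q) e) := fun ⟨L, hL, hL'⟩ =>
      ⟨_, congrArg (pullHom (PicF.XTmap f q)) hL, PicClLib.isInvertible_pullback _ hL'⟩
    obtain ⟨L, hLc, hL⟩ := hinv hc
    obtain ⟨L', hLd, hL'⟩ := hinv hd
    obtain ⟨⟨m, hm⟩, hmm⟩ := exists_inv (X := PicF.XT f Ty) ⟨PicF.cl L', L', rfl, hL'⟩
    obtain ⟨M, rfl, hM⟩ := hm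
    obtain ⟨R, hR, hRu⟩ := hP.locallyInjective Ty _ _ (AbDualBase.pz_xtMap (B := Over.mk f) q hc₀)
      (AbDualBase.pz_xtMap (B := Over.mk f) q hd₀) h
    obtain ⟨ι, W, u, rfl⟩ := Presieve.exists_eq_ofArrows R
    haveI : Nonempty ↥(Spec (V.left.residueField y)) := inferInstanceAs (Nonempty (PrimeSpectrum (V.left.residueField y)))
    obtain ⟨j, w, -⟩ := ((Scheme.ofArrows_mem_precoverage_iff _).1 hR).1 (Classical.arbitrary ↥(Spec (V.left.residueField y)))
    have he := hRu (u j) (Presieve.ofArrows.mk j)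
    let a := (W j).fromSpecResidueField w ≫ u j
    let q' := AbDual.ovrHom Ty a
    let l : AbDual.ovr Ty a ⟶ AbDual.ovr Ty (u j) := Over.homMk ((W j).fromSpecResidueField w) (by simp [a])
    have hl : q' = l ≫ AbDual.ovrHom Ty (u j) := Over.OverMorphism.ext rfl
    have heq : pullHom (PicF.XTmap f q') (PicF.cl L) = pullHom (PicF.XTmap f q') (PicF.cl L') := by
      rw [hl, XTmap_comp, pullHom_comp, pullHom_comp, hLc, hLd]
      exact congrArg (pullHom (PicF.XTmap f l)) he
    haveI : IsIntegral (PicF.XT f Ty) := isIntegral_XT f (K := V.left.residueField y) _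
    haveI : IsIntegral (PicF.XT f (AbDual.ovr Ty a)) := isIntegral_XT f (K := (W j).residueField w) _
    have h1 : pullHom (PicF.XTmap f q') (PicF.cl (CohB1.tensorMod L M)) = 1 := by
      rw [cl_tensor, map_mul, heq, ← map_mul, mul_comm, show PicF.cl M * PicF.cl L' = 1 from hmm, map_one]
    obtain ⟨τ⟩ := triv_of_field_ext (K := V.left.residueField y) (K' := (W j).residueField w) (PicF.XTproj f Ty)
      (PicF.XTproj f (AbDual.ovr Ty a)) (PicF.XTmap f q') a (isPullback_XTmap f q')
      (isInvertible_tensor hL hM) (cl_eq_iff.1 h1).some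
    have h2 : PicF.cl L * PicF.cl M = 1 := (cl_tensor _ _).symm.trans (cl_eq_iff.2 ⟨τ⟩)
    have h3 : PicF.cl L = PicF.cl L' := by
      have := congrArg (· * PicF.cl L') h2
      rwa [mul_assoc, show PicF.cl M * PicF.cl L' = 1 from hmm, mul_one, one_mul] at this
    exact hLc.symm.trans (h3.trans hLd)

include hP in
/-- The Picard scheme is separated. -/
theorem isSeparated : IsSeparated P.hom := by
  constructor
  refine IsClosedImmersion.of_isPreimmersion _ ?_
  let Δ := pullback.diagonal P.hom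
  show IsClosed (Set.range Δ)
  let T₀ : Over S := Over.mk (pullback.fst P.hom P.hom ≫ P.hom)
  let g₀ : T₀ ⟶ P := Over.homMk (pullback.fst P.hom P.hom) rfl
  let g₀' : T₀ ⟶ P := Over.homMk (pullback.snd P.hom P.hom) pullback.condition.symm
  rw [← isOpen_compl_iff, isOpen_iff_forall_mem_open]
  intro z hz
  obtain ⟨R, hR, hRu⟩ := hP.locallySurjective T₀ g₀
  obtain ⟨ι, U, u, rfl⟩ := Presieve.exists_eq_ofArrows R
  obtain ⟨i, a, ha⟩ := ((Scheme.ofArrows_mem_precoverage_iff _).1 hR).1 z
  obtain ⟨hfl, hfp⟩ := ((Scheme.ofArrows_mem_precoverage_iff _).1 hR).2 i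
  obtain ⟨c₁, hc₁, hφ₁⟩ := hRu (u i) (Presieve.ofArrows.mk i)
  let T₁ := AbDual.ovr T₀ (u i)
  obtain ⟨R', hR', hRu'⟩ := hP.locallySurjective T₁ (AbDual.ovrHom T₀ (u i) ≫ g₀')
  obtain ⟨ι', U', u', rfl⟩ := Presieve.exists_eq_ofArrows R'
  obtain ⟨j, b, hb⟩ := ((Scheme.ofArrows_mem_precoverage_iff _).1 hR').1 a
  obtain ⟨hfl', hfp'⟩ := ((Scheme.ofArrows_mem_precoverage_iff _).1 hR').2 j
  obtain ⟨d, hd, hφd⟩ := hRu' (u' j) (Presieve.ofArrows.mk j)
  let V := AbDual.ovr T₁ (u' j)
  let w : V.left ⟶ pullback P.hom P.hom := u' j ≫ u i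
  let c := pullHom (PicF.XTmap f (AbDual.ovrHom T₁ (u' j))) c₁
  have hc₀ : AbDual.IsPicZeroCl f V c := AbDualBase.pz_xtMap (B := Over.mk f) (AbDual.ovrHom T₁ (u' j)) hc₁
  have hc : PicF.IsInvertibleCl c := AbDualBase.pz_invertible (A := Over.mk f) hc₀
  have hd₀ := hd
  replace hd : PicF.IsInvertibleCl d := AbDualBase.pz_invertible (A := Over.mk f) hd₀
  have hφc : (φ V c).left = w ≫ pullback.fst P.hom P.hom := by
    rw [show φ V c = AbDual.ovrHom T₁ (u' j) ≫ φ T₁ c₁ from hP.natural T₁ V (AbDual.ovrHom T₁ (u' j)) c₁ hc₁, hφ₁]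
    exact (Category.assoc _ _ _).symm
  have hφd' : (φ V d).left = w ≫ pullback.snd P.hom P.hom := by
    rw [hφd]
    exact (Category.assoc _ _ _).symm
  obtain ⟨L, hLc, hL⟩ := hc
  obtain ⟨L', hLd, hL'⟩ := hd
  obtain ⟨⟨m, hm⟩, hmm⟩ := exists_inv (X := PicF.XT f V) ⟨PicF.cl L', L', rfl, hL'⟩
  obtain ⟨M, rfl, hM⟩ := hm
  let A : Set V.left := {y | Nonempty ((Scheme.Modules.pullback ((PicF.XTproj f V).fiberι y)).obj (CohB1.tensorMod L M) ≅
    Coh.structureModule ((PicF.XTproj f V).fiber y))}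
  have hA : IsClosed A := isClosed_fibre_trivial (PicF.XTproj f V) (isInvertible_tensor hL hM)
  have key : ∀ y, y ∈ A ↔ w y ∈ Set.range Δ := by
    intro y
    let r := (PicF.XTproj f V).fiberι y
    have h1 : y ∈ A ↔ pullHom r c = pullHom r d := by
      refine cl_eq_iff.symm.trans ?_
      show pullHom r (PicF.cl (CohB1.tensorMod L M)) = 1 ↔ _
      rw [cl_tensor, map_mul, ← hLd, show c = PicF.cl L from hLc.symm]
      constructor
      · intro h
        have := congrArg (· * pullHom r (PicF.cl L')) h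
        rwa [mul_assoc, ← map_mul, show PicF.cl M * PicF.cl L' = 1 from hmm, map_one, mul_one, one_mul] at this
      · intro h
        rw [h, ← map_mul, mul_comm, show PicF.cl M * PicF.cl L' = 1 from hmm, map_one]
    refine h1.trans ((fibre_eq_iff f hP hc₀ hd₀ y).trans ?_)
    let e := V.left.fromSpecResidueField y ≫ w
    have h2 : (AbDual.ovrHom V (V.left.fromSpecResidueField y) ≫ φ V c =
        AbDual.ovrHom V (V.left.fromSpecResidueField y) ≫ φ V d) ↔
          e ≫ pullback.fst P.hom P.hom = e ≫ pullback.snd P.hom P.hom := by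
      rw [show e ≫ pullback.fst P.hom P.hom = V.left.fromSpecResidueField y ≫ (φ V c).left from by rw [hφc]; exact Category.assoc _ _ _,
        show e ≫ pullback.snd P.hom P.hom = V.left.fromSpecResidueField y ≫ (φ V d).left from by rw [hφd']; exact Category.assoc _ _ _]
      exact ⟨fun h => congrArg CommaMorphism.left h, fun h => Over.OverMorphism.ext h⟩
    refine h2.trans ⟨fun h => ?_, fun h => ?_⟩
    · have he : e = (e ≫ pullback.fst P.hom P.hom) ≫ Δ := by
        refine pullback.hom_ext ?_ ?_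
        · simp [Δ]
        · simp [Δ, h]
      refine ⟨(e ≫ pullback.fst P.hom P.hom) (IsLocalRing.closedPoint _), ?_⟩
      rw [← Scheme.Hom.comp_apply, ← he, Scheme.Hom.comp_apply, Scheme.fromSpecResidueField_apply]
    · obtain ⟨l, hl⟩ := (mem_range_iff_factor Δ (w y)).1 h
      have he : e = (Spec.map (w.residueFieldMap y) ≫ l) ≫ Δ := by
        rw [Category.assoc, hl, Scheme.Hom.SpecMap_residueFieldMap_fromSpecResidueField]
      rw [he]
      simp [Δ]
  haveI : Flat w := MorphismProperty.comp_mem _ _ _ hfl' hfl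
  haveI : LocallyOfFinitePresentation w := MorphismProperty.comp_mem _ _ _ hfp' hfp
  refine ⟨w '' Aᶜ, ?_, w.isOpenMap _ hA.isOpen_compl, ⟨b, fun hbA => hz ?_, ?_⟩⟩
  · rintro _ ⟨y, hy, rfl⟩ h
    exact hy ((key y).2 h)
  · have hbz : w b = z := by rw [← ha, ← hb]; rfl
    exact hbz ▸ (key b).1 hbA
  · show w b = z
    rw [← ha, ← hb]; rfl

end Groth.Agent.PicTangent.PicZeroSep
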