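import Groth.Agent.PicTangent.AbelEmb
import Groth.Agent.PicTangent.PicZeroSep
import Groth.Agent.PicTangent.PicZeroFibre
import Groth.Agent.FlatMisc.Fibrewise
import Groth.Agent.H23.RigidGamma
import Mathlib.AlgebraicGeometry.Morphisms.LocalFlatDescent
import Mathlib.AlgebraicGeometry.Morphisms.FlatMono

/-!
# An elliptic curve is its own `Pic⁰`
-/

set_option autoImplicit false
set_option linter.style.haveILetI false
set_option linter.unusedSectionVars false
set_option backward.isDefEq.respectTransparency false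
set_option backward.isDefEq.respectTransparency.types false
set_option maxHeartbeats 1000000

universe u

open CategoryTheory CategoryTheory.Limits AlgebraicGeometry TopologicalSpace

noncomputable section

namespace Groth.Agent.PicTangent.Elliptic

open Groth.Agent Groth.Agent.H23 Groth.Agent.H23.PicMul Groth.Agent.H26 Groth.Agent.Pic13Lib
  Groth.Agent.PicTangent.JacDiff
open scoped Groth.Agent.H23.PicMul

attribute [local instance] PicMul.clMonoid

variable {E S : Scheme.{u}} (f : E ⟶ S) [IsProper f] [SmoothOfRelativeDimension 1 f]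
  (e : S ⟶ E) (he : e ≫ f = 𝟙 S)

/-- The constant section on a test scheme. -/
abbrev origin (T : Over S) : T ⟶ Over.mk f :=
  Over.homMk (T.hom ≫ e) (by
    show (T.hom ≫ e) ≫ f = T.hom
    rw [Category.assoc, he, Category.comp_id])

theorem comp_origin {T T' : Over S} (g : T' ⟶ T) : g ≫ origin f e he T = origin f e he T' :=
  Over.OverMorphism.ext (by
    show g.left ≫ T.hom ≫ e = T'.hom ≫ e
    rw [← Category.assoc, Over.w g])

include he in
theorem isEffCartier_e : BlowUp.IsEffCartierIdeal e.ker := by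
  haveI : IsClosedImmersion e := by
    haveI : IsClosedImmersion (e ≫ f) := by rw [he]; infer_instance
    exact IsClosedImmersion.of_comp e f
  exact RelCurveDiv.isEffCartier_of_isDiv f (d := 1) (by
    show Mor2.IsFinLocFreeOfDeg 1 (e.ker.subschemeι ≫ f)
    rw [HilbDLib.finLocFreeOfDeg_ker, he]
    exact RelCurveDiv.isFinLocFreeOfDeg_one_id S)

theorem cl_pullback_e :
    PicF.cl ((Scheme.Modules.pullback (pullback.fst f f)).obj (ClSub.idealMod e.ker)) =
      pt f (Over.mk f) (origin f e he (Over.mk f)) := by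
  haveI : IsClosedImmersion e := by
    haveI : IsClosedImmersion (e ≫ f) := by rw [he]; infer_instance
    exact IsClosedImmersion.of_comp e f
  let s : E ⟶ pullback f f := pullback.lift (f ≫ e) (𝟙 E) (by rw [Category.assoc, he, Category.comp_id, Category.id_comp])
  have hw : s ≫ pullback.fst f f = f ≫ e := pullback.lift_fst _ _ _
  have hlim : IsLimit (PullbackCone.mk s f hw) := by
    refine PullbackCone.IsLimit.mk _ (fun c => c.fst ≫ pullback.snd f f) (fun c => ?_) (fun c => ?_)
      (fun c m h1 _ => ?_)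
    · refine pullback.hom_ext ?_ ?_
      · simp only [Category.assoc, s, pullback.lift_fst]
        rw [← reassoc_of% (pullback.condition (f := f) (g := f)), reassoc_of% c.condition, reassoc_of% he]
        exact c.condition.symm
      · simp only [Category.assoc, s, pullback.lift_snd, Category.comp_id]
    · have h := congrArg (· ≫ f) c.condition
      simp only [Category.assoc, he, Category.comp_id] at h
      rw [Category.assoc, ← pullback.condition]
      exact h
    · rw [← h1, Category.assoc, pullback.lift_snd, Category.comp_id]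
  have H : IsPullback s f (pullback.fst f f) e := IsPullback.of_isLimit hlim
  have hcomap : e.ker.comap (pullback.fst f f) = s.ker := by
    rw [← Scheme.IdealSheafData.ker_fst_of_isClosedImmersion, ← H.isoPullback_hom_fst,
      Scheme.Hom.ker_comp_of_isIso]
  obtain ⟨i⟩ := InterDiv.nonempty_pullback_idealMod (pullback.fst f f) e.ker (isEffCartier_e f e he)
    (hcomap ▸ isEffCartier_sec f (Over.mk f) (origin f e he (Over.mk f)))
  rw [hcomap] at i
  exact PicMul.cl_eq_iff.2 ⟨i⟩

variable [GeometricallyConnected f] (hdim : ∀ s : S, topologicalKrullDim ↥(f.fiber s) = 1)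

section Degrees

variable {Ω : Type u} [Field Ω] (b : Spec (CommRingCat.of Ω) ⟶ S)

include hdim in
theorem deg_fibre (t : (Over.mk b).left) {L : (PicF.XT f (Over.mk b)).Modules} (hL : PicF.IsInvertible L) :
    letI := overX f b
    FGA.eulerCharLE ((Over.mk b).left.residueField t) (FGA.fibreAt f (Over.mk b) t).left
        (FGA.restrFibre f (Over.mk b) t L) 1 -
      FGA.eulerCharLE ((Over.mk b).left.residueField t) (FGA.fibreAt f (Over.mk b) t).left
        (Coh.structureModule (FGA.fibreAt f (Over.mk b) t).left) 1 =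
      Curv2.deg Ω (PicF.XT f (Over.mk b)) L 1 := by
  letI := overX f b
  haveI : IsProper (PicF.XT f (Over.mk b) ↘ Spec (CommRingCat.of Ω)) :=
    inferInstanceAs (IsProper (pullback.snd f b))
  have hd1 : topologicalKrullDim ↥(PicF.XT f (Over.mk b)) ≤ ((1 : ℕ) : WithBot ℕ∞) := by
    rw [dim_X f b hdim]
    rfl
  have hqO := JacPoint.isQCoh_of_isInvertible (PicLoc.isInvertible_structureModule (PicF.XT f (Over.mk b)))
  obtain ⟨e⟩ : Nonempty (FGA.restrFibre f (Over.mk b) t (Coh.structureModule (PicF.XT f (Over.mk b))) ≅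
      Coh.structureModule (FGA.fibreAt f (Over.mk b) t).left) := PicMul.cl_eq_iff.1 (PicMul.pullCl_one _)
  unfold Curv2.deg
  rw [Nat.cast_one, one_mul, fibre_euler f b t (JacPoint.isQCoh_of_isInvertible hL),
    ← Pic13Lib.eulerCharLE_eq (k := Ω) hd1 (JacPoint.isQCoh_of_isInvertible hL),
    ← Pic13Lib.eulerCharLE_eq (k := Ω) hd1 hqO, ← fibre_euler f b t hqO]
  congr 1
  unfold FGA.eulerCharLE
  exact Finset.sum_congr rfl fun i _ => congrArg (fun n : ℕ => (-1 : ℤ) ^ i * (n : ℤ))
    (CurveCohLib.hhEquiv (k := (Over.mk b).left.residueField t) e i).finrank_eq.symm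

end Degrees

include hdim in
theorem deg_eq {T : Over S} {Ω : Type u} [Field Ω] (σ : Spec (CommRingCat.of Ω) ⟶ T.left)
    {L : (PicF.XT f T).Modules} (hL : PicF.IsInvertible L) {M : (PicF.XT f (Over.mk (σ ≫ T.hom))).Modules}
    (hM : PicF.IsInvertible M)
    (h : PicF.pullCl (PicF.XTmap f (Over.homMk σ rfl : Over.mk (σ ≫ T.hom) ⟶ T)) (PicF.cl L) = PicF.cl M)
    (z : (Over.mk (σ ≫ T.hom)).left) :
    letI := overX f (σ ≫ T.hom)
    FGA.eulerCharLE (T.left.residueField (σ z)) (FGA.fibreAt f T (σ z)).left (FGA.restrFibre f T (σ z) L) 1 -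
      FGA.eulerCharLE (T.left.residueField (σ z)) (FGA.fibreAt f T (σ z)).left
        (Coh.structureModule (FGA.fibreAt f T (σ z)).left) 1 =
      Curv2.deg Ω (PicF.XT f (Over.mk (σ ≫ T.hom))) M 1 := by
  haveI : Smooth f := SmoothOfRelativeDimension.smooth 1 f
  rw [← deg_fibre f hdim (σ ≫ T.hom) z hM, ← S12409.deg_eq_charLE f hdim T L hL, ← S12409.deg_eq_charLE f hdim _ M hM]
  exact (S12409.deg_bc f _ L hL M h z).symm

include hdim in
/-- Classes of degree zero on all geometric fibres are in `Pic⁰`. -/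
theorem pz_of_deg0 {T : Over S} {c : PicF.Cl (PicF.XT f T)} (hc : PicF.IsInvertibleCl c)
    (h : ∀ (Ω : Type u) [Field Ω] [IsAlgClosed Ω] (σ : Spec (CommRingCat.of Ω) ⟶ T.left),
      Deg0 f (σ ≫ T.hom) (PicF.pullCl (PicF.XTmap f (Over.homMk σ rfl : Over.mk (σ ≫ T.hom) ⟶ T)) c)) :
    AbDual.IsPicZeroCl f T c := by
  haveI : Smooth f := SmoothOfRelativeDimension.smooth 1 f
  obtain ⟨L, rfl, hL⟩ := hc
  refine ⟨L, rfl, hL, fun t Ω _ _ σ hσ => ?_⟩
  let z : (Over.mk (σ ≫ T.hom)).left := (IsLocalRing.closedPoint Ω : PrimeSpectrum Ω)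
  have hz : σ z = t := Set.range_eq_singleton_iff.1 hσ _
  subst hz
  refine (JacDeg.algEquivZero_iff f hdim T σ _ rfl L hL).2 ?_
  have hM := PicClLib.isInvertible_pullback (PicF.XTmap f (Over.homMk σ rfl : Over.mk (σ ≫ T.hom) ⟶ T)) hL
  exact (deg_eq f hdim σ hL hM rfl z).trans (h Ω σ _ rfl)

include hdim in
/-- A class in `Pic⁰` over an algebraically closed field has degree zero. -/
theorem deg0_of_pz {Ω : Type u} [Field Ω] [IsAlgClosed Ω] (b : Spec (CommRingCat.of Ω) ⟶ S)
    {c : PicF.Cl (PicF.XT f (Over.mk b))} (hc : AbDual.IsPicZeroCl f (Over.mk b) c) : Deg0 f b c := by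
  haveI : Smooth f := SmoothOfRelativeDimension.smooth 1 f
  intro M hM
  obtain ⟨L, rfl, hL, h⟩ := hc
  obtain ⟨i⟩ := PicMul.cl_eq_iff.1 hM
  let T : Over S := Over.mk b
  let z : T.left := (IsLocalRing.closedPoint Ω : PrimeSpectrum Ω)
  let σ : Spec (CommRingCat.of Ω) ⟶ T.left := 𝟙 _
  have h1 := (JacDeg.algEquivZero_iff f hdim T σ z rfl L hL).1 (h z Ω σ (by
    haveI : Subsingleton ↥(Spec (CommRingCat.of Ω)) := inferInstanceAs (Subsingleton (PrimeSpectrum Ω))
    exact Set.range_eq_singleton_iff.2 fun y => Subsingleton.elim (α := ↥(Spec (CommRingCat.of Ω))) _ _))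
  rw [deg_fibre f hdim b z hL] at h1
  letI := overX f b
  haveI := JacDeg.geometricallyIntegral f
  haveI := isIntegral_X f b
  haveI : IsProper (PicF.XT f (Over.mk b) ↘ Spec (CommRingCat.of Ω)) :=
    inferInstanceAs (IsProper (pullback.snd f b))
  rw [CurveRR.deg_congr Ω i 1]
  exact h1

variable (hg : ∀ s : S, CohIII.fiberRank f (Coh.structureModule E) 1 s = 1)

include hdim hg in
/-- On a curve of genus one, a class of degree zero is the difference of a point and the origin. -/
theorem exists_point {Ω : Type u} [Field Ω] [IsAlgClosed Ω] (b : Spec (CommRingCat.of Ω) ⟶ S)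
    {c : PicF.Cl (PicF.XT f (Over.mk b))} (hc : PicF.IsInvertibleCl c) (h : Deg0 f b c) :
    ∃ a : Over.mk b ⟶ Over.mk f, c = δ f (Over.mk b) (origin f e he (Over.mk b)) a := by
  haveI : Smooth f := SmoothOfRelativeDimension.smooth 1 f
  haveI := JacDeg.geometricallyIntegral f
  letI := overX f b
  let X := PicF.XT f (Over.mk b)
  haveI : IsProper (X ↘ Spec (CommRingCat.of Ω)) := inferInstanceAs (IsProper (pullback.snd f b))
  haveI : Smooth (X ↘ Spec (CommRingCat.of Ω)) := inferInstanceAs (Smooth (pullback.snd f b))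
  haveI : IsIntegral X := isIntegral_X f b
  have hX : topologicalKrullDim X = 1 := dim_X f b hdim
  haveI := CurveCohLib.isNoetherian_of_proper (k := Ω) (X := X)
  let e₀ := origin f e he (Over.mk b)
  obtain ⟨L, rfl, hL⟩ := hc
  obtain ⟨J, hJc, hJ⟩ := ptInv_invertible f (Over.mk b) e₀
  have hdJ := AbelSec.deg_ptInv f b e₀ hdim hJ hJc
  let N := CohB1.tensorMod L J
  have hN : PicF.IsInvertible N := PicMul.isInvertible_tensor hL hJ
  have hdN : Curv2.deg Ω X N 1 = 1 := by rw [CurveAlgEq.deg_tensorMod hX hL hJ, h L rfl, hdJ, zero_add]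
  have hχ : Curv2.euler Ω X (Coh.structureModule X) = 0 := by
    rw [CurveRR.euler_eq_h0_sub_h1 Ω hX.le QCoh.isQCoh_structureModule,
      CurveCohLib.finrank_h0_eq_one Ω X, AbelSec.genus_fibre f b, hg]
    simp
  have h0 : Module.finrank Ω (Coh.HH X N 0) ≠ 0 := by
    have h1 := CurveSlope.euler_le_h0 Ω hX.le (CurveDeg.isCoh_of_isInvertible hN)
    have h2 := hdN
    unfold Curv2.deg at h2
    simp only [Nat.cast_one, one_mul] at h2
    omega
  obtain ⟨p, hp, hp0⟩ := CurveAlgEq.exists_pt hX hN (by omega) h0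
  obtain ⟨a, ha⟩ := exists_pt f b p hp
  have hI := CurvePoint.isInvertible_ptMod p hp Ω hX
  have hNp := PicMul.isInvertible_tensor hN hI
  obtain ⟨s, hs⟩ := CurveRR.exists_hom_ne_zero (P := CohB1.tensorMod N (CurvePoint.ptMod p hp)) Ω hp0
  obtain ⟨-, h2⟩ := CurveDeg.deg_le_and_isIso Ω hX.le CurveDeg.isInvertible_structureModule hNp s hs
  haveI := h2 (by
    rw [CurveDeg.deg_structureModule, CurveAlgEq.deg_tensorMod hX hN hI, hdN, CurvePoint.deg_ptMod p hp Ω]
    norm_num)
  have h1 : PicF.cl L * ptInv f (Over.mk b) e₀ * pt f (Over.mk b) a = 1 := by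
    rw [ha, ← hJc, ← PicMul.cl_tensor, ← PicMul.cl_tensor, PicMul.one_def]
    exact (PicMul.cl_eq_iff.2 ⟨asIso s⟩).symm
  refine ⟨a, ?_⟩
  calc PicF.cl L = PicF.cl L * (pt f (Over.mk b) e₀ * ptInv f (Over.mk b) e₀) *
        (pt f (Over.mk b) a * ptInv f (Over.mk b) a) := by rw [pt_mul_ptInv, pt_mul_ptInv, mul_one, mul_one]
    _ = (PicF.cl L * ptInv f (Over.mk b) e₀ * pt f (Over.mk b) a) *
        (pt f (Over.mk b) e₀ * ptInv f (Over.mk b) a) := by ac_rfl
    _ = _ := by rw [h1, one_mul]; rfl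

variable (P₀ : Over S) (φ₀ : ∀ T : Over S, PicF.Cl (PicF.XT f T) → (T ⟶ P₀))
  (hP₀ : AbDual.IsRelPicZeroK Scheme.fppfPrecoverage f P₀ φ₀)

include hP₀ in
/-- Geometric points of `Pic⁰` are classes. -/
theorem exists_class {Ω : Type u} [Field Ω] [IsAlgClosed Ω] {b : Spec (CommRingCat.of Ω) ⟶ S}
    (g₀ : Over.mk b ⟶ P₀) : ∃ c, AbDual.IsPicZeroCl f (Over.mk b) c ∧ φ₀ (Over.mk b) c = g₀ := by
  let T : Over S := Over.mk b
  obtain ⟨R, hR, hR'⟩ := hP₀.locallySurjective T g₀
  obtain ⟨U, w, -, hlp, hcv, hw⟩ := RigPoints.exists_family hR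
  obtain ⟨i, x, hx⟩ := hcv ((IsLocalRing.closedPoint Ω : PrimeSpectrum Ω) : T.left)
  haveI := hlp i
  obtain ⟨s, hs⟩ := AVPoincareExist.exists_lift (w i) (Ω := Ω) (𝟙 (Spec (CommRingCat.of Ω))) (x := x)
    (hx.trans rfl)
  let h : T ⟶ AbDual.ovr T (w i) := Over.homMk s (by
    show s ≫ w i ≫ b = b
    rw [← Category.assoc, hs]
    exact Category.id_comp b)
  have hh : h ≫ AbDual.ovrHom T (w i) = 𝟙 T := Over.OverMorphism.ext hs
  obtain ⟨c₁, hc₁, hφc₁⟩ := hR' (w i) (hw i)
  exact ⟨PicF.pullCl (PicF.XTmap f h) c₁, AbDualBase.pz_xtMap (B := Over.mk f) h hc₁, by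
    rw [hP₀.natural _ _ _ _ hc₁, hφc₁, ← Category.assoc, hh, Category.id_comp]⟩

include hdim hP₀ in
/-- The geometric fibres of `Pic⁰` are smooth, hence the fibres. -/
theorem smooth_fibre [LocallyOfFinitePresentation P₀.hom] (s : S) : Smooth (P₀.hom.fiberToSpecResidueField s) := by
  haveI : Smooth f := SmoothOfRelativeDimension.smooth 1 f
  let k := S.residueField s
  let K := AlgebraicClosure k
  let v₀ : Spec (CommRingCat.of K) ⟶ Spec k := Spec.map (CommRingCat.ofHom (algebraMap k K))
  let v : Spec (CommRingCat.of K) ⟶ S := v₀ ≫ S.fromSpecResidueField s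
  let C' := Red.bc v (Over.mk f)
  let P' := Red.bc v P₀
  haveI : IsProper C'.hom := inferInstanceAs (IsProper (pullback.snd f v))
  haveI : Smooth C'.hom := inferInstanceAs (Smooth (pullback.snd f v))
  haveI : GeometricallyConnected C'.hom := inferInstanceAs (GeometricallyConnected (pullback.snd f v))
  haveI : LocallyOfFiniteType P'.hom := inferInstanceAs (LocallyOfFiniteType (pullback.snd P₀.hom v))
  letI : C'.left.Over (Spec (CommRingCat.of K)) := ⟨C'.hom⟩
  haveI : IsProper (C'.left ↘ Spec (CommRingCat.of K)) := ‹IsProper C'.hom›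
  haveI := CurveCohLib.isNoetherian_of_proper (k := K) (X := C'.left)
  haveI : C'.left.IsSeparated := ⟨by
    rw [← Limits.terminal.comp_from C'.hom]
    infer_instance⟩
  have hdimC : topologicalKrullDim ↥C'.left = 1 := dim_X f v hdim
  haveI : Nonempty ↥C'.left := by
    haveI := JacDeg.geometricallyIntegral f
    haveI : IsIntegral C'.left := isIntegral_X f v
    infer_instance
  have h2 : Subsingleton (Coh.HH C'.left (Coh.structureModule _) 2) :=
    Snapper.subsingleton_HH_of_dim_le (d := 1) hdimC.le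
      (JacPoint.isQCoh_of_isInvertible (PicLoc.isInvertible_structureModule _)) Nat.one_lt_two
  obtain ⟨σ, hσ⟩ := PicZeroFibre.exists_section (C := C')
  haveI : Smooth P'.hom := PicZeroFibre.smooth (PicZeroFibre.isRelPicZeroK_bc v (A := Over.mk f) hP₀) σ hσ h2
  have sqP : IsPullback (pullback.lift (pullback.fst P₀.hom v) (pullback.snd P₀.hom v ≫ v₀)
      (by rw [Category.assoc]; exact pullback.condition) : P'.left ⟶ P₀.hom.fiber s)
      P'.hom (P₀.hom.fiberToSpecResidueField s) v₀ := by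
    refine IsPullback.of_right ?_ (pullback.lift_snd _ _ _)
      (IsPullback.of_hasPullback P₀.hom (S.fromSpecResidueField s))
    rw [pullback.lift_fst]
    exact IsPullback.of_hasPullback P₀.hom v
  haveI : Flat v₀ := by
    rw [Flat.SpecMap_iff]
    exact RingHom.flat_algebraMap_iff.2 inferInstance
  haveI : Surjective v₀ := ⟨fun z => by
    haveI : Nonempty ↥(Spec (CommRingCat.of K)) := inferInstanceAs (Nonempty (PrimeSpectrum K))
    haveI : Subsingleton ↥(Spec k) := inferInstanceAs (Subsingleton (PrimeSpectrum k))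
    exact ⟨Classical.arbitrary _, Subsingleton.elim _ _⟩⟩
  exact MorphismProperty.of_isPullback_of_descendsAlong (P := @Smooth)
    (Q := @Surjective ⊓ @Flat ⊓ @QuasiCompact) sqP.flip
    ⟨⟨‹Surjective v₀›, ‹Flat v₀›⟩, inferInstance⟩ ‹Smooth P'.hom›

include hdim hg he hP₀ in
/-- The Abel map of an elliptic curve onto `Pic⁰` is an isomorphism. -/
theorem isIso_abel [LocallyOfFinitePresentation P₀.hom] {LΔ : (PicF.XT f (Over.mk f)).Modules}
    (hΔ : ClSub.IsInverseOf LΔ (ClSub.idealMod (pullback.diagonal f).ker)) :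
    IsIso (φ₀ (Over.mk f) (PicF.cl (CohB1.tensorMod LΔ
      ((Scheme.Modules.pullback (pullback.fst f f)).obj (ClSub.idealMod e.ker))))).left := by
  haveI : Smooth f := SmoothOfRelativeDimension.smooth 1 f
  haveI := JacDeg.geometricallyIntegral f
  let c := PicF.cl (CohB1.tensorMod LΔ ((Scheme.Modules.pullback (pullback.fst f f)).obj (ClSub.idealMod e.ker)))
  have hc : c = δ f (Over.mk f) (origin f e he (Over.mk f)) (𝟙 (Over.mk f)) := by
    show PicF.cl _ = _
    rw [PicMul.cl_tensor, cl_pullback_e f e he, AbelEmb.cl_eq_ptInv f hΔ, mul_comm]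
    rfl
  have hpz : AbDual.IsPicZeroCl f (Over.mk f) c := by
    rw [hc]
    refine pz_of_deg0 f hdim (δ_invertible f _ _ _) fun Ω _ _ σ => ?_
    rw [pull_δ]
    exact deg0_δ f _ hdim _ _
  let α := φ₀ (Over.mk f) c
  let h : E ⟶ P₀.left := α.left
  have hhf : h ≫ P₀.hom = f := Over.w α
  have pull : ∀ (T : Over S) (u : T ⟶ Over.mk f),
      PicF.pullCl (PicF.XTmap f u) c = δ f T (origin f e he T) u := fun T u => by
    rw [hc, pull_δ, comp_origin, Category.comp_id]
  have key : ∀ (T : Over S) (u : T ⟶ Over.mk f), u ≫ α = φ₀ T (δ f T (origin f e he T) u) := fun T u => by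
    show u ≫ φ₀ (Over.mk f) c = _
    rw [← hP₀.natural _ _ _ _ hpz, pull]
  haveI : IsSeparated P₀.hom := PicZeroSep.isSeparated f hP₀
  haveI : IsProper (h ≫ P₀.hom) := by rw [hhf]; infer_instance
  haveI : IsProper h := IsProper.of_comp h P₀.hom
  haveI : IsClosedImmersion h := AbelEmb.isClosedImmersion_of_points h fun {A} _ _ _ γ γ' e' => by
    let v := γ ≫ f
    have hv : γ' ≫ f = v := by
      show γ' ≫ f = γ ≫ f
      rw [← hhf, reassoc_of% e']
    let a : Over.mk v ⟶ Over.mk f := Over.homMk γ rfl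
    let a' : Over.mk v ⟶ Over.mk f := Over.homMk γ' hv
    have h1 : a ≫ α = a' ≫ α := Over.OverMorphism.ext e'
    rw [key, key] at h1
    obtain ⟨R, hR, hR'⟩ := hP₀.locallyInjective (Over.mk v) _ _
      (pull _ a ▸ AbDualBase.pz_xtMap (B := Over.mk f) a hpz)
      (pull _ a' ▸ AbDualBase.pz_xtMap (B := Over.mk f) a' hpz) h1
    refine congrArg CommaMorphism.left (AbelEmb.eq_of_local f hdim (fun s => (hg s).ge) v a a' hR fun U w hw => ?_)
    have h2 := hR' w hw
    rw [δ, δ, PicMul.pullCl_mul, PicMul.pullCl_mul] at h2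
    have hu := PicMul.isUnit_of_isInvertibleCl (PicLoc.isInvertibleCl_pullCl
      (PicF.XTmap f (AbDual.ovrHom (Over.mk v) w)) (pt_invertible f (Over.mk v) (origin f e he (Over.mk v))))
    exact hu.mul_left_cancel h2
  haveI : Surjective h := ⟨fun p => by
    obtain ⟨Ω, hΩ, hΩ', q, hq⟩ := JacProper.exists_geomPoint p
    let b := q ≫ P₀.hom
    let g₀ : Over.mk b ⟶ P₀ := Over.homMk q rfl
    obtain ⟨cq, hcq, hcg⟩ := exists_class f P₀ φ₀ hP₀ g₀
    obtain ⟨a, ha⟩ := exists_point f e he hdim hg b (AbDualBase.pz_invertible (A := Over.mk f) hcq)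
      (deg0_of_pz f hdim b hcq)
    have h1 : a ≫ α = g₀ := by rw [key, ← ha, hcg]
    refine ⟨a.left (IsLocalRing.closedPoint Ω : PrimeSpectrum Ω), ?_⟩
    rw [← hq]
    show (a ≫ α).left _ = g₀.left _
    rw [h1]⟩
  haveI : LocallyOfFinitePresentation (h ≫ P₀.hom) := by rw [hhf]; infer_instance
  haveI : Flat (h ≫ P₀.hom) := by rw [hhf]; infer_instance
  haveI : Flat h := FlatMisc.flat_of_flat_fibres P₀.hom h fun s => by
    haveI := smooth_fibre f hdim P₀ φ₀ hP₀ s
    haveI : GeometricallyReduced (P₀.hom.fiberToSpecResidueField s) :=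
      H23.RigidGamma.geometricallyReduced_of_smooth _
    haveI : IsReduced (P₀.hom.fiber s) := GeometricallyReduced.isReduced_of_flat_of_isLocallyNoetherian
      (P₀.hom.fiberToSpecResidueField s)
    haveI : IsClosedImmersion (pullback.snd h (P₀.hom.fiberι s)) :=
      MorphismProperty.pullback_snd _ _ inferInstance
    haveI : Surjective (pullback.snd h (P₀.hom.fiberι s)) := MorphismProperty.pullback_snd _ _ inferInstance
    haveI : IsIso (pullback.snd h (P₀.hom.fiberι s)) := isIso_of_isClosedImmersion_of_surjective _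
    infer_instance
  haveI : QuasiCompact h := inferInstance
  exact Flat.isIso_of_surjective_of_mono h

end Groth.Agent.PicTangent.Elliptic
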