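import Groth.Agent.PicTangent.JacProper
import Groth.Agent.CurveEmbed.DegOne
import Groth.Agent.CurveEmbed.P1
import Groth.Agent.CurveEmbed.Equiv
import Groth.Agent.CurveBC.Coh
import Groth.Agent.H23.EndInv
import Mathlib.RingTheory.Artinian.Module

/-!
# Sections of the inverse of the ideal of a point on a curve of positive genus
-/

set_option autoImplicit false
set_option linter.style.haveILetI false
set_option linter.unusedSectionVars false
set_option backward.isDefEq.respectTransparency false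
set_option backward.isDefEq.respectTransparency.types false
set_option maxHeartbeats 1000000

universe u

open CategoryTheory CategoryTheory.Limits AlgebraicGeometry TopologicalSpace Opposite

noncomputable section

namespace Groth.Agent.PicTangent.AbelSec

open Groth.Agent Groth.Agent.H23 Groth.Agent.H23.PicMul Groth.Agent.H26 Groth.Agent.Pic13Lib Groth.Agent.PicTangent.JacDiff
open scoped Groth.Agent.H23.PicMul

attribute [local instance] PicMul.clMonoid

section Algebra

/-- A form without annihilator generates the forms of a finite module over an Artinian local ring whose forms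
with values in a field make up a line. -/
theorem forms_eq_multiples {A : Type u} [CommRing A] [IsArtinianRing A] [IsLocalRing A] {Ω : Type u} [Field Ω]
    [Algebra A Ω] {Q : Type u} [AddCommGroup Q] [Module A Q] [Module.Finite A Q]
    (hline : ∀ g g' : Q →ₗ[A] Ω, g ≠ 0 → ∃ c : Ω, g' = LinearMap.mulLeft A c ∘ₗ g)
    (u : Q →ₗ[A] A) (hu : ∀ r : A, LinearMap.mulLeft A r ∘ₗ u = 0 → r = 0) (w : Q →ₗ[A] A) :
    ∃ r : A, w = LinearMap.mulLeft A r ∘ₗ u := by
  classical
  let m := IsLocalRing.maximalIdeal A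
  let N : Submodule A Q := m • ⊤
  have hker : RingHom.ker (algebraMap A Ω) = m := by
    haveI : (RingHom.ker (algebraMap A Ω)).IsPrime := RingHom.ker_isPrime _
    exact IsLocalRing.eq_maximalIdeal (IsArtinianRing.isMaximal_of_isPrime _)
  letI : Field (A ⧸ m) := Ideal.Quotient.field m
  let ι : (A ⧸ m) →ₐ[A] Ω := Ideal.Quotient.liftₐ m (Algebra.ofId A Ω) fun x hx =>
    RingHom.mem_ker.1 (hker.ge hx)
  have hgen : ∃ q : Q, Submodule.span A {q} = ⊤ := by
    by_cases hN : N = ⊤
    · refine ⟨0, top_le_iff.1 ?_⟩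
      refine (Submodule.le_of_le_smul_of_le_jacobson_bot (I := m) Module.Finite.fg_top
        (IsLocalRing.maximalIdeal_le_jacobson _) ?_)
      exact le_trans hN.ge le_sup_right
    obtain ⟨q, hq⟩ : ∃ q, q ∉ N := by
      by_contra! h
      exact hN (Submodule.eq_top_iff'.2 h)
    refine ⟨q, top_le_iff.1 ?_⟩
    refine Submodule.le_of_le_smul_of_le_jacobson_bot (I := m) Module.Finite.fg_top
        (IsLocalRing.maximalIdeal_le_jacobson _) ?_
    intro z _
    by_contra hz
    let qb : Q ⧸ N := Submodule.Quotient.mk q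
    let zb : Q ⧸ N := Submodule.Quotient.mk z
    have hqb : qb ≠ 0 := fun h => hq ((Submodule.Quotient.mk_eq_zero N).1 h)
    have hzb : zb ∉ Submodule.span (A ⧸ m) {qb} := fun h => hz <| by
      obtain ⟨a, ha⟩ := Submodule.mem_span_singleton.1 h
      obtain ⟨a, rfl⟩ := Ideal.Quotient.mk_surjective a
      have h1 : a • q - z ∈ N := (Submodule.Quotient.eq N).1 ha
      rw [show z = a • q - (a • q - z) by abel]
      exact Submodule.sub_mem _ (Submodule.mem_sup_left (Submodule.smul_mem _ a (Submodule.mem_span_singleton_self q)))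
        (Submodule.mem_sup_right h1)
    obtain ⟨φ, hφz, hφq⟩ := Submodule.exists_dual_map_eq_bot_of_notMem hzb inferInstance
    obtain ⟨ψ, hψ⟩ : ∃ ψ : Module.Dual (A ⧸ m) (Q ⧸ N), ψ qb ≠ 0 := by
      by_contra! h
      exact hqb ((Module.forall_dual_apply_eq_zero_iff (A ⧸ m) qb).1 h)
    let toΩ : Module.Dual (A ⧸ m) (Q ⧸ N) → (Q →ₗ[A] Ω) := fun χ =>
      ι.toLinearMap ∘ₗ (χ.restrictScalars A) ∘ₗ N.mkQ
    have hinj : Function.Injective ι := RingHom.injective (ι : (A ⧸ m) →+* Ω)
    have hψ0 : toΩ ψ ≠ 0 := fun h => hψ (hinj (by simpa [toΩ] using LinearMap.congr_fun h q))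
    obtain ⟨c, hc⟩ := hline _ (toΩ φ) hψ0
    have hφq0 : φ qb = 0 := by
      have : φ qb ∈ Submodule.map φ (Submodule.span (A ⧸ m) {qb}) :=
        Submodule.mem_map_of_mem (Submodule.mem_span_singleton_self _)
      rwa [hφq, Submodule.mem_bot] at this
    have hcq := LinearMap.congr_fun hc q
    have hcz := LinearMap.congr_fun hc z
    simp only [toΩ, LinearMap.comp_apply, LinearMap.restrictScalars_apply, Submodule.mkQ_apply,
      AlgHom.toLinearMap_apply, LinearMap.mulLeft_apply] at hcq hcz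
    rw [show φ (Submodule.Quotient.mk q) = 0 from hφq0, map_zero, eq_comm, mul_eq_zero] at hcq
    obtain rfl : c = 0 := hcq.resolve_right fun h => hψ (hinj (h.trans (map_zero ι).symm))
    rw [zero_mul] at hcz
    exact hφz (hinj (hcz.trans (map_zero ι).symm))
  obtain ⟨q, hq⟩ := hgen
  have ext : ∀ {g g' : Q →ₗ[A] A}, g q = g' q → g = g' := fun h =>
    LinearMap.ext_on hq fun x hx => by rw [Set.mem_singleton_iff.1 hx, h]
  have ht : IsUnit (u q) := by
    refine IsArtinianRing.isUnit_of_mem_nonZeroDivisors (mem_nonZeroDivisors_iff_right.2 fun r hr => hu r (ext ?_))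
    simpa using hr
  obtain ⟨t, ht⟩ := ht
  refine ⟨w q * ↑t⁻¹, ext ?_⟩
  simp [← ht, mul_assoc]

end Algebra

section Ideals

variable {X : Scheme.{u}}

theorem le_of_comp_toSubscheme {I K : X.IdealSheafData}
    (h : ClSub.idealModι I ≫ ClSub.toSubscheme K = 0) : I ≤ K := by
  intro U x hx
  obtain ⟨k, hk⟩ := OmegaLib.exists_of_mem I U x hx
  rw [← K.ker_subschemeι_app, RingHom.mem_ker]
  have h1 := congrArg (fun φ : ClSub.idealMod I ⟶ ClSub.quotMod K => φ.app U.1 k) h
  rw [← hk, OmegaSh.idealSect_apply]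
  exact h1

end Ideals

variable {C S : Scheme.{u}} (f : C ⟶ S) [IsProper f] [SmoothOfRelativeDimension 1 f] [GeometricallyConnected f]
  (hdim : ∀ s : S, topologicalKrullDim ↥(f.fiber s) = 1)
  (hg : ∀ s : S, 1 ≤ CohIII.fiberRank f (Coh.structureModule C) 1 s)

section Geometric

variable {Ω : Type u} [Field Ω] [IsAlgClosed Ω] (b : Spec (CommRingCat.of Ω) ⟶ S)

/-- The genus of a geometric fibre. -/
theorem genus_fibre :
    letI := overX f b
    Module.finrank Ω (Coh.HH (PicF.XT f (Over.mk b)) (Coh.structureModule _) 1) =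
      CohIII.fiberRank f (Coh.structureModule C) 1 (b (IsLocalRing.closedPoint Ω : PrimeSpectrum Ω)) := by
  letI := overX f b
  let z : ↥(Spec (CommRingCat.of Ω)) := (IsLocalRing.closedPoint Ω : PrimeSpectrum Ω)
  let s : S := b z
  let E := S.residueField s
  obtain ⟨ψ, hψ⟩ : ∃ ψ : E ⟶ CommRingCat.of Ω, Spec.map ψ ≫ S.fromSpecResidueField s = b :=
    ⟨_, Scheme.descResidueField_stalkClosedPointTo_fromSpecResidueField Ω S b⟩
  letI : Algebra E Ω := ψ.hom.toAlgebra
  letI : (f.fiber s).Over (Spec (CommRingCat.of E)) := ⟨f.fiberToSpecResidueField s⟩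
  let g : Over.mk b ⟶ Over.mk (S.fromSpecResidueField s) := Over.homMk (Spec.map ψ) hψ
  haveI : IsProper (f.fiber s ↘ Spec (CommRingCat.of E)) :=
    inferInstanceAs (IsProper (pullback.snd f (S.fromSpecResidueField s)))
  haveI : CompactSpace ↥(f.fiber s) :=
    QuasiCompact.compactSpace_of_compactSpace (f.fiber s ↘ Spec (CommRingCat.of E))
  haveI : (f.fiber s).IsSeparated := ⟨by
    rw [← Limits.terminal.comp_from (f.fiber s ↘ Spec (CommRingCat.of E))]
    infer_instance⟩
  obtain ⟨e⟩ := PicClLib.nonempty_pullback_structureModule (f.fiberι s)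
  refine Eq.trans (CurveBC.finrank_hh_unit (X := f.fiber s) E Ω (PicF.XTmap f g)
    (S12409.isPullback_XTmap f g) 1) ?_
  exact (CurveCohLib.hhEquiv (k := E) e 1).finrank_eq.symm

include hg in
theorem genus_pos :
    letI := overX f b
    1 ≤ Module.finrank Ω (Coh.HH (PicF.XT f (Over.mk b)) (Coh.structureModule _) 1) :=
  (hg _).trans_eq (genus_fibre f b).symm

theorem deg_ptInv (a : Over.mk b ⟶ Over.mk f) {J : (PicF.XT f (Over.mk b)).Modules}
    (hdim : ∀ s : S, topologicalKrullDim ↥(f.fiber s) = 1)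
    (hJ : PicF.IsInvertible J) (hJc : PicF.cl J = ptInv f (Over.mk b) a) :
    letI := overX f b
    Curv2.deg Ω (PicF.XT f (Over.mk b)) J 1 = 1 := by
  letI := overX f b
  haveI : Smooth f := SmoothOfRelativeDimension.smooth 1 f
  haveI := JacDeg.geometricallyIntegral f
  haveI := isIntegral_X f b
  haveI : IsProper (PicF.XT f (Over.mk b) ↘ Spec (CommRingCat.of Ω)) :=
    inferInstanceAs (IsProper (pullback.snd f b))
  haveI : Smooth (PicF.XT f (Over.mk b) ↘ Spec (CommRingCat.of Ω)) :=
    inferInstanceAs (Smooth (pullback.snd f b))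
  have hX := dim_X f b hdim
  obtain ⟨z, hz, h⟩ := pt_eq_ptMod f b a
  have h1 : PicF.cl (CurvePoint.ptMod z hz) * PicF.cl J = 1 := by rw [← h, hJc]; exact pt_mul_ptInv f _ a
  rw [← PicMul.cl_tensor, PicMul.one_def] at h1
  obtain ⟨e⟩ := PicMul.cl_eq_iff.1 h1
  have h2 := (CurveRR.deg_congr Ω e 1).trans (CurveDeg.deg_structureModule Ω)
  rw [Pic13Lib.CurveAlgEq.deg_tensorMod hX (CurvePoint.isInvertible_ptMod z hz Ω hX) hJ,
    CurvePoint.deg_ptMod z hz Ω] at h2
  omega

include hdim hg in
/-- A point moves in no pencil on a curve of positive genus. -/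
theorem h0_ptInv_le (a : Over.mk b ⟶ Over.mk f) {J : (PicF.XT f (Over.mk b)).Modules}
    (hJ : PicF.IsInvertible J) (hJc : PicF.cl J = ptInv f (Over.mk b) a) :
    letI := overX f b
    Module.finrank Ω (Coh.HH (PicF.XT f (Over.mk b)) J 0) ≤ 1 := by
  letI := overX f b
  haveI : Smooth f := SmoothOfRelativeDimension.smooth 1 f
  haveI := JacDeg.geometricallyIntegral f
  haveI := isIntegral_X f b
  haveI : IsProper (PicF.XT f (Over.mk b) ↘ Spec (CommRingCat.of Ω)) :=
    inferInstanceAs (IsProper (pullback.snd f b))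
  haveI : Smooth (PicF.XT f (Over.mk b) ↘ Spec (CommRingCat.of Ω)) :=
    inferInstanceAs (Smooth (pullback.snd f b))
  by_contra hlt
  obtain ⟨e, he⟩ := CurveEmbed.exists_iso_line_of_deg_one Ω (dim_X f b hdim) hJ (deg_ptInv f b a hdim hJ hJc)
    (by omega)
  let P := CohB1.ProjSpace 1 Ω
  haveI : IsProper (CohB1.ProjSpace.toSpec 1 Ω) := PnCoh.Chow.isProper_toSpec 1 Ω
  haveI : CompactSpace ↥P := QuasiCompact.compactSpace_of_compactSpace (CohB1.ProjSpace.toSpec 1 Ω)
  haveI : P.IsSeparated := ⟨by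
    rw [← Limits.terminal.comp_from (CohB1.ProjSpace.toSpec 1 Ω)]; infer_instance⟩
  letI : P.Over (Spec (CommRingCat.of Ω)) := ⟨CohB1.ProjSpace.toSpec 1 Ω⟩
  have hpb : IsPullback e.hom (PicF.XT f (Over.mk b) ↘ Spec (CommRingCat.of Ω))
      (P ↘ Spec (CommRingCat.of Ω)) (Spec.map (CommRingCat.ofHom (algebraMap Ω Ω))) := by
    haveI : IsIso (Spec.map (CommRingCat.ofHom (algebraMap Ω Ω))) := by
      rw [show CommRingCat.ofHom (algebraMap Ω Ω) = 𝟙 (CommRingCat.of Ω) from rfl]
      infer_instance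
    refine IsPullback.of_horiz_isIso ⟨?_⟩
    rw [show CommRingCat.ofHom (algebraMap Ω Ω) = 𝟙 (CommRingCat.of Ω) from rfl, Spec.map_id, Category.comp_id]
    exact he
  have h := genus_pos f hg b
  rw [CurveBC.finrank_hh_unit Ω Ω e.hom hpb 1] at h
  haveI : Subsingleton (Coh.HH P (Coh.structureModule P) (0 + 1)) :=
    PnCoh.subsingleton_HH_structureModule (ι := Fin (1 + 1)) (R := Ω) (PnCoh.isQCoh_structureModule _) 0
  rw [Module.finrank_zero_of_subsingleton (R := Ω) (M := Coh.HH P (Coh.structureModule P) (0 + 1))] at h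
  omega

end Geometric

include hdim hg in
/-- Sections of a relative curve of positive genus over an Artinian local ring with isomorphic ideals coincide. -/
theorem eq_of_pt_eq {A : Type u} [CommRing A] [IsArtinianRing A] [IsLocalRing A]
    (v : Spec (CommRingCat.of A) ⟶ S) (a a' : Over.mk v ⟶ Over.mk f)
    (h : pt f (Over.mk v) a = pt f (Over.mk v) a') : a = a' := by
  let T : Over S := Over.mk v
  let X := PicF.XT f T
  haveI : Smooth f := SmoothOfRelativeDimension.smooth 1 f
  letI : X.Over (Spec (CommRingCat.of A)) := ⟨PicF.XTproj f T⟩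
  haveI : IsProper (X ↘ Spec (CommRingCat.of A)) := inferInstanceAs (IsProper (pullback.snd f v))
  haveI : Flat (X ↘ Spec (CommRingCat.of A)) := inferInstanceAs (Flat (pullback.snd f v))
  let π := X ↘ Spec (CommRingCat.of A)
  let Ia := HilbD.secGraph f T a.left (Over.w a)
  let Ib := HilbD.secGraph f T a'.left (Over.w a')
  obtain ⟨θ⟩ : Nonempty (ClSub.idealMod Ia ≅ ClSub.idealMod Ib) := PicMul.cl_eq_iff.1 h
  have hIa := IdealCl.isInvertible_idealMod (isEffCartier_sec f T a)
  let J := (PicInv.exists_inverse hIa).choose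
  obtain ⟨hJ, ⟨α⟩⟩ := (PicInv.exists_inverse hIa).choose_spec
  have hJc : PicF.cl J = ptInv f T a := rfl
  haveI : (AmpleVan.tw J).IsEquivalence := AmpleVan.isEquivalence_tw hJ
  obtain ⟨c⟩ := PicMul.comm (Coh.structureModule X) J
  let β : (AmpleVan.tw J).obj (Coh.structureModule X) ≅ J := c ≪≫ (KFlatLib.tensorStructureIso X).app J
  let sg : Coh.structureModule X ⟶ J := α.inv ≫ (AmpleVan.tw J).map (ClSub.idealModι Ia) ≫ β.hom
  let sh : Coh.structureModule X ⟶ J := α.inv ≫ (AmpleVan.tw J).map (θ.hom ≫ ClSub.idealModι Ib) ≫ β.hom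
  haveI : Mono (ClSub.idealModι Ia) := by unfold ClSub.idealModι; infer_instance
  haveI : Mono sg := inferInstanceAs (Mono (α.inv ≫ (AmpleVan.tw J).map (ClSub.idealModι Ia) ≫ β.hom))
  -- functions on the base inject
  have hinj : ∀ r : A, (show Γ(X, ⊤) from Coh.toGlobal π r) = 0 → r = 0 := by
    intro r hr
    let s : Spec (CommRingCat.of A) ⟶ X :=
      pullback.lift a.left (𝟙 _) (by rw [Category.id_comp]; exact Over.w a)
    have hs : s ≫ π = 𝟙 _ := pullback.lift_snd _ _ _
    have h1 : (s ≫ π).appTop ((Scheme.ΓSpecIso (CommRingCat.of A)).inv r) = 0 := by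
      rw [Scheme.Hom.comp_appTop, CommRingCat.comp_apply]
      exact (congrArg s.appTop hr).trans (map_zero _)
    rw [hs, Scheme.Hom.id_appTop, CommRingCat.id_apply] at h1
    exact
      (ConcreteCategory.bijective_of_isIso (Scheme.ΓSpecIso (CommRingCat.of A)).inv).1 (h1.trans (map_zero _).symm)
  -- forms
  obtain ⟨Q, _, e, hQ⟩ := H23.Seesaw.exists_rep (A := A) J hJ
  obtain ⟨eA, heA, heA'⟩ := hQ A X (𝟙 X) π (by
    rw [Algebra.algebraMap_self, CommRingCat.ofHom_id, Spec.map_id]
    exact IsPullback.of_horiz_isIso ⟨by rw [Category.id_comp, Category.comp_id]⟩)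
  have hid : ∀ g : Q →ₗ[A] A, eA g = InvX.pullElt (𝟙 X) (e g) := fun g => by
    rw [← heA' g]
    exact congrArg eA (LinearMap.ext fun _ => rfl)
  have hpi : Function.Injective (fun σ : Γ(J, ⊤) => InvX.pullElt (𝟙 X) σ) := fun σ σ' hσ => by
    have h1 : eA (e.symm σ) = eA (e.symm σ') := by
      rw [hid, hid, e.apply_symm_apply, e.apply_symm_apply]
      exact hσ
    exact e.symm.injective (eA.injective h1)
  have hlin : ∀ (r : A) (g : Q →ₗ[A] A),
      e (LinearMap.mulLeft A r ∘ₗ g) = (show Γ(X, ⊤) from Coh.toGlobal π r) • e g := fun r g => by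
    refine hpi ?_
    show InvX.pullElt (𝟙 X) (e _) = InvX.pullElt (𝟙 X) (_ • e g)
    rw [← hid, heA, hid, EndInv.pullElt_smul]
    rfl
  let u := e.symm (InvX.one sg)
  let w := e.symm (InvX.one sh)
  have hsmul : ∀ r : Γ(X, ⊤),
      InvX.one (InvX.ofSect (show Γ(Coh.structureModule X, ⊤) from r) ≫ sg) = r • InvX.one sg := fun r => by
    rw [AmpleVan.one_comp _ sg, InvX.one_ofSect]
    refine (InvX.app_eq_smul sg r).trans ?_
    exact congrArg (r • ·) (AModX.res_self _)
  have hu : ∀ r : A, LinearMap.mulLeft A r ∘ₗ u = 0 → r = 0 := fun r hr => hinj r <| by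
    have h0 : (show Γ(X, ⊤) from Coh.toGlobal π r) • InvX.one sg = 0 := by
      have := congrArg e hr
      rwa [hlin, map_zero, e.apply_symm_apply] at this
    rw [← hsmul] at h0
    have h1 : InvX.ofSect (show Γ(Coh.structureModule X, ⊤) from Coh.toGlobal π r) = 0 :=
      (cancel_mono sg).1 ((AmpleVan.one_injective (h0.trans (by rfl))).trans zero_comp.symm)
    exact ((InvX.one_ofSect _).symm.trans (congrArg InvX.one h1)).trans (by rfl)
  obtain ⟨Ω, hΩ, hΩ', σ, -⟩ := JacProper.exists_geomPoint (X := Spec (CommRingCat.of A))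
    ((IsLocalRing.closedPoint A : PrimeSpectrum A) : ↥(Spec (CommRingCat.of A)))
  obtain ⟨ω, rfl⟩ := Spec.map_surjective σ
  letI : Algebra A Ω := ω.hom.toAlgebra
  let b := Spec.map ω ≫ v
  let gT : Over.mk b ⟶ T := Over.homMk (Spec.map ω) rfl
  letI := overX f b
  let X' := PicF.XT f (Over.mk b)
  let J' := (Scheme.Modules.pullback (PicF.XTmap f gT)).obj J
  obtain ⟨eB, heB, -⟩ := hQ Ω X' (PicF.XTmap f gT) (PicF.XTproj f (Over.mk b)) (S12409.isPullback_XTmap f gT)
  have hJ' : PicF.IsInvertible J' := PicClLib.isInvertible_pullback _ hJ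
  have hJc' : PicF.cl J' = ptInv f (Over.mk b) (gT ≫ a) :=
    (congrArg (PicF.pullCl (PicF.XTmap f gT)) hJc).trans (pull_ptInv f gT a)
  have h0 := h0_ptInv_le f hdim hg b (gT ≫ a) hJ' hJc'
  haveI : IsProper (X' ↘ Spec (CommRingCat.of Ω)) := inferInstanceAs (IsProper (pullback.snd f b))
  haveI := CurveCohLib.isNoetherian_of_proper (k := Ω) (X := X')
  haveI := CurveCohLib.finite_HH (k := Ω) (CurveDeg.isCoh_of_isInvertible hJ') 0
  let ε := Sheaf.H.equiv₀ (Coh.toAb J') isTerminalTop
  have hline : ∀ g g' : Q →ₗ[A] Ω, g ≠ 0 → ∃ c : Ω, g' = LinearMap.mulLeft A c ∘ₗ g := by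
    intro g g' hg0
    have hv : ε.symm (eB g) ≠ 0 := fun h => hg0 <| eB.injective <| by
      rw [map_zero, ← ε.apply_symm_apply (eB g), h, map_zero]
    have h1 : Module.finrank Ω (Coh.HH X' J' 0) = 1 :=
      le_antisymm h0 (Module.finrank_pos_iff_exists_ne_zero.2 ⟨_, hv⟩)
    obtain ⟨c, hc⟩ := (finrank_eq_one_iff_of_nonzero' _ hv).1 h1 (ε.symm (eB g'))
    refine ⟨c, eB.injective ?_⟩
    rw [heB]
    have h2 := (CurveCohLib.h0Equiv_smul J' c (ε.symm (eB g))).symm.trans
      ((congrArg ε hc).trans (ε.apply_symm_apply (eB g')))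
    rw [ε.apply_symm_apply] at h2
    refine h2.symm.trans (congrArg (· • eB g) ?_)
    exact ConcreteCategory.congr_hom (X'.presheaf.map_id (op ⊤)) _
  obtain ⟨r, hr⟩ := forms_eq_multiples hline u hu w
  let θr := InvX.ofSect (show Γ(Coh.structureModule X, ⊤) from Coh.toGlobal π r)
  have hsh : sh = θr ≫ sg := by
    refine AmpleVan.one_injective ?_
    have := congrArg e hr
    rw [hlin, e.apply_symm_apply, e.apply_symm_apply] at this
    rw [this, hsmul]
  obtain ⟨ψ, hψ⟩ := (AmpleVan.tw J).map_surjective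
    ((α.hom ≫ θr ≫ α.inv : (AmpleVan.tw J).obj (ClSub.idealMod Ia) ⟶ (AmpleVan.tw J).obj (ClSub.idealMod Ia)))
  have hfac : θ.hom ≫ ClSub.idealModι Ib = ψ ≫ ClSub.idealModι Ia := by
    refine (AmpleVan.tw J).map_injective ?_
    rw [Functor.map_comp (AmpleVan.tw J) ψ, hψ]
    refine (cancel_epi α.inv).1 ((cancel_mono β.hom).1 ?_)
    simpa only [sh, sg, Category.assoc, Iso.inv_hom_id_assoc] using hsh
  have hq : ClSub.idealModι Ib ≫ ClSub.toSubscheme Ia = 0 := by
    refine (cancel_epi θ.hom).1 ?_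
    rw [← Category.assoc, hfac, Category.assoc, comp_zero]
    exact (congrArg (ψ ≫ ·) (kernel.condition _)).trans comp_zero
  have hle : Ib ≤ Ia := le_of_comp_toSubscheme hq
  let s : T.left ⟶ X := pullback.lift a.left (𝟙 _) (by rw [Category.id_comp]; exact Over.w a)
  let s' : T.left ⟶ X := pullback.lift a'.left (𝟙 _) (by rw [Category.id_comp]; exact Over.w a')
  haveI : IsClosedImmersion s' := by
    haveI : IsClosedImmersion (s' ≫ pullback.snd f T.hom) := by rw [pullback.lift_snd]; infer_instance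
    exact IsClosedImmersion.of_comp s' (pullback.snd f T.hom)
  have hf := IsClosedImmersion.lift_fac s' s hle
  have hlift : IsClosedImmersion.lift s' s hle = 𝟙 _ := by
    have e := congrArg (· ≫ pullback.snd f T.hom) hf
    simpa only [Category.assoc, s, s', pullback.lift_snd, Category.comp_id] using e
  rw [hlift, Category.id_comp] at hf
  refine Over.OverMorphism.ext ?_
  have := congrArg (· ≫ pullback.fst f T.hom) hf
  simpa only [s, s', pullback.lift_fst] using this.symm

end Groth.Agent.PicTangent.AbelSec
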