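import Groth.Agent.PicTangent.Cocycle
import Groth.Prelude.Def_PicRel2
import Mathlib.RingTheory.Smooth.Basic

/-!
# The Zariski tangent space of a relative Picard scheme at the origin
-/

set_option autoImplicit false
set_option linter.style.haveILetI false
set_option linter.unusedSectionVars false
set_option backward.isDefEq.respectTransparency false
set_option backward.isDefEq.respectTransparency.types false
set_option maxHeartbeats 1000000

universe u

open CategoryTheory CategoryTheory.Limits AlgebraicGeometry MonoidalCategory CartesianMonoidalCategory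
  TopologicalSpace TensorProduct Opposite

noncomputable section

namespace Groth.Agent.PicTangent

open Groth.Agent Groth.Agent.H23

variable {k : Type u} [Field k]

section Dual

variable {M : Type u} [AddCommGroup M] [Module k M] [Module kᵐᵒᵖ M] [IsCentralScalar k M]
  {K : Type u} [CommRing K] [Algebra k K]

/-- The point of dual numbers attached to a linear form. -/
def chi (t : M →ₗ[k] K) : TrivSqZeroExt k M →ₐ[k] DualNumber K :=
  TrivSqZeroExt.liftEquivOfComm ⟨(eK (k := k) K) ∘ₗ t, fun _ _ => TrivSqZeroExt.inr_mul_inr K _ _⟩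

theorem chi_apply (t : M →ₗ[k] K) (x : TrivSqZeroExt k M) :
    (chi t x).fst = algebraMap k K x.fst ∧ (chi t x).snd = t x.snd := by
  have h : chi t x = algebraMap k (DualNumber K) x.fst + eK (k := k) K (t x.snd) := by
    simp [chi, TrivSqZeroExt.lift_def, Algebra.ofId_apply]
  rw [h, IsScalarTower.algebraMap_apply k K (DualNumber K), TrivSqZeroExt.algebraMap_eq_inl]
  simp

theorem chi_inr (t : M →ₗ[k] K) (m : M) : chi t (TrivSqZeroExt.inr m) = eK (k := k) K (t m) := by
  refine TrivSqZeroExt.ext ?_ ?_ <;> simp [(chi_apply t (TrivSqZeroExt.inr m)).1, (chi_apply t (TrivSqZeroExt.inr m)).2]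

/-- The base change of dual numbers. -/
abbrev dmap (k : Type u) [Field k] (K : Type u) [CommRing K] [Algebra k K] : DualNumber k →ₐ[k] DualNumber K :=
  chi (Algebra.linearMap k K)

/-- The map on dual numbers of an algebra map. -/
def dmapHom {K' : Type u} [CommRing K'] [Algebra k K'] (ψ : K →ₐ[k] K') : DualNumber K →ₐ[k] DualNumber K' :=
  TrivSqZeroExt.lift ((iK K').comp ψ) ((eK (k := k) K') ∘ₗ ψ.toLinearMap)
    (fun _ _ => TrivSqZeroExt.inr_mul_inr K' _ _)
    (fun r x => by
      refine TrivSqZeroExt.ext ?_ ?_ <;> simp [TrivSqZeroExt.algebraMap_eq_inl, mul_comm])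
    (fun r x => by
      refine TrivSqZeroExt.ext ?_ ?_ <;> simp [TrivSqZeroExt.algebraMap_eq_inl])

theorem dmapHom_apply {K' : Type u} [CommRing K'] [Algebra k K'] (ψ : K →ₐ[k] K') (x : DualNumber K) :
    (dmapHom ψ x).fst = ψ x.fst ∧ (dmapHom ψ x).snd = ψ x.snd := by
  simp [dmapHom, TrivSqZeroExt.lift_def, TrivSqZeroExt.algebraMap_eq_inl]

end Dual

variable (X : Over (Spec (CommRingCat.of k))) {R R' : Type u} [CommRing R] [Algebra k R] [CommRing R'] [Algebra k R']

theorem XTmap_eq (φ : R →ₐ[k] R') : PicF.XTmap X.hom (Tmap φ) = (Q X φ).left := by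
  apply pullback.hom_ext
  · rw [PicF.XTmap, pullback.lift_fst, Category.comp_id]
    show _ = (Q X φ).left ≫ (fst X (T (k := k) R)).left
    rw [← Over.comp_left, tensorHom_fst, Category.comp_id]
    rfl
  · rw [PicF.XTmap, pullback.lift_snd]
    show _ = (Q X φ).left ≫ (snd X (T (k := k) R)).left
    rw [← Over.comp_left, tensorHom_snd]
    rfl

theorem XTmap_comp {S₁ S₂ S₃ : Over (Spec (CommRingCat.of k))} (g : S₁ ⟶ S₂) (g' : S₂ ⟶ S₃) :
    PicF.XTmap X.hom (g ≫ g') = PicF.XTmap X.hom g ≫ PicF.XTmap X.hom g' := by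
  apply pullback.hom_ext <;> simp [PicF.XTmap, pullback.map]

theorem pullCl_XTmap_comp {S₁ S₂ S₃ : Over (Spec (CommRingCat.of k))} (g : S₁ ⟶ S₂) (g' : S₂ ⟶ S₃)
    (c : PicF.Cl (PicF.XT X.hom S₃)) :
    PicF.pullCl (PicF.XTmap X.hom (g ≫ g')) c = PicF.pullCl (PicF.XTmap X.hom g) (PicF.pullCl (PicF.XTmap X.hom g') c) := by
  rw [XTmap_comp, ← PicClLib.pullCl_comp]

/-- A field valued point over an etale member. -/
theorem exists_point_cover {K : Type u} [Field K] [Algebra k K] {ι : Type u} (V : ι → (T (k := k) K).left.Etale)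
    (hV : EtCoh.Covers V) :
    ∃ (i : ι) (K' : Type u) (_ : Field K') (_ : Algebra k K') (ψ : K →ₐ[k] K')
      (j : T K' ⟶ PicRel.ovr (T K) (V i)), j ≫ PicRel.ovrHom (T K) (V i) = Tmap ψ := by
  obtain ⟨i, y, -⟩ := hV (IsLocalRing.closedPoint K)
  let K' := (V i).left.residueField y
  let m : Spec (CommRingCat.of K') ⟶ Spec (CommRingCat.of K) := (V i).left.fromSpecResidueField y ≫ (V i).hom
  let φ : K →+* K' := (Spec.preimage m).hom
  letI : Algebra k K' := (φ.comp (algebraMap k K)).toAlgebra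
  let ψ : K →ₐ[k] K' := { φ with commutes' := fun _ => rfl }
  have hψ : Spec.map (CommRingCat.ofHom ψ.toRingHom) = m := by
    show Spec.map (Spec.preimage m) = m
    exact Spec.map_preimage m
  refine ⟨i, K', inferInstance, inferInstance, ψ, Over.homMk ((V i).left.fromSpecResidueField y) ?_,
    Over.OverMorphism.ext hψ.symm⟩
  have h := Over.w (Tmap ψ)
  rw [Tmap_left, hψ] at h
  exact (Category.assoc _ _ _).symm.trans h

/-- A dual number valued point over an etale member. -/
theorem exists_dual_point {ι : Type u} (V : ι → (T (k := k) (DualNumber k)).left.Etale) (hV : EtCoh.Covers V) :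
    ∃ (i : ι) (K : Type u) (_ : Field K) (_ : Algebra k K) (j : T (DualNumber K) ⟶ PicRel.ovr (T (DualNumber k)) (V i)),
      j ≫ PicRel.ovrHom (T (DualNumber k)) (V i) = Tmap (dmap k K) := by
  obtain ⟨i, y, -⟩ := hV (IsLocalRing.closedPoint (DualNumber k))
  let h : (V i).left ⟶ Spec (CommRingCat.of (DualNumber k)) := (V i).hom
  haveI : Etale h := (V i).prop
  obtain ⟨W, hW, hyW, -⟩ := exists_isAffineOpen_mem_and_subset (U := (⊤ : (V i).left.Opens)) (x := y) trivial
  let g : CommRingCat.of (DualNumber k) ⟶ Γ((V i).left, W) :=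
    (Scheme.ΓSpecIso (CommRingCat.of (DualNumber k))).inv ≫ h.appLE ⊤ W le_top
  have hg : g.hom.Etale :=
    (RingHom.Etale.respectsIso.cancel_left_isIso _ _).2 (h.etale_appLE (isAffineOpen_top _) hW le_top)
  have hgW : Spec.map g = hW.fromSpec ≫ h := by
    rw [Spec.map_comp, ← IsAffineOpen.SpecMap_appLE_fromSpec h (isAffineOpen_top _) hW le_top,
      IsAffineOpen.fromSpec_top, Scheme.isoSpec_Spec_inv]
  let K := (V i).left.residueField y
  let ev : Γ((V i).left, W) →+* K := ((V i).left.presheaf.germ W y hyW ≫ (V i).left.residue y).hom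
  letI : Algebra (DualNumber k) Γ((V i).left, W) := g.hom.toAlgebra
  haveI : Algebra.Etale (DualNumber k) Γ((V i).left, W) := hg
  letI : Algebra k K := (ev.comp (g.hom.comp (algebraMap k (DualNumber k)))).toAlgebra
  letI : Algebra (DualNumber k) (DualNumber K) := (dmap k K).toRingHom.toAlgebra
  letI : Algebra (DualNumber k) K := (ev.comp g.hom).toAlgebra
  have hev : ∀ x : DualNumber k, ev (g x) = algebraMap k K x.fst := by
    intro x
    conv_lhs => rw [← TrivSqZeroExt.inl_fst_add_inr_snd_eq x]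
    rw [map_add, map_add]
    have h0 : ev (g (TrivSqZeroExt.inr x.snd)) = 0 := by
      refine (pow_eq_zero_iff (n := 2) two_ne_zero).1 ?_
      rw [← map_pow, ← map_pow, sq, TrivSqZeroExt.inr_mul_inr, map_zero, map_zero]
    rw [h0, add_zero, ← TrivSqZeroExt.algebraMap_eq_inl]
    rfl
  let red : DualNumber K →ₐ[DualNumber k] K :=
    { (fK (k := k) K).toRingHom with
      commutes' := fun x => ((chi_apply (Algebra.linearMap k K) x).1).trans (hev x).symm }
  have hred : Function.Surjective red := fun a => ⟨TrivSqZeroExt.inl a, TrivSqZeroExt.fst_inl K a⟩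
  have hnil : IsNilpotent (RingHom.ker (red : DualNumber K →+* K)) := by
    refine ⟨2, le_bot_iff.1 ?_⟩
    rw [show (2 : ℕ) = 1 + 1 from rfl, Submodule.pow_succ, Submodule.pow_one]
    refine Ideal.mul_le.2 fun a ha b hb => ?_
    change a.fst = 0 at ha
    change b.fst = 0 at hb
    refine (Submodule.mem_bot _).2 (TrivSqZeroExt.ext ?_ ?_) <;> simp [ha, hb]
  let ev' : Γ((V i).left, W) →ₐ[DualNumber k] K := { ev with commutes' := fun x => rfl }
  let lift := Algebra.FormallySmooth.liftOfSurjective ev' red hred hnil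
  let jl : Spec (CommRingCat.of (DualNumber K)) ⟶ (V i).left := Spec.map (CommRingCat.ofHom lift.toRingHom) ≫ hW.fromSpec
  have hj : jl ≫ h = Spec.map (CommRingCat.ofHom (dmap k K).toRingHom) := by
    show (_ ≫ _) ≫ _ = _
    rw [Category.assoc, ← hgW, ← Spec.map_comp]
    congr 1
    exact CommRingCat.hom_ext (RingHom.ext fun x => lift.commutes x)
  refine ⟨i, K, inferInstance, inferInstance, Over.homMk jl ?_, Over.OverMorphism.ext hj⟩
  have h' := Over.w (Tmap (dmap k K))
  rw [Tmap_left, ← hj] at h'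
  exact (Category.assoc _ _ _).symm.trans h'

variable {X} {P : Over (Spec (CommRingCat.of k))}

/-- The algebra structure of a stalk. -/
abbrev stalkAlgebra (P : Over (Spec (CommRingCat.of k))) (p : P.left) : Algebra k (P.left.presheaf.stalk p) :=
  (Spec.preimage (P.left.fromSpecStalk p ≫ P.hom)).hom.toAlgebra

theorem specMap_stalkAlgebra (p : P.left) :
    letI := stalkAlgebra P p
    Spec.map (CommRingCat.ofHom (algebraMap k (P.left.presheaf.stalk p))) = P.left.fromSpecStalk p ≫ P.hom :=
  Spec.map_preimage _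

/-- The morphism of a local homomorphism out of a stalk. -/
def ofStalk (p : P.left) (g : letI := stalkAlgebra P p; P.left.presheaf.stalk p →ₐ[k] R) : T R ⟶ P :=
  letI := stalkAlgebra P p
  Over.homMk (Spec.map (CommRingCat.ofHom g.toRingHom) ≫ P.left.fromSpecStalk p) (by
    rw [Category.assoc, ← specMap_stalkAlgebra p, ← Spec.map_comp, ← CommRingCat.ofHom_comp,
      AlgHom.toRingHom_eq_coe, g.comp_algebraMap]
    rfl)

theorem ofStalk_comp (p : P.left) (g : letI := stalkAlgebra P p; P.left.presheaf.stalk p →ₐ[k] R) (φ : R →ₐ[k] R') :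
    letI := stalkAlgebra P p
    Tmap φ ≫ ofStalk p g = ofStalk p (φ.comp g) := by
  refine Over.OverMorphism.ext ?_
  show Spec.map _ ≫ Spec.map _ ≫ _ = Spec.map _ ≫ _
  rw [← Spec.map_comp_assoc]
  rfl

theorem ofStalk_injective (p : P.left) :
    letI := stalkAlgebra P p
    Function.Injective (ofStalk (R := R) p) := by
  intro g g' h
  have h' := congrArg CommaMorphism.left h
  have h'' := Spec.map_injective ((cancel_mono (P.left.fromSpecStalk p)).1 h')
  exact @AlgHom.ext _ _ _ _ _ _ (stalkAlgebra P p) _ _ _ fun x => congr($(h'').hom x)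

theorem exists_ofStalk [IsLocalRing R] (γ : T R ⟶ P) (p : P.left) (hp : γ.left (IsLocalRing.closedPoint R) = p) :
    letI := stalkAlgebra P p
    ∃ g : P.left.presheaf.stalk p →ₐ[k] R, ofStalk p g = γ := by
  subst hp
  letI := stalkAlgebra P (γ.left (IsLocalRing.closedPoint R))
  let g0 := Scheme.stalkClosedPointTo (R := CommRingCat.of R) γ.left
  have hfac : Spec.map g0 ≫ P.left.fromSpecStalk _ = γ.left := Scheme.Spec_stalkClosedPointTo_fromSpecStalk _
  refine ⟨{ g0.hom with commutes' := fun c => ?_ }, Over.OverMorphism.ext hfac⟩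
  have h : CommRingCat.ofHom (algebraMap k (P.left.presheaf.stalk (γ.left (IsLocalRing.closedPoint R)))) ≫ g0 =
      CommRingCat.ofHom (algebraMap k R) := by
    apply Spec.map_injective
    rw [Spec.map_comp, specMap_stalkAlgebra]
    exact (Category.assoc _ _ _).symm.trans ((congrArg (· ≫ P.hom) hfac).trans (Over.w γ))
  exact congr($(h).hom c)

section Functional

variable {O : Type u} [CommRing O] [Algebra k O] (res : O →ₐ[k] k) {V : Type u} [AddCommGroup V] [Module k V]
  [Module kᵐᵒᵖ V] [IsCentralScalar k V]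

/-- The homomorphism to dual numbers of a derivation at a rational point. -/
def gpsi (ψ : O →ₗ[k] k) (hψ : ∀ a b, res a = 0 → res b = 0 → ψ (a * b) = 0) : O →ₐ[k] DualNumber k :=
  AlgHom.ofLinearMap
    ((TrivSqZeroExt.inlAlgHom k k k).toLinearMap ∘ₗ res.toLinearMap +
      (TrivSqZeroExt.inrHom k k) ∘ₗ ψ ∘ₗ (LinearMap.id - (Algebra.linearMap k O) ∘ₗ res.toLinearMap))
    (by refine TrivSqZeroExt.ext ?_ ?_ <;> simp)
    (fun a b => by
      refine TrivSqZeroExt.ext ?_ ?_
      · simp
      · have e : a * b - algebraMap k O (res (a * b)) = res a • (b - algebraMap k O (res b)) +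
            res b • (a - algebraMap k O (res a)) + (a - algebraMap k O (res a)) * (b - algebraMap k O (res b)) := by
          simp only [map_mul, Algebra.smul_def]; ring
        simp only [LinearMap.add_apply, LinearMap.comp_apply, LinearMap.sub_apply, LinearMap.id_apply,
          AlgHom.toLinearMap_apply, Algebra.linearMap_apply, TrivSqZeroExt.snd_add, TrivSqZeroExt.snd_mul,
          TrivSqZeroExt.inrHom_apply, TrivSqZeroExt.inlAlgHom_apply, TrivSqZeroExt.snd_inl, TrivSqZeroExt.snd_inr,
          TrivSqZeroExt.fst_add, TrivSqZeroExt.fst_inl, TrivSqZeroExt.fst_inr, zero_add, add_zero]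
        rw [e, map_add, map_add, map_smul, map_smul, hψ _ _ (by simp) (by simp)]
        simp [mul_comm])

theorem gpsi_snd (ψ : O →ₗ[k] k) (hψ : ∀ a b, res a = 0 → res b = 0 → ψ (a * b) = 0) (a : O) :
    (gpsi res ψ hψ a).snd = ψ (a - algebraMap k O (res a)) := by
  simp [gpsi]

theorem gpsi_fst (ψ : O →ₗ[k] k) (hψ : ∀ a b, res a = 0 → res b = 0 → ψ (a * b) = 0) :
    (fK k).comp (gpsi res ψ hψ) = res := AlgHom.ext fun a => by simp [gpsi]

end Functional

theorem lcl_congr {ι : Type u} {U : ι → X.left.Opens} {m : Type} [Fintype m] (z : m → KunnethH1.C1 U)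
    (hz : ∀ i, d1 U (z i) = 0) {r r' : m → R} (hr : ∀ i j, r i * r j = 0) (hr' : ∀ i j, r' i * r' j = 0) (h : r = r') :
    lcl U z hz hr = lcl U z hz hr' := by
  subst h
  rfl

theorem subsingleton_spec_trivSqZero {M : Type u} [AddCommGroup M] [Module k M] [Module kᵐᵒᵖ M] [IsCentralScalar k M] :
    Subsingleton (PrimeSpectrum (TrivSqZeroExt k M)) := by
  refine ⟨fun p q => ?_⟩
  have key : ∀ p : PrimeSpectrum (TrivSqZeroExt k M), ∀ x, x ∈ p.asIdeal ↔ x.fst = 0 := by
    intro p x
    constructor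
    · intro hx
      by_contra h
      exact p.isPrime.ne_top (Ideal.eq_top_of_isUnit_mem _ hx (TrivSqZeroExt.isUnit_iff_isUnit_fst.2 (isUnit_iff_ne_zero.2 h)))
    · intro h
      refine p.isPrime.mem_of_pow_mem 2 ?_
      have : x ^ 2 = 0 := by
        rw [sq]
        refine TrivSqZeroExt.ext ?_ ?_ <;> simp [h]
      rw [this]
      exact zero_mem _
  exact PrimeSpectrum.ext (Ideal.ext fun x => (key p x).trans (key q x).symm)

theorem isLocalRing_trivSqZero {M : Type u} [AddCommGroup M] [Module k M] [Module kᵐᵒᵖ M] [IsCentralScalar k M] :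
    IsLocalRing (TrivSqZeroExt k M) :=
  .of_isUnit_or_isUnit_one_sub_self fun a => by
    by_cases h : a.fst = 0
    · exact Or.inr (TrivSqZeroExt.isUnit_iff_isUnit_fst.2 (by simp [h]))
    · exact Or.inl (TrivSqZeroExt.isUnit_iff_isUnit_fst.2 (isUnit_iff_ne_zero.2 h))

/-- The dimension of the cotangent space from a universal first order deformation. -/
theorem finrank_cotangent_of_surjective {O : Type u} [CommRing O] [IsLocalRing O] [Algebra k O] (res : O →ₐ[k] k)
    {V : Type u} [AddCommGroup V] [Module k V] (L : O →ₗ[k] V) (hL : Function.Surjective L)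
    (hL1 : ∀ c, L (algebraMap k O c) = 0) (hL2 : ∀ a b, res a = 0 → res b = 0 → L (a * b) = 0)
    (hLi : ∀ x ∈ IsLocalRing.maximalIdeal O, L x = 0 → x ∈ IsLocalRing.maximalIdeal O ^ 2) :
    Module.finrank (IsLocalRing.ResidueField O) (IsLocalRing.CotangentSpace O) = Module.finrank k V := by
  have hker : RingHom.ker res.toRingHom = IsLocalRing.maximalIdeal O :=
    IsLocalRing.eq_maximalIdeal (RingHom.ker_isMaximal_of_surjective _ fun c => ⟨algebraMap k O c, res.commutes c⟩)
  let m := IsLocalRing.maximalIdeal O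
  let Lm : m →ₗ[k] V := L ∘ₗ (m.subtype.restrictScalars k)
  have hLm : Function.Surjective Lm := fun v => by
    obtain ⟨x, hx⟩ := hL v
    refine ⟨⟨x - algebraMap k O (res x), ?_⟩, ?_⟩
    · show _ ∈ IsLocalRing.maximalIdeal O
      rw [← hker, RingHom.mem_ker]
      simp
    · show L (x - algebraMap k O (res x)) = v
      rw [map_sub, hL1, sub_zero, hx]
  have hkerL : LinearMap.ker Lm = LinearMap.ker (m.toCotangent.restrictScalars k) := by
    ext ⟨x, hx⟩
    show L x = 0 ↔ m.toCotangent ⟨x, hx⟩ = 0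
    rw [Ideal.toCotangent_eq_zero]
    refine ⟨hLi x hx, fun h2 => ?_⟩
    rw [sq] at h2
    refine Submodule.mul_induction_on (C := fun z => L z = 0) h2 (fun a ha c hc => ?_)
      fun a c ha hc => by rw [map_add, ha, hc, add_zero]
    change a ∈ IsLocalRing.maximalIdeal O at ha
    change c ∈ IsLocalRing.maximalIdeal O at hc
    rw [← hker] at ha hc
    exact hL2 a c ha hc
  let eC : IsLocalRing.CotangentSpace O ≃ₗ[k] V :=
    ((m.toCotangent.restrictScalars k).quotKerEquivOfSurjective m.toCotangent_surjective).symm ≪≫ₗ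
      (Submodule.quotEquivOfEq _ _ hkerL.symm) ≪≫ₗ Lm.quotKerEquivOfSurjective hLm
  have hκ : Module.finrank k (IsLocalRing.ResidueField O) = 1 := by
    refine (finrank_eq_one_iff_of_nonzero' (1 : IsLocalRing.ResidueField O) one_ne_zero).2 fun w => ?_
    obtain ⟨x, rfl⟩ := IsLocalRing.residue_surjective w
    refine ⟨res x, ?_⟩
    rw [Algebra.smul_def, mul_one, IsScalarTower.algebraMap_apply k O (IsLocalRing.ResidueField O),
      IsLocalRing.ResidueField.algebraMap_eq, ← sub_eq_zero, ← map_sub, IsLocalRing.residue_eq_zero_iff, ← hker,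
      RingHom.mem_ker]
    simp
  haveI : IsScalarTower k (IsLocalRing.ResidueField O) (IsLocalRing.CotangentSpace O) :=
    IsScalarTower.of_algebraMap_smul fun c x => by
      rw [IsScalarTower.algebraMap_apply k O (IsLocalRing.ResidueField O), ← algebraMap_smul O c x]
      exact algebraMap_smul (IsLocalRing.ResidueField O) (algebraMap k O c) x
  have h5 := Module.finrank_mul_finrank k (IsLocalRing.ResidueField O) (IsLocalRing.CotangentSpace O)
  rwa [hκ, one_mul, eC.finrank_eq] at h5

section Pic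

variable {X P : Over (Spec (CommRingCat.of k))}
  (φ : ∀ S : Over (Spec (CommRingCat.of k)), PicF.Cl (PicF.XT X.hom S) → (S ⟶ P))

/-- The origin as a point of the scheme over any base. -/
def constPt (S : Over (Spec (CommRingCat.of k))) : S ⟶ P :=
  (Over.homMk S.hom : S ⟶ Over.mk (𝟙 _)) ≫ φ (Over.mk (𝟙 _)) (PicF.cl (Coh.structureModule _))

/-- The underlying point of the origin. -/
abbrev origin : P.left :=
  (φ (Over.mk (𝟙 (Spec (CommRingCat.of k)))) (PicF.cl (Coh.structureModule _))).left.base (IsLocalRing.closedPoint k)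

variable {φ} (hP : PicRel.IsRelPic X.hom P φ)

theorem isInvertibleCl_structure (Y : Scheme.{u}) : PicF.IsInvertibleCl (PicF.cl (Coh.structureModule Y)) :=
  ⟨_, rfl, PicLoc.isInvertible_structureModule _⟩

include hP in
theorem φ_structure (S : Over (Spec (CommRingCat.of k))) :
    φ S (PicF.cl (Coh.structureModule _)) = constPt φ S := by
  rw [constPt, ← hP.natural _ S _ _ (isInvertibleCl_structure _)]
  exact congrArg (φ S) (pullCl_structure _).symm

include hP in
theorem φ_natural (ψ : R →ₐ[k] R') (c : PicF.Cl (X ⊗ T (k := k) R).left) (hc : PicF.IsInvertibleCl c) :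
    φ (T R') (PicF.pullCl (Q X ψ).left c) = Tmap ψ ≫ φ (T R) c := by
  rw [← XTmap_eq]
  exact hP.natural _ _ _ _ hc

theorem constPt_closed : (constPt φ (T (k := k) k)).left (IsLocalRing.closedPoint k) = origin φ := by
  show (φ (Over.mk (𝟙 (Spec (CommRingCat.of k)))) (PicF.cl (Coh.structureModule _))).left
    ((T (k := k) k).hom (IsLocalRing.closedPoint k)) = _
  congr 1

/-- Evaluation at the origin. -/
theorem exists_res :
    letI := stalkAlgebra P (origin φ)
    ∃ res : P.left.presheaf.stalk (origin φ) →ₐ[k] k, ∀ (R : Type u) [CommRing R] [Algebra k R],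
      ofStalk (origin φ) ((Algebra.ofId k R).comp res) = constPt φ (T R) := by
  letI := stalkAlgebra P (origin φ)
  obtain ⟨res, hres⟩ := exists_ofStalk (constPt φ (T k)) (origin φ) (constPt_closed (φ := φ))
  refine ⟨res, fun R _ _ => ?_⟩
  rw [← ofStalk_comp, hres]
  show _ ≫ _ ≫ _ = _ ≫ _
  rw [← Category.assoc]
  congr 1
  exact Over.OverMorphism.ext (Over.w (Tmap (Algebra.ofId k R)))

variable {ι : Type u} [Finite ι] {U : ι → X.left.Opens} (hcov : ⨆ a, U a = ⊤) {n : ℕ}
  (b : Module.Basis (Fin n) k (H1 U))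

/-- The parameters of the universal class. -/
abbrev r0 (n : ℕ) (i : Fin n) : TrivSqZeroExt k (Fin n → k) := TrivSqZeroExt.inr (Pi.single i 1)

theorem r0_mul (i j : Fin n) : r0 (k := k) n i * r0 n j = 0 := TrivSqZeroExt.inr_mul_inr k _ _

/-- The universal class. -/
abbrev univCl : PicF.Cl (X ⊗ T (k := k) (TrivSqZeroExt k (Fin n → k))).left :=
  lcl U (rep U b) (rep_cocycle U b) (r0_mul (k := k) (n := n))

include hP hcov in
theorem exists_classifying (res : letI := stalkAlgebra P (origin φ); P.left.presheaf.stalk (origin φ) →ₐ[k] k)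
    (hres : letI := stalkAlgebra P (origin φ); ∀ (R : Type u) [CommRing R] [Algebra k R],
      ofStalk (origin φ) ((Algebra.ofId k R).comp res) = constPt φ (T R)) :
    letI := stalkAlgebra P (origin φ)
    ∃ g : P.left.presheaf.stalk (origin φ) →ₐ[k] TrivSqZeroExt k (Fin n → k),
      ofStalk (origin φ) g = φ _ (univCl b) ∧ ∀ x, (g x).fst = res x := by
  letI := stalkAlgebra P (origin φ)
  let aug : TrivSqZeroExt k (Fin n → k) →ₐ[k] k := TrivSqZeroExt.fstHom k k (Fin n → k)
  have hc0 : PicF.IsInvertibleCl (univCl b) := isInvertibleCl_lcl U _ _ _ hcov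
  have h1 : Tmap aug ≫ φ _ (univCl b) = constPt φ (T k) := by
    rw [← φ_structure hP, ← φ_natural hP aug _ hc0, pullCl_lcl U _ _ _ hcov aug,
      lcl_zero U (rep U b) (rep_cocycle U b) _ hcov fun i => TrivSqZeroExt.fst_inr k (Pi.single i (1 : k) : Fin n → k)]
    rfl
  haveI := isLocalRing_trivSqZero (k := k) (M := Fin n → k)
  have hpt : (φ _ (univCl b)).left (IsLocalRing.closedPoint (TrivSqZeroExt k (Fin n → k))) = origin φ := by
    rw [← constPt_closed (φ := φ), ← h1]
    show (φ _ (univCl b)).left _ = (φ _ (univCl b)).left _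
    congr 1
    exact (subsingleton_spec_trivSqZero (k := k) (M := Fin n → k)).elim _ _
  obtain ⟨g, hg⟩ := exists_ofStalk _ _ hpt
  refine ⟨g, hg, fun x => ?_⟩
  have e : aug.comp g = (Algebra.ofId k k).comp res := by
    apply ofStalk_injective (origin φ)
    rw [hres, ← ofStalk_comp, hg, h1]
  exact congr($e x)

include hP hcov in
theorem surjective_snd (hU : ∀ a, IsAffineOpen (U a)) [IsSeparated X.hom]
    (res : letI := stalkAlgebra P (origin φ); P.left.presheaf.stalk (origin φ) →ₐ[k] k)
    (hres : letI := stalkAlgebra P (origin φ); ∀ (R : Type u) [CommRing R] [Algebra k R],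
      ofStalk (origin φ) ((Algebra.ofId k R).comp res) = constPt φ (T R))
    (g : letI := stalkAlgebra P (origin φ); P.left.presheaf.stalk (origin φ) →ₐ[k] TrivSqZeroExt k (Fin n → k))
    (hg : ofStalk (origin φ) g = φ _ (univCl b)) (hgf : ∀ x, (g x).fst = res x) :
    Function.Surjective fun x => (g x).snd := by
  classical
  letI := stalkAlgebra P (origin φ)
  let L : P.left.presheaf.stalk (origin φ) →ₗ[k] (Fin n → k) := (TrivSqZeroExt.sndHom k (Fin n → k)) ∘ₗ g.toLinearMap
  show Function.Surjective L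
  have hc0 : PicF.IsInvertibleCl (univCl b) := isInvertibleCl_lcl U _ _ _ hcov
  rw [← LinearMap.range_eq_top]
  by_contra hne
  obtain ⟨t, ht0, ht⟩ := Submodule.exists_le_ker_of_lt_top _ (lt_top_iff_ne_top.2 hne)
  have h1 : (chi t).comp g = (Algebra.ofId k (DualNumber k)).comp res := AlgHom.ext fun x => by
    refine TrivSqZeroExt.ext ?_ ?_
    · simp [(chi_apply t _).1, hgf, Algebra.ofId_apply, TrivSqZeroExt.algebraMap_eq_inl]
    · have : t (L x) = 0 := ht ⟨x, rfl⟩
      simp [(chi_apply t _).2, Algebra.ofId_apply, TrivSqZeroExt.algebraMap_eq_inl]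
      exact this
  have h2 : φ (T (DualNumber k)) (PicF.pullCl (Q X (chi t)).left (univCl b)) =
      φ _ (PicF.cl (Coh.structureModule _)) := by
    rw [φ_natural hP _ _ hc0, φ_structure hP, ← hres, ← h1, ← ofStalk_comp, hg]
  obtain ⟨ι', V, hV, hVi⟩ := hP.locallyInjective _ _ _ (PicLoc.isInvertibleCl_pullCl _ hc0)
    (isInvertibleCl_structure _) h2
  obtain ⟨i, K, _, _, j, hj⟩ := exists_dual_point V hV
  have h3 := congrArg (PicF.pullCl (PicF.XTmap X.hom j)) (hVi i)
  rw [← pullCl_XTmap_comp X, ← pullCl_XTmap_comp X, hj, pullCl_structure, XTmap_eq X,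
    pullCl_lcl U _ _ _ hcov, pullCl_lcl U _ _ _ hcov] at h3
  let s : Fin n → k := fun i => t (Pi.single i 1)
  have hs : s = 0 := by
    refine eq_zero_of_lcl_trivial U hU (K := K) b hcov s ?_
    refine Eq.trans (lcl_congr _ _ _ _ (funext fun i => ?_)) h3
    show _ = dmap k K (chi t (r0 n i))
    rw [chi_inr]
    exact (chi_inr (Algebra.linearMap k K) (s i)).symm
  exact ht0 (LinearMap.pi_ext' fun i => LinearMap.ext_ring (congrFun hs i))

include hP hcov in
theorem mem_sq_of_snd_eq_zero (hU : ∀ a, IsAffineOpen (U a)) [IsSeparated X.hom]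
    (res : letI := stalkAlgebra P (origin φ); P.left.presheaf.stalk (origin φ) →ₐ[k] k)
    (hres : letI := stalkAlgebra P (origin φ); ∀ (R : Type u) [CommRing R] [Algebra k R],
      ofStalk (origin φ) ((Algebra.ofId k R).comp res) = constPt φ (T R))
    (g : letI := stalkAlgebra P (origin φ); P.left.presheaf.stalk (origin φ) →ₐ[k] TrivSqZeroExt k (Fin n → k))
    (hg : ofStalk (origin φ) g = φ _ (univCl b))
    (x : P.left.presheaf.stalk (origin φ)) (hx : x ∈ IsLocalRing.maximalIdeal _) (hgx : (g x).snd = 0) :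
    x ∈ IsLocalRing.maximalIdeal (P.left.presheaf.stalk (origin φ)) ^ 2 := by
  classical
  letI := stalkAlgebra P (origin φ)
  let O := P.left.presheaf.stalk (origin φ)
  have hker : RingHom.ker res.toRingHom = IsLocalRing.maximalIdeal O :=
    IsLocalRing.eq_maximalIdeal (RingHom.ker_isMaximal_of_surjective _ fun c => ⟨algebraMap k O c, res.commutes c⟩)
  have hc0 : PicF.IsInvertibleCl (univCl b) := isInvertibleCl_lcl U _ _ _ hcov
  by_contra hx2
  obtain ⟨ψ, hψx, hψ⟩ := Submodule.exists_le_ker_of_notMem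
    (p := (IsLocalRing.maximalIdeal O ^ 2).restrictScalars k) hx2
  have hψ2 : ∀ a b, res a = 0 → res b = 0 → ψ (a * b) = 0 := fun a b ha hb => hψ (by
    show a * b ∈ IsLocalRing.maximalIdeal O ^ 2
    rw [sq, ← hker]
    exact Ideal.mul_mem_mul ha hb)
  let γ : T (DualNumber k) ⟶ P := ofStalk (origin φ) (gpsi res ψ hψ2)
  obtain ⟨ι', V, hV, hVi⟩ := hP.locallySurjective _ γ
  obtain ⟨i, K₁, _, _, j, hj⟩ := exists_dual_point V hV
  obtain ⟨c, hc, hcγ⟩ := hVi i
  let c1 := PicF.pullCl (PicF.XTmap X.hom j) c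
  have hc1 : PicF.IsInvertibleCl c1 := PicLoc.isInvertibleCl_pullCl _ hc
  have hφ1 : φ (T (DualNumber K₁)) c1 = Tmap (dmap k K₁) ≫ γ := by
    rw [hP.natural _ _ _ _ hc, hcγ, ← Category.assoc, hj]
  clear_value c1
  have hφ2 : φ (T K₁) (PicF.pullCl (Q X (fK K₁)).left c1) = φ _ (PicF.cl (Coh.structureModule _)) := by
    rw [φ_natural hP _ _ hc1, hφ1, φ_structure hP, ofStalk_comp, ofStalk_comp, ← hres]
    congr 1
    refine AlgHom.ext fun a => ?_
    show (dmap k K₁ (gpsi res ψ hψ2 a)).fst = _
    rw [(chi_apply _ _).1]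
    exact congrArg (algebraMap k K₁) congr($(gpsi_fst res ψ hψ2) a)
  obtain ⟨ι'', V', hV', hVi'⟩ := hP.locallyInjective _ _ _ (PicLoc.isInvertibleCl_pullCl _ hc1)
    (isInvertibleCl_structure _) hφ2
  obtain ⟨i', K₂, _, _, ψ₂, j', hj'⟩ := exists_point_cover V' hV'
  have h3 := congrArg (PicF.pullCl (PicF.XTmap X.hom j')) (hVi' i')
  rw [← pullCl_XTmap_comp X, ← pullCl_XTmap_comp X, hj', pullCl_structure, XTmap_eq X] at h3
  let c2 := PicF.pullCl (Q X (dmapHom ψ₂)).left c1
  have hred : PicF.pullCl (Q X (fK K₂)).left c2 = PicF.cl (Coh.structureModule _) := by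
    refine Eq.trans ?_ h3
    show PicF.pullCl _ (PicF.pullCl _ c1) = PicF.pullCl _ (PicF.pullCl _ c1)
    rw [PicClLib.pullCl_comp, PicClLib.pullCl_comp, ← XTmap_eq, ← XTmap_eq, ← XTmap_eq, ← XTmap_eq,
      ← XTmap_comp, ← XTmap_comp, Tmap_comp, Tmap_comp,
      show (fK K₂).comp (dmapHom ψ₂) = ψ₂.comp (fK K₁) from AlgHom.ext fun a => (dmapHom_apply ψ₂ a).1]
  obtain ⟨v, hv⟩ := exists_lcl_eq U hU b hcov c2 (PicLoc.isInvertibleCl_pullCl _ hc1) hred
  let tv : (Fin n → k) →ₗ[k] K₂ := Fintype.linearCombination k v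
  have hc2 : c2 = PicF.pullCl (Q X (chi tv)).left (univCl b) := by
    rw [hv, pullCl_lcl U _ _ _ hcov]
    refine lcl_congr _ _ _ _ (funext fun i => ?_)
    rw [chi_inr, Fintype.linearCombination_apply_single, one_smul]
  have heq : (chi tv).comp g = ((dmapHom ψ₂).comp (dmap k K₁)).comp (gpsi res ψ hψ2) := by
    apply ofStalk_injective (origin φ)
    rw [← ofStalk_comp, hg, ← ofStalk_comp (origin φ) (gpsi res ψ hψ2) ((dmapHom ψ₂).comp (dmap k K₁)),
      ← Tmap_comp, Category.assoc, ← hφ1, ← φ_natural hP _ _ hc1, ← φ_natural hP _ _ hc0]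
    exact congrArg (φ _) hc2.symm
  have h4 := congr(($heq x).snd)
  simp only [AlgHom.comp_apply, (chi_apply tv _).2, (dmapHom_apply ψ₂ _).2,
    (chi_apply (Algebra.linearMap k K₁) _).2, gpsi_snd] at h4
  rw [← hker] at hx
  rw [hgx, map_zero, show res x = 0 from hx, map_zero, sub_zero, Algebra.linearMap_apply, AlgHom.commutes] at h4
  exact hψx ((algebraMap k K₂).injective (h4.symm.trans (map_zero _).symm))

include hP hcov b in
theorem finrank_cotangent_aux (hU : ∀ a, IsAffineOpen (U a)) [IsSeparated X.hom] :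
    Module.finrank (IsLocalRing.ResidueField (P.left.presheaf.stalk (origin φ)))
      (IsLocalRing.CotangentSpace (P.left.presheaf.stalk (origin φ))) = n := by
  letI := stalkAlgebra P (origin φ)
  obtain ⟨res, hres⟩ := exists_res (φ := φ)
  obtain ⟨g, hg, hgf⟩ := exists_classifying hP hcov b res hres
  rw [finrank_cotangent_of_surjective res ((TrivSqZeroExt.sndHom k (Fin n → k)) ∘ₗ g.toLinearMap)
    (surjective_snd hP hcov b hU res hres g hg hgf) ?_ ?_ fun x hx h => mem_sq_of_snd_eq_zero hP hcov b hU res hres g hg x hx h,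
    Module.finrank_fin_fun]
  · intro c
    show (g (algebraMap k _ c)).snd = 0
    rw [g.commutes, TrivSqZeroExt.algebraMap_eq_inl, TrivSqZeroExt.snd_inl]
  · intro a c ha hc
    show (g (a * c)).snd = 0
    rw [map_mul, TrivSqZeroExt.snd_mul, hgf, hgf, ha, hc]
    simp

end Pic

/-- The tangent space of the relative Picard scheme at the origin has dimension `h¹(𝒪)`. -/
theorem finrank_cotangent (X : Scheme.{u}) [X.Over (Spec (CommRingCat.of k))]
    [IsProper (X ↘ Spec (CommRingCat.of k))] (P : Over (Spec (CommRingCat.of k)))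
    (φ : ∀ S : Over (Spec (CommRingCat.of k)), PicF.Cl (PicF.XT (X ↘ Spec (CommRingCat.of k)) S) → (S ⟶ P))
    (hP : PicRel.IsRelPic (X ↘ Spec (CommRingCat.of k)) P φ) :
    Module.finrank (IsLocalRing.ResidueField ↑(P.left.presheaf.stalk
        ((φ (Over.mk (𝟙 (Spec (CommRingCat.of k)))) (PicF.cl (Coh.structureModule (PicF.XT (X ↘ Spec (CommRingCat.of k)) (Over.mk (𝟙 (Spec (CommRingCat.of k)))))))).left.base (IsLocalRing.closedPoint k))))
        (IsLocalRing.CotangentSpace ↑(P.left.presheaf.stalk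
        ((φ (Over.mk (𝟙 (Spec (CommRingCat.of k)))) (PicF.cl (Coh.structureModule (PicF.XT (X ↘ Spec (CommRingCat.of k)) (Over.mk (𝟙 (Spec (CommRingCat.of k)))))))).left.base (IsLocalRing.closedPoint k)))) =
      Module.finrank k (Coh.HH X (Coh.structureModule X) 1) := by
  classical
  let f := X ↘ Spec (CommRingCat.of k)
  let Xo : Over (Spec (CommRingCat.of k)) := Over.mk f
  haveI : IsSeparated Xo.hom := inferInstanceAs (IsSeparated f)
  haveI : X.IsSeparated := isSeparated_left Xo
  haveI : Xo.left.IsSeparated := isSeparated_left Xo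
  haveI : CompactSpace X := QuasiCompact.compactSpace_of_compactSpace f
  haveI : IsLocallyNoetherian X := LocallyOfFiniteType.isLocallyNoetherian f
  let 𝒰 := X.affineCover.finiteSubcover
  let U : 𝒰.I₀ → X.Opens := fun a => (𝒰.f a).opensRange
  have hU : ∀ a, IsAffineOpen (U a) := fun a => by
    haveI : IsAffine (𝒰.X a) := inferInstanceAs (IsAffine (X.affineCover.X _))
    exact isAffineOpen_opensRange _
  have hcov : ⨆ a, U a = ⊤ := 𝒰.iSup_opensRange
  obtain ⟨eH⟩ : Nonempty (H1 (X := Xo) U ≃ₗ[k] Coh.HH X (Coh.structureModule X) 1) := H1_equiv (X := Xo) U hU hcov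
  haveI : Module.Finite k (Coh.HH X (Coh.structureModule X) 1) :=
    CurveCohLib.finite_HH QCoh.isCoh_structureModule' 1
  haveI : Module.Finite k (H1 (X := Xo) U) := Module.Finite.equiv eH.symm
  exact (finrank_cotangent_aux (X := Xo) hP hcov (Module.finBasis k (H1 (X := Xo) U)) hU).trans eH.finrank_eq

end Groth.Agent.PicTangent
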