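import Groth.Agent.PicTangent.JacDeg

/-!
# `Pic⁰` of a relative curve is the degree zero part
-/

set_option autoImplicit false
set_option linter.style.haveILetI false
set_option linter.unusedSectionVars false
set_option backward.isDefEq.respectTransparency false
set_option backward.isDefEq.respectTransparency.types false
set_option maxHeartbeats 1000000

universe u

open CategoryTheory CategoryTheory.Limits AlgebraicGeometry TopologicalSpace

noncomputable section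

namespace Groth.Agent.PicTangent.JacEmb

open Groth.Agent Groth.Agent.H23
open scoped Groth.Agent.H23.PicMul

variable {C S : Scheme.{u}} (f : C ⟶ S)

section Fppf

variable {T W : Over S} {ι : Type u} {V : ι → Over S} (g : ∀ i, V i ⟶ T) (hfl : ∀ i, Flat (g i).left)
  (hlp : ∀ i, LocallyOfFinitePresentation (g i).left) (hcv : ∀ t : T.left, ∃ i x, (g i).left x = t)

include hfl hlp hcv in
theorem sheafFor (Z : Scheme.{u}) :
    Presieve.IsSheafFor (yoneda.obj Z) (Presieve.ofArrows (fun i => (V i).left) fun i => (g i).left) := by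
  rw [Presieve.isSheafFor_iff_generate]
  refine (GrothendieckTopology.Subcanonical.isSheaf_of_isRepresentable (J := Scheme.fppfTopology) (yoneda.obj Z)) _
    (Precoverage.generate_mem_toGrothendieck ?_)
  rw [Scheme.fppfPrecoverage, Scheme.ofArrows_mem_precoverage_iff]
  exact ⟨fun x => hcv x, fun i => ⟨hfl i, hlp i⟩⟩

include hfl hlp hcv in
/-- Morphisms glue along fppf coverings. -/
theorem exists_glue (x : ∀ i, V i ⟶ W)
    (hx : ∀ (i j : ι) (Z : Over S) (p : Z ⟶ V i) (q : Z ⟶ V j), p ≫ g i = q ≫ g j → p ≫ x i = q ≫ x j) :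
    ∃ h : T ⟶ W, ∀ i, g i ≫ h = x i := by
  obtain ⟨t, ht, -⟩ := (Presieve.isSheafFor_arrows_iff _ _).1 (sheafFor g hfl hlp hcv W.left)
    (fun i => (x i).left) (by
    intro i j Z gi gj hij
    let Z' : Over S := Over.mk (gi ≫ (V i).hom)
    let p : Z' ⟶ V i := Over.homMk gi rfl
    let q : Z' ⟶ V j := Over.homMk gj (by
      show gj ≫ (V j).hom = gi ≫ (V i).hom
      rw [← Over.w (g i), ← Over.w (g j), ← Category.assoc, ← hij, Category.assoc])
    exact congrArg CommaMorphism.left (hx i j Z' p q (Over.OverMorphism.ext hij)))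
  have hw : t ≫ W.hom = T.hom := (sheafFor g hfl hlp hcv S).isSeparatedFor.ext (by
    rintro Z _ ⟨i⟩
    show (g i).left ≫ t ≫ W.hom = (g i).left ≫ T.hom
    have hti : (g i).left ≫ t = (x i).left := ht i
    rw [← Category.assoc, hti, Over.w (x i), Over.w (g i)])
  exact ⟨Over.homMk t hw, fun i => Over.OverMorphism.ext (ht i)⟩

end Fppf

variable [IsProper f] [Smooth f] [GeometricallyConnected f] (hdim : ∀ s : S, topologicalKrullDim ↥(f.fiber s) = 1)
  {P P₀ : Over S} {φ : ∀ T : Over S, PicF.Cl (PicF.XT f T) → (T ⟶ P)}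
  (hP : AbDual.IsRelPicK Scheme.fppfPrecoverage f P φ)
  {φ₀ : ∀ T : Over S, PicF.Cl (PicF.XT f T) → (T ⟶ P₀)}
  (hP₀ : AbDual.IsRelPicZeroK Scheme.fppfPrecoverage f P₀ φ₀)
  (j : P₀ ⟶ P) (hj : ∀ (T : Over S) (c : PicF.Cl (PicF.XT f T)), AbDual.IsPicZeroCl f T c → φ₀ T c ≫ j = φ T c)

include hP hP₀ hj in
/-- The map from `Pic⁰` to `Pic` is a monomorphism. -/
theorem mono : Mono j := by
  refine ⟨fun {T} a b hab => ?_⟩
  obtain ⟨R, hR, hR'⟩ := hP₀.locallySurjective T a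
  obtain ⟨U, w, hfl, hlp, hcv, hw⟩ := RigPoints.exists_family hR
  refine RigPoints.hom_ext (fun i => AbDual.ovr T (w i)) (fun i => AbDual.ovrHom T (w i)) hfl hlp hcv fun i => ?_
  obtain ⟨c, hc, hca⟩ := hR' (w i) (hw i)
  let T' := AbDual.ovr T (w i)
  let u : T' ⟶ T := AbDual.ovrHom T (w i)
  obtain ⟨R₂, hR₂, hR₂'⟩ := hP₀.locallySurjective T' (u ≫ b)
  obtain ⟨U₂, w₂, hfl₂, hlp₂, hcv₂, hw₂⟩ := RigPoints.exists_family hR₂
  refine RigPoints.hom_ext (fun k => AbDual.ovr T' (w₂ k)) (fun k => AbDual.ovrHom T' (w₂ k)) hfl₂ hlp₂ hcv₂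
    fun k => ?_
  obtain ⟨c', hc', hcb⟩ := hR₂' (w₂ k) (hw₂ k)
  let T'' := AbDual.ovr T' (w₂ k)
  let v : T'' ⟶ T' := AbDual.ovrHom T' (w₂ k)
  let d := PicF.pullCl (PicF.XTmap f v) c
  have hd : AbDual.IsPicZeroCl f T'' d := AbDualBase.pz_xtMap (B := Over.mk f) v hc
  have hda : φ₀ T'' d = v ≫ u ≫ a := by rw [hP₀.natural _ _ _ _ hc, hca]
  have heq : φ T'' d = φ T'' c' := by
    rw [← hj _ _ hd, ← hj _ _ hc', hda, hcb, Category.assoc, Category.assoc, hab, Category.assoc, Category.assoc]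
  obtain ⟨R₃, hR₃, hR₃'⟩ := hP.locallyInjective T'' d c' (AbDualBase.pz_invertible (A := Over.mk f) hd)
    (AbDualBase.pz_invertible (A := Over.mk f) hc') heq
  obtain ⟨U₃, w₃, hfl₃, hlp₃, hcv₃, hw₃⟩ := RigPoints.exists_family hR₃
  refine RigPoints.hom_ext (fun l => AbDual.ovr T'' (w₃ l)) (fun l => AbDual.ovrHom T'' (w₃ l)) hfl₃ hlp₃ hcv₃
    fun l => ?_
  show AbDual.ovrHom T'' (w₃ l) ≫ v ≫ u ≫ a = AbDual.ovrHom T'' (w₃ l) ≫ v ≫ u ≫ b
  rw [← hda, ← hcb, ← hP₀.natural _ _ _ _ hd, ← hP₀.natural _ _ _ _ hc', hR₃' _ (hw₃ l)]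

include hdim hP hP₀ hj in
/-- `Pic⁰` is the open and closed part of degree zero. -/
theorem openClosed : IsOpenImmersion j.left ∧ IsClosedImmersion j.left := by
  obtain ⟨d, hdc, hd⟩ := S12409.result f hdim P φ hP
  let U : P.left.Opens := ⟨d ⁻¹' {0}, hdc _⟩
  have hcl : IsClosed (U : Set P.left) := ⟨by
    show IsOpen (d ⁻¹' {0})ᶜ
    exact hdc ({0}ᶜ)⟩
  let Z : Over S := Over.mk (U.ι ≫ P.hom)
  let ιZ : Z ⟶ P := Over.homMk U.ι rfl
  haveI hmono := mono f hP hP₀ j hj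
  have hrange : ∀ p, d (j.left p) = 0 := fun p => by
    obtain ⟨R, hR, hR'⟩ := hP₀.locallySurjective P₀ (𝟙 P₀)
    obtain ⟨V, w, -, -, hcv, hw⟩ := RigPoints.exists_family hR
    obtain ⟨i, x, hx⟩ := hcv p
    obtain ⟨c, hc, hcw⟩ := hR' (w i) (hw i)
    have h0 := (JacDeg.isPicZeroCl_iff f hdim (φ := φ) hd _ (AbDualBase.pz_invertible (A := Over.mk f) hc)).1 hc x
    rw [← hj _ _ hc, hcw, Category.comp_id] at h0
    rw [← hx]
    exact h0
  let j' : P₀ ⟶ Z := Over.homMk (IsOpenImmersion.lift U.ι j.left (by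
    rintro _ ⟨p, rfl⟩
    exact ⟨⟨j.left p, hrange p⟩, rfl⟩)) (by
    show _ ≫ U.ι ≫ P.hom = P₀.hom
    rw [← Category.assoc, IsOpenImmersion.lift_fac, Over.w j])
  have hj' : j' ≫ ιZ = j := Over.OverMorphism.ext (IsOpenImmersion.lift_fac _ _ _)
  -- the inverse, glued from classes
  obtain ⟨R, hR, hR'⟩ := hP.locallySurjective Z ιZ
  obtain ⟨V, w, hfl, hlp, hcv, hw⟩ := RigPoints.exists_family hR
  choose c hc hcφ using fun i => hR' (w i) (hw i)
  have hz : ∀ i, AbDual.IsPicZeroCl f _ (c i) := fun i =>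
    (JacDeg.isPicZeroCl_iff f hdim (φ := φ) hd _ (hc i)).2 fun t => by
      rw [hcφ i]
      exact ((AbDual.ovrHom Z (w i)).left t).2
  have hxj : ∀ i, φ₀ _ (c i) ≫ j = AbDual.ovrHom Z (w i) ≫ ιZ := fun i => by rw [hj _ _ (hz i), hcφ i]
  obtain ⟨k, hk⟩ := exists_glue (fun i => AbDual.ovrHom Z (w i)) hfl hlp hcv (fun i => φ₀ _ (c i))
    fun a b T p q hpq => by
      rw [← cancel_mono j, Category.assoc, Category.assoc, hxj, hxj, ← Category.assoc, hpq, Category.assoc]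
  have hkj : k ≫ j = ιZ :=
    RigPoints.hom_ext (fun i => AbDual.ovr Z (w i)) (fun i => AbDual.ovrHom Z (w i)) hfl hlp hcv fun i => by
      rw [← Category.assoc, hk, hxj]
  haveI : Mono ιZ := Over.mono_of_mono_left ιZ
  have h1 : k ≫ j' = 𝟙 Z := by rw [← cancel_mono ιZ, Category.assoc, hj', hkj, Category.id_comp]
  have h2 : j' ≫ k = 𝟙 P₀ := by rw [← cancel_mono j, Category.assoc, hkj, hj', Category.id_comp]
  haveI : IsIso j' := ⟨k, h2, h1⟩
  haveI : IsIso j'.left := inferInstanceAs (IsIso ((Over.forget S).map j'))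
  have e : j.left = j'.left ≫ U.ι := (congrArg CommaMorphism.left hj').symm
  refine ⟨e ▸ inferInstance, ?_⟩
  haveI : IsClosedImmersion U.ι := by
    refine IsClosedImmersion.of_isPreimmersion _ ?_
    rw [Scheme.Opens.range_ι]
    exact hcl
  exact e ▸ inferInstance

end Groth.Agent.PicTangent.JacEmb
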