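import Groth.Agent.Lib.RigPoints
import Groth.Agent.Lib.AVDualBC
import Groth.Agent.Lib.SectionGamma
import Groth.Agent.PicLift.Flat
import Groth.Agent.RelPC17.HighVanish
import Groth.Agent.FibDim.BaseField
import Groth.Agent.Pi1Ext.StF.Tower
import Groth.Agent.S0412
import Groth.Agent.FpqcDescLib.Closed
import Groth.Agent.S1488

/-!
# Smoothness of the relative Picard scheme of a relative curve
-/

set_option autoImplicit false
set_option linter.style.haveILetI false
set_option linter.unusedSectionVars false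
set_option backward.isDefEq.respectTransparency false
set_option backward.isDefEq.respectTransparency.types false
set_option maxHeartbeats 1000000

universe u

open CategoryTheory CategoryTheory.Limits AlgebraicGeometry TopologicalSpace Opposite

noncomputable section

namespace Groth.Agent.PicTangent.CurveSmooth

open Groth.Agent Groth.Agent.H23
open scoped Groth.Agent.H23.PicMul

section BaseChange

variable {S S' : Scheme.{u}} (f : S' ⟶ S) {A At : Over S}

/-- Representing objects of the Picard functor are stable under base change. -/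
theorem isRelPicK_bc {φ : AgPol.DualMap A At} (hφ : AbDual.IsRelPicK Scheme.fppfPrecoverage A.hom At φ) :
    AbDual.IsRelPicK Scheme.fppfPrecoverage (Red.bc f A).hom (Red.bc f At) (AgPol.bcDual f A At φ) where
  natural T T' g c hc := by
    rw [AVDualBC.bcDual_eq, AVDualBC.bcDual_eq, ← AVDualBC.up_pre,
      ← hφ.natural _ _ (AVDualBC.dnMap f g) _ (PicClLib.isInvertibleCl_pullCl _ hc), PicClLib.pullCl_comp,
      AVDualBC.inv_xtMap, ← PicClLib.pullCl_comp]
  locallySurjective T g := by
    obtain ⟨x, rfl⟩ := AVDualBC.up_surjective g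
    obtain ⟨R, hR, hs⟩ := hφ.locallySurjective (AVDualBC.dn f T) x
    refine ⟨R, hR, fun U v hv => ?_⟩
    obtain ⟨c, hc, hcv⟩ := hs v hv
    let a : AVDualBC.dn f (AbDual.ovr T v) ⟶ AbDual.ovr (AVDualBC.dn f T) v := Over.homMk (𝟙 U) (by
      show 𝟙 U ≫ v ≫ T.hom ≫ f = (v ≫ T.hom) ≫ f
      rw [Category.id_comp, Category.assoc])
    refine ⟨PicF.pullCl (AgPol.bcXTIso f A (AbDual.ovr T v)).hom (PicF.pullCl (PicF.XTmap A.hom a) c),
      PicClLib.isInvertibleCl_pullCl _ (PicClLib.isInvertibleCl_pullCl _ hc), ?_⟩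
    rw [AVDualBC.bcDual_eq, PicClLib.pullCl_comp (AgPol.bcXTIso f A (AbDual.ovr T v)).inv, Iso.inv_hom_id,
      PicClLib.pullCl_id, hφ.natural _ _ a c hc, hcv, ← AVDualBC.up_pre]
    refine congrArg AVDualBC.up (Over.OverMorphism.ext ?_)
    show 𝟙 U ≫ v ≫ x.left = v ≫ x.left
    rw [Category.id_comp]
  locallyInjective T c c' hc hc' e := by
    rw [AVDualBC.bcDual_eq, AVDualBC.bcDual_eq] at e
    obtain ⟨R, hR, hi⟩ := hφ.locallyInjective (AVDualBC.dn f T) _ _ (PicClLib.isInvertibleCl_pullCl _ hc)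
      (PicClLib.isInvertibleCl_pullCl _ hc') (AVDualBC.up_injective e)
    refine ⟨R, hR, fun U v hv => ?_⟩
    let a : AVDualBC.dn f (AbDual.ovr T v) ⟶ AbDual.ovr (AVDualBC.dn f T) v := Over.homMk (𝟙 U) (by
      show 𝟙 U ≫ v ≫ T.hom ≫ f = (v ≫ T.hom) ≫ f
      rw [Category.id_comp, Category.assoc])
    have key : ∀ d : PicF.Cl (PicF.XT (Red.bc f A).hom T),
        PicF.pullCl (PicF.XTmap (Red.bc f A).hom (AbDual.ovrHom T v)) d =
        PicF.pullCl (AgPol.bcXTIso f A (AbDual.ovr T v)).hom (PicF.pullCl (PicF.XTmap A.hom a)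
          (PicF.pullCl (PicF.XTmap A.hom (AbDual.ovrHom (AVDualBC.dn f T) v))
            (PicF.pullCl (AgPol.bcXTIso f A T).inv d))) := fun d => by
      rw [PicClLib.pullCl_comp, PicClLib.pullCl_comp, PicClLib.pullCl_comp]
      refine congrArg (PicF.pullCl · d) ?_
      rw [← cancel_mono (AgPol.bcXTIso f A T).hom, AVDualBC.hom_xtMap]
      simp only [Category.assoc, Iso.inv_hom_id, Category.comp_id]
      refine congrArg (_ ≫ ·) (pullback.hom_ext ?_ ?_)
      · simp [PicF.XTmap]
      · simp [PicF.XTmap, a]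
    rw [key, key, hi v hv]

end BaseChange

/-- Fibre dimensions of a base change are bounded by those of the morphism. -/
theorem dim_fiber_snd_le {X S S' : Scheme.{u}} (f : X ⟶ S) [LocallyOfFiniteType f] (g : S' ⟶ S) (t : S')
    (d : ℕ) (hd : ∀ s, topologicalKrullDim ↥(f.fiber s) ≤ d) :
    topologicalKrullDim ↥((pullback.snd f g).fiber t) ≤ d := by
  let v : Spec (S'.residueField t) ⟶ Spec (S.residueField (g t)) := Spec.map (g.residueFieldMap t)
  have hv : v ≫ S.fromSpecResidueField (g t) = S'.fromSpecResidueField t ≫ g :=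
    Scheme.Hom.SpecMap_residueFieldMap_fromSpecResidueField g t
  let p₁ := pullback.fst (pullback.snd f g) (S'.fromSpecResidueField t)
  let p₂ := pullback.snd (pullback.snd f g) (S'.fromSpecResidueField t)
  have outer : IsPullback (p₁ ≫ pullback.fst f g) p₂ f (S'.fromSpecResidueField t ≫ g) :=
    (IsPullback.of_hasPullback (pullback.snd f g) (S'.fromSpecResidueField t)).paste_horiz
      (IsPullback.of_hasPullback f g)
  rw [← hv] at outer
  let m : (pullback.snd f g).fiber t ⟶ f.fiber (g t) :=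
    pullback.lift (p₁ ≫ pullback.fst f g) (p₂ ≫ v) (by rw [outer.w, Category.assoc])
  have sq : IsPullback m p₂ (f.fiberToSpecResidueField (g t)) v := by
    refine IsPullback.of_right ?_ (pullback.lift_snd _ _ _)
      (IsPullback.of_hasPullback f (S.fromSpecResidueField (g t)))
    rw [pullback.lift_fst]
    exact outer
  haveI : LocallyOfFiniteType (f.fiberToSpecResidueField (g t)) :=
    inferInstanceAs (LocallyOfFiniteType (pullback.snd f (S.fromSpecResidueField (g t))))
  haveI : LocallyOfFiniteType p₂ := MorphismProperty.of_isPullback sq inferInstance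
  haveI : Subsingleton ↥(Spec (S.residueField (g t))) := inferInstanceAs (Subsingleton (PrimeSpectrum _))
  haveI : Subsingleton ↥(Spec (S'.residueField t)) := inferInstanceAs (Subsingleton (PrimeSpectrum _))
  haveI : Nonempty ↥(Spec (S'.residueField t)) := inferInstanceAs (Nonempty (PrimeSpectrum _))
  exact (FibDim.topologicalKrullDim_baseChange sq).trans_le (hd (g t))

/-- The Picard scheme of a curve with a section is smooth. -/
theorem smooth_of_section {X S : Scheme.{u}} (f : X ⟶ S) [IsProper f] [Flat f] [LocallyOfFinitePresentation f]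
    [GeometricallyReduced f] [GeometricallyConnected f] (hdim : ∀ s, topologicalKrullDim ↥(f.fiber s) ≤ (1 : ℕ))
    (σ : S ⟶ X) (hσ : σ ≫ f = 𝟙 S) {P : Over S} [LocallyOfFinitePresentation P.hom]
    {φ : ∀ T : Over S, PicF.Cl (PicF.XT f T) → (T ⟶ P)} (hP : AbDual.IsRelPicK Scheme.fppfPrecoverage f P φ) :
    Smooth P.hom := by
  refine (S1488.result P.hom).2 ⟨inferInstance, fun R _ I hI a b hab => ?_⟩
  let π := Ideal.Quotient.mk I
  let T : Over S := Over.mk b
  let T₀ : Over S := Over.mk (Spec.map (CommRingCat.ofHom π) ≫ b)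
  let mq : T₀ ⟶ T := Over.homMk (Spec.map (CommRingCat.ofHom π)) rfl
  let a₀ : T₀ ⟶ P := Over.homMk a hab.symm
  have ha : ∀ (T : Over S) (U : T.left.Opens), IsIso ((PicF.XTproj f T).app U) := fun T U => by
    let p := PicF.XTproj f T
    haveI : IsProper p := inferInstanceAs (IsProper (pullback.snd f T.hom))
    haveI : Flat p := MorphismProperty.pullback_snd f T.hom inferInstance
    haveI : LocallyOfFinitePresentation p := MorphismProperty.pullback_snd f T.hom inferInstance
    haveI : GeometricallyReduced p := MorphismProperty.pullback_snd f T.hom inferInstance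
    haveI : GeometricallyConnected p := MorphismProperty.pullback_snd f T.hom inferInstance
    exact (ConcreteCategory.isIso_iff_bijective _).2 (SectionGamma.bijective_app p (H23.RigidGamma.constFibres p)
      (PicF.secT f σ hσ T) (pullback.lift_snd _ _ _) U)
  have hQ : RigPoints.Dom f (fun _ c => PicF.IsInvertibleCl c) :=
    { inv := fun h => h
      pull := fun g _ h => PicClLib.isInvertibleCl_pullCl _ h
      twist := fun h hm => H23.PicMul.isInvertibleCl_mul h (PicClLib.isInvertibleCl_pullCl _ hm)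
      desc := fun h _ _ _ _ _ _ _ => h }
  obtain ⟨c, hc, hca⟩ := RigPoints.surjective f σ hσ ha hQ
    (⟨hP.natural, hP.locallySurjective, hP.locallyInjective⟩ : RigPoints.Pts f _ P φ) a₀
  let t : PicF.XT f T₀ ⟶ PicF.XT f T := PicF.XTmap f mq
  have sqt : IsPullback t (pullback.snd f T₀.hom) (pullback.snd f T.hom) (Spec.map (CommRingCat.ofHom π)) :=
    RigPoints.isPullback_XTmap f mq
  haveI : IsClosedImmersion t := PicLift.closed_of_sq Ideal.Quotient.mk_surjective sqt
  have hI2 : t.ker * t.ker = ⊥ := by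
    refine Scheme.IdealSheafData.ext (funext fun V => ?_)
    rw [Scheme.IdealSheafData.ideal_mul]
    show t.ker.ideal V * t.ker.ideal V = (⊥ : Scheme.IdealSheafData _).ideal V
    rw [PicLift.ideal_ker Ideal.Quotient.mk_surjective sqt V.2, ← Ideal.map_mul, Ideal.mk_ker, ← pow_two, hI,
      Ideal.map_bot]
    simp
  haveI : IsAffine T.left := inferInstanceAs (IsAffine (Spec (CommRingCat.of R)))
  haveI : IsProper (pullback.snd f T.hom) := inferInstance
  have hH2 : Subsingleton (Coh.HH (PicF.XT f T) (ClSub.idealMod t.ker) 2) :=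
    RelPC17.HighVanish.subsingleton_HH_of_fibre_dim (pullback.snd f T.hom) 1
      (fun s => dim_fiber_snd_le f T.hom s 1 hdim) (PPSheaf.isQCoh_idealMod t.ker) 2 Nat.one_lt_two
  obtain ⟨L₁, hL₁, hL₁i⟩ := c.2.1
  obtain ⟨L, hL, ⟨eL⟩⟩ := PicLift.exists_lift_closed t hI2 hH2 L₁ hL₁i
  have hpull : PicF.pullCl (PicF.XTmap f mq) (PicF.cl L) = c.1 :=
    ((PicGrp.cl_eq_cl_iff _ _).2 ⟨eL⟩).trans hL₁
  refine ⟨(φ T (PicF.cl L)).left, ?_, Over.w (φ T (PicF.cl L))⟩
  show (mq ≫ φ T (PicF.cl L)).left = _
  rw [← hP.natural _ _ mq _ ⟨L, rfl, hL⟩, hpull, hca]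
  rfl

/-- Etale locally a curve with geometrically reduced fibres has a section. -/
theorem exists_etale_section {X S : Scheme.{u}} (f : X ⟶ S) [Flat f] [LocallyOfFinitePresentation f]
    [GeometricallyReduced f] (hne : ∀ s, Nonempty ↥(f.fiber s)) :
    ∃ (S' : Scheme.{u}) (q : S' ⟶ S), Etale q ∧ Surjective q ∧ ∃ h : S' ⟶ X, h ≫ f = q := by
  let V := f.smoothLocus
  haveI : Smooth (f.smoothLocus.ι ≫ f) := by
    rw [← Scheme.Hom.smoothLocus_eq_top_iff, ← Scheme.Hom.preimage_smoothLocus_eq f.smoothLocus.ι f]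
    exact top_unique fun x _ => x.2
  haveI : Surjective (f.smoothLocus.ι ≫ f) := ⟨fun s => by
    obtain ⟨z⟩ := hne s
    obtain ⟨w, -, hw⟩ := Pi1Ext.StF.exists_smooth_point f s ⊤ ⟨z, trivial⟩
    exact ⟨⟨f.fiberι s w, hw⟩, (Scheme.Hom.range_fiberι f s).subset ⟨w, rfl⟩⟩⟩
  choose S₁ g s₁ hg hgs h hh using fun s : S =>
    Groth.Agent.S0412.result (f.smoothLocus.ι ≫ f) s ((f.smoothLocus.ι ≫ f).surjective s)
  refine ⟨∐ S₁, Sigma.desc g, IsZariskiLocalAtSource.sigmaDesc hg, ⟨fun s => ?_⟩,
    Sigma.desc fun s => h s ≫ f.smoothLocus.ι, ?_⟩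
  · refine ⟨Sigma.ι S₁ s (s₁ s), ?_⟩
    rw [← Scheme.Hom.comp_apply, Sigma.ι_desc, hgs]
  · apply Sigma.hom_ext
    intro s
    rw [Sigma.ι_desc_assoc, Sigma.ι_desc, Category.assoc, hh]

/-- The Picard scheme of a relative curve is smooth. -/
theorem smooth {X S : Scheme.{u}} (f : X ⟶ S) [IsProper f] [Flat f] [LocallyOfFinitePresentation f]
    [GeometricallyReduced f] [GeometricallyConnected f] (hdim : ∀ s, topologicalKrullDim ↥(f.fiber s) ≤ (1 : ℕ))
    (hne : ∀ s, Nonempty ↥(f.fiber s)) {P : Over S} [LocallyOfFinitePresentation P.hom]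
    {φ : ∀ T : Over S, PicF.Cl (PicF.XT f T) → (T ⟶ P)} (hP : AbDual.IsRelPicK Scheme.fppfPrecoverage f P φ) :
    Smooth P.hom := by
  obtain ⟨S', q, hq, hqs, h, hh⟩ := exists_etale_section f hne
  have hcov : FpqcDescLib.Covers q := FpqcDescLib.covers_of_isCovering (FpqcDescLib.isCovering_of_lfp q)
  let C' := Red.bc q (Over.mk f)
  haveI : IsProper C'.hom := inferInstanceAs (IsProper (pullback.snd f q))
  haveI : Flat C'.hom := MorphismProperty.pullback_snd f q inferInstance
  haveI : LocallyOfFinitePresentation C'.hom := MorphismProperty.pullback_snd f q inferInstance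
  haveI : GeometricallyReduced C'.hom := MorphismProperty.pullback_snd f q inferInstance
  haveI : GeometricallyConnected C'.hom := MorphismProperty.pullback_snd f q inferInstance
  haveI : LocallyOfFinitePresentation (Red.bc q P).hom := MorphismProperty.pullback_snd P.hom q inferInstance
  have hs : Smooth (Red.bc q P).hom :=
    smooth_of_section C'.hom (fun s => dim_fiber_snd_le f q s 1 hdim)
      (pullback.lift h (𝟙 S') (hh.trans (Category.id_comp q).symm)) (pullback.lift_snd _ _ _)
      (isRelPicK_bc q (A := Over.mk f) hP)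
  exact hcov.descends @Smooth P.hom (pullback.snd P.hom q) (pullback.fst P.hom q)
    (IsPullback.of_hasPullback P.hom q).flip hs

end Groth.Agent.PicTangent.CurveSmooth
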