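import Groth.Agent.PicTangent.JacDiff
import Groth.Agent.PicTangent.CurveSmooth
import Groth.Agent.SeesawX.PicSep
import Groth.Agent.Lib.AVPoincareExist

/-!
# The Jacobian of a relative curve is proper with connected fibres
-/

set_option autoImplicit false
set_option linter.style.haveILetI false
set_option linter.unusedSectionVars false
set_option backward.isDefEq.respectTransparency false
set_option backward.isDefEq.respectTransparency.types false
set_option maxHeartbeats 1000000

universe u

open CategoryTheory CategoryTheory.Limits AlgebraicGeometry TopologicalSpace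

noncomputable section

namespace Groth.Agent.PicTangent.JacProper

open Groth.Agent Groth.Agent.H23 Groth.Agent.H23.PicMul Groth.Agent.PicTangent.JacDiff
open scoped Groth.Agent.H23.PicMul

attribute [local instance] PicMul.clMonoid

variable {C S : Scheme.{u}} (f : C ⟶ S)

theorem geomPoint_apply {X : Scheme.{u}} (x : X) {Ω : CommRingCat.{u}} (ψ : X.residueField x ⟶ Ω)
    (z : Spec Ω) : (Spec.map ψ ≫ X.fromSpecResidueField x) z = x := by
  rw [Scheme.Hom.comp_apply]
  exact Scheme.fromSpecResidueField_apply _ _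

theorem exists_geomPoint {X : Scheme.{u}} (x : X) :
    ∃ (Ω : Type u) (_ : Field Ω) (_ : IsAlgClosed Ω) (σ : Spec (CommRingCat.of Ω) ⟶ X),
      σ (IsLocalRing.closedPoint Ω : PrimeSpectrum Ω) = x := by
  let F : Type u := X.residueField x
  letI : Field F := inferInstanceAs (Field (X.residueField x))
  exact ⟨AlgebraicClosure F, inferInstance, inferInstance, _,
    geomPoint_apply x (CommRingCat.ofHom (algebraMap F (AlgebraicClosure F))) _⟩

/-- One more pair of points. -/
abbrev next (W : Over S) : Over S := Over.mk (pullback.fst W.hom (pullback.fst f f ≫ f) ≫ W.hom)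

/-- The projection. -/
abbrev nextW (W : Over S) : next f W ⟶ W := Over.homMk (pullback.fst _ _) rfl

/-- The first new point. -/
abbrev next₁ (W : Over S) : next f W ⟶ Over.mk f :=
  Over.homMk (pullback.snd W.hom (pullback.fst f f ≫ f) ≫ pullback.fst f f)
    (by
      show (pullback.snd W.hom (pullback.fst f f ≫ f) ≫ pullback.fst f f) ≫ f = _
      rw [Category.assoc, ← pullback.condition]
      rfl)

/-- The second new point. -/
abbrev next₂ (W : Over S) : next f W ⟶ Over.mk f :=
  Over.homMk (pullback.snd W.hom (pullback.fst f f ≫ f) ≫ pullback.snd f f)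
    (by
      show (pullback.snd W.hom (pullback.fst f f ≫ f) ≫ pullback.snd f f) ≫ f = _
      rw [Category.assoc, ← pullback.condition (f := f) (g := f), ← pullback.condition]
      rfl)

/-- The family of `n` pairs of points. -/
def W : ℕ → Over S
  | 0 => Over.mk (𝟙 S)
  | n + 1 => next f (W n)

variable [IsProper f] [SmoothOfRelativeDimension 1 f]

/-- The class of the sum of the differences. -/
def cls : (n : ℕ) → PicF.Cl (PicF.XT f (W f n))
  | 0 => 1
  | n + 1 => PicF.pullCl (PicF.XTmap f (nextW f (W f n))) (cls n) *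
      δ f (next f (W f n)) (next₁ f (W f n)) (next₂ f (W f n))

theorem cls_invertible : ∀ n, PicF.IsInvertibleCl (cls f n)
  | 0 => ⟨_, rfl, PicLoc.isInvertible_structureModule _⟩
  | n + 1 => by
    refine inv_mul_cl ?_ (δ_invertible f _ _ _)
    obtain ⟨L, hL, hLi⟩ := cls_invertible n
    exact ⟨_, congrArg (PicF.pullCl _) hL, PicClLib.isInvertible_pullback _ hLi⟩

theorem pull_pull {T T' T'' : Over S} (a : T'' ⟶ T') (b : T' ⟶ T) (c : PicF.Cl (PicF.XT f T)) :
    PicF.pullCl (PicF.XTmap f a) (PicF.pullCl (PicF.XTmap f b) c) = PicF.pullCl (PicF.XTmap f (a ≫ b)) c := by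
  rw [PicClLib.pullCl_comp, ← PicClLib.XTmap_comp]

theorem pull_succ_aux {T : Over S} (V : Over S) (c : PicF.Cl (PicF.XT f V)) (g : T ⟶ next f V) :
    PicF.pullCl (PicF.XTmap f g)
        (PicF.pullCl (PicF.XTmap f (nextW f V)) c * δ f (next f V) (next₁ f V) (next₂ f V)) =
      PicF.pullCl (PicF.XTmap f (g ≫ nextW f V)) c * δ f T (g ≫ next₁ f V) (g ≫ next₂ f V) := by
  rw [PicMul.pullCl_mul, pull_δ, pull_pull]

variable [GeometricallyConnected f]

theorem props (n : ℕ) : IsProper (W f n).hom ∧ Smooth (W f n).hom ∧ GeometricallyConnected (W f n).hom := by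
  haveI : Smooth f := SmoothOfRelativeDimension.smooth 1 f
  induction n with
  | zero =>
    refine ⟨inferInstanceAs (IsProper (𝟙 S)), inferInstanceAs (Smooth (𝟙 S)), ?_⟩
    refine ⟨fun K _ y Y fst snd h => ?_⟩
    haveI : IsIso (W f 0).hom := inferInstanceAs (IsIso (𝟙 S))
    haveI : IsIso snd := h.isIso_snd_of_isIso
    haveI : ConnectedSpace ↥(Spec (CommRingCat.of K)) := by
      haveI : Subsingleton ↥(Spec (CommRingCat.of K)) := inferInstanceAs (Subsingleton (PrimeSpectrum K))
      haveI : Nonempty ↥(Spec (CommRingCat.of K)) := inferInstanceAs (Nonempty (PrimeSpectrum K))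
      exact ⟨inferInstance⟩
    exact snd.homeomorph.connectedSpace_iff.2 inferInstance
  | succ n ih =>
    obtain ⟨h1, h2, h3⟩ := ih
    let g := pullback.fst f f ≫ f
    haveI : GeometricallyConnected g := GeometricallyConnected.comp _ _
    let p := pullback.fst (W f n).hom g
    haveI : IsProper g := inferInstance
    haveI : Smooth g := inferInstance
    haveI : IsProper p := MorphismProperty.pullback_fst _ _ inferInstance
    haveI : Smooth p := MorphismProperty.pullback_fst _ _ inferInstance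
    refine ⟨inferInstanceAs (IsProper (p ≫ (W f n).hom)), inferInstanceAs (Smooth (p ≫ (W f n).hom)), ?_⟩
    haveI : GeometricallyConnected p := MorphismProperty.pullback_fst _ _ inferInstance
    exact GeometricallyConnected.comp p (W f n).hom

section Geometric

variable {Ω : Type u} [Field Ω] (b : Spec (CommRingCat.of Ω) ⟶ S)

/-- Products of differences come from the family. -/
theorem exists_point (n : ℕ) {c : PicF.Cl (PicF.XT f (Over.mk b))} (h : Diffs f b n c) :
    ∃ g : Over.mk b ⟶ W f n, PicF.pullCl (PicF.XTmap f g) (cls f n) = c := by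
  induction n generalizing c with
  | zero => exact ⟨Over.homMk b (Category.comp_id b), (PicMul.pullCl_one _).trans h.symm⟩
  | succ n ih =>
    obtain ⟨c', a, a', hc', rfl⟩ := h
    obtain ⟨g, hg⟩ := ih hc'
    let q : Spec (CommRingCat.of Ω) ⟶ pullback f f :=
      pullback.lift a.left a'.left ((Over.w a).trans (Over.w a').symm)
    let g' : Over.mk b ⟶ next f (W f n) := Over.homMk (pullback.lift g.left q (by
        rw [← Category.assoc, pullback.lift_fst]
        exact (Over.w g).trans (Over.w a).symm)) (by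
      show pullback.lift g.left q _ ≫ pullback.fst _ _ ≫ (W f n).hom = b
      rw [← Category.assoc, pullback.lift_fst]
      exact Over.w g)
    have hw : g' ≫ nextW f (W f n) = g := Over.OverMorphism.ext (pullback.lift_fst _ _ _)
    have h₁ : g' ≫ next₁ f (W f n) = a := Over.OverMorphism.ext (by
      show pullback.lift g.left q _ ≫ pullback.snd _ _ ≫ pullback.fst f f = _
      rw [← Category.assoc, pullback.lift_snd, pullback.lift_fst])
    have h₂ : g' ≫ next₂ f (W f n) = a' := Over.OverMorphism.ext (by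
      show pullback.lift g.left q _ ≫ pullback.snd _ _ ≫ pullback.snd f f = _
      rw [← Category.assoc, pullback.lift_snd, pullback.lift_snd])
    refine ⟨g', (pull_succ_aux f (W f n) (cls f n) g').trans ?_⟩
    rw [hw, hg, h₁, h₂]

variable (hdim : ∀ s : S, topologicalKrullDim ↥(f.fiber s) = 1) [IsAlgClosed Ω]

include hdim in
theorem deg0_cls (n : ℕ) (g : Over.mk b ⟶ W f n) :
    Deg0 f b (PicF.pullCl (PicF.XTmap f g) (cls f n)) := by
  haveI : Smooth f := SmoothOfRelativeDimension.smooth 1 f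
  haveI := JacDeg.geometricallyIntegral f
  induction n with
  | zero =>
    letI := overX f b
    haveI : IsProper (PicF.XT f (Over.mk b) ↘ Spec (CommRingCat.of Ω)) :=
      inferInstanceAs (IsProper (pullback.snd f b))
    haveI := isIntegral_X f b
    haveI : Smooth (PicF.XT f (Over.mk b) ↘ Spec (CommRingCat.of Ω)) :=
      inferInstanceAs (Smooth (pullback.snd f b))
    intro M hM
    rw [show cls f 0 = 1 from rfl, PicMul.pullCl_one, PicMul.one_def] at hM
    obtain ⟨e⟩ := PicMul.cl_eq_iff.1 hM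
    rw [CurveRR.deg_congr Ω e 1, CurveDeg.deg_structureModule]
  | succ n ih =>
    let g₁ : Over.mk b ⟶ next f (W f n) := g
    have h := pull_succ_aux f (W f n) (cls f n) g₁
    refine (congrArg (Deg0 f b) h).mpr (Deg0.mul f b hdim ?_ (δ_invertible f _ _ _) (ih _) (deg0_δ f b hdim _ _))
    obtain ⟨L, hL, hLi⟩ := cls_invertible f n
    exact ⟨_, congrArg (PicF.pullCl _) hL, PicClLib.isInvertible_pullback _ hLi⟩

end Geometric

/-- The Euler characteristic of the fibres. -/
def χ₀ (s : S) : ℤ := S12409.chi f (Over.mk (𝟙 S)) (Coh.structureModule _) s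

theorem isLocallyConstant_χ₀ : IsLocallyConstant (χ₀ f) := by
  haveI : Smooth f := SmoothOfRelativeDimension.smooth 1 f
  exact S12409.isLocallyConstant_chi f (Over.mk (𝟙 S)) (PicLoc.isInvertible_structureModule _)

variable (hdim : ∀ s : S, topologicalKrullDim ↥(f.fiber s) = 1)

include hdim in
theorem euler_eq {Ω : Type u} [Field Ω] (b : Spec (CommRingCat.of Ω) ⟶ S) (t : (Over.mk b).left) :
    letI := overX f b
    Curv2.euler Ω (PicF.XT f (Over.mk b)) (Coh.structureModule _) = χ₀ f (b t) := by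
  haveI : Smooth f := SmoothOfRelativeDimension.smooth 1 f
  letI := overX f b
  haveI : IsProper (PicF.XT f (Over.mk b) ↘ Spec (CommRingCat.of Ω)) :=
    inferInstanceAs (IsProper (pullback.snd f b))
  let T : Over S := Over.mk b
  let g : T ⟶ Over.mk (𝟙 S) := Over.homMk b (Category.comp_id b)
  have hO : Coh.IsQCoh (Coh.structureModule (PicF.XT f (Over.mk (𝟙 S)))) :=
    JacPoint.isQCoh_of_isInvertible (PicLoc.isInvertible_structureModule _)
  have hOT : Coh.IsQCoh (Coh.structureModule (PicF.XT f T)) :=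
    JacPoint.isQCoh_of_isInvertible (PicLoc.isInvertible_structureModule _)
  have hd1 : topologicalKrullDim ↥(PicF.XT f T) ≤ ((1 : ℕ) : WithBot ℕ∞) := by
    rw [show topologicalKrullDim ↥(PicF.XT f T) = 1 from dim_X f b hdim]
    rfl
  show _ = S12409.chi f (Over.mk (𝟙 S)) _ (g.left t)
  rw [← S12409.chi_bc f g _ hO t, S12409.chi_congr f T (N := Coh.structureModule _) (PicMul.pullCl_one _) t,
    ← Pic13Lib.eulerCharLE_eq (k := Ω) hd1 hOT, ← fibre_euler f b t hOT]
  let h := PicF.XTproj f T
  haveI : IsProper h := MorphismProperty.pullback_snd f T.hom inferInstance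
  haveI : IsProper ((FGA.fibreAt f T t).left ↘ Spec (CommRingCat.of (T.left.residueField t))) :=
    MorphismProperty.pullback_snd h _ inferInstance
  have hd : topologicalKrullDim ↥(h.fiber t) ≤ ((1 : ℕ) : WithBot ℕ∞) := by
    rw [FlatMisc.ApproxDim.fibre_dim_baseChange (IsPullback.of_hasPullback f T.hom) t, hdim]
    rfl
  exact Pic13Lib.eulerCharLE_eq (k := T.left.residueField t) (X := (FGA.fibreAt f T t).left) hd
    (QCoh.isQCoh_pullback (h.fiberι t) hOT)

variable {P P₀ : Over S} {φ : ∀ T : Over S, PicF.Cl (PicF.XT f T) → (T ⟶ P)}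
  (hP : AbDual.IsRelPicK Scheme.fppfPrecoverage f P φ)
  {φ₀ : ∀ T : Over S, PicF.Cl (PicF.XT f T) → (T ⟶ P₀)}
  (hP₀ : AbDual.IsRelPicZeroK Scheme.fppfPrecoverage f P₀ φ₀)

include hdim hP in
theorem pz_cls (n : ℕ) : AbDual.IsPicZeroCl f (W f n) (cls f n) := by
  haveI : Smooth f := SmoothOfRelativeDimension.smooth 1 f
  obtain ⟨d, -, hd⟩ := S12409.result f hdim P φ hP
  refine (JacDeg.isPicZeroCl_iff f hdim (φ := φ) hd _ (cls_invertible f n)).2 fun t => ?_
  obtain ⟨Ω, hΩ, hΩ', σ, hσ⟩ := exists_geomPoint t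
  let b := σ ≫ (W f n).hom
  let g : Over.mk b ⟶ W f n := Over.homMk σ rfl
  let z : (Over.mk b).left := (IsLocalRing.closedPoint Ω : PrimeSpectrum Ω)
  have hz : g.left z = t := hσ
  obtain ⟨L, hL, hLi⟩ := cls_invertible f n
  obtain ⟨M, hM, hMi⟩ : PicF.IsInvertibleCl (PicF.pullCl (PicF.XTmap f g) (cls f n)) :=
    ⟨_, congrArg (PicF.pullCl _) hL, PicClLib.isInvertible_pullback _ hLi⟩
  have h : d ((φ (Over.mk b) (PicF.pullCl (PicF.XTmap f g) (cls f n))).left z) = 0 := by
    rw [← hM, deg_point f b hdim hd z hMi]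
    exact deg0_cls f b hdim n g M hM
  rw [hP.natural _ _ _ _ (cls_invertible f n)] at h
  rw [← hz]
  exact h

/-- The map from the family of pairs of points. -/
abbrev ψ (n : ℕ) : W f n ⟶ P₀ := φ₀ (W f n) (cls f n)

include hdim hP hP₀ in
/-- The family of `n` pairs of points covers the fibres with `1 - χ ≤ n`. -/
theorem hit (n : ℕ) (p : P₀.left) (hn : 1 - χ₀ f (P₀.hom p) ≤ (n : ℤ)) :
    ∃ w, (ψ f (φ₀ := φ₀) n).left w = p := by
  haveI : Smooth f := SmoothOfRelativeDimension.smooth 1 f
  haveI := JacDeg.geometricallyIntegral f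
  obtain ⟨d, -, hd⟩ := S12409.result f hdim P φ hP
  obtain ⟨Ω, hΩ, hΩ', q, hz⟩ := exists_geomPoint p
  let b := q ≫ P₀.hom
  let T : Over S := Over.mk b
  let g₀ : T ⟶ P₀ := Over.homMk q rfl
  let z : T.left := (IsLocalRing.closedPoint Ω : PrimeSpectrum Ω)
  obtain ⟨R, hR, hR'⟩ := hP₀.locallySurjective T g₀
  obtain ⟨U, w, -, hlp, hcv, hw⟩ := RigPoints.exists_family hR
  obtain ⟨i, x, hx⟩ := hcv z
  haveI := hlp i
  obtain ⟨s, hs⟩ := AVPoincareExist.exists_lift (w i) (Ω := Ω) (𝟙 (Spec (CommRingCat.of Ω))) (x := x)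
    (hx.trans rfl)
  let h : T ⟶ AbDual.ovr T (w i) := Over.homMk s (by
    show s ≫ w i ≫ b = b
    rw [← Category.assoc, hs]
    exact Category.id_comp b)
  have hh : h ≫ AbDual.ovrHom T (w i) = 𝟙 T := Over.OverMorphism.ext hs
  obtain ⟨c₁, hc₁, hφc₁⟩ := hR' (w i) (hw i)
  let c := PicF.pullCl (PicF.XTmap f h) c₁
  have hc : AbDual.IsPicZeroCl f T c := AbDualBase.pz_xtMap (B := Over.mk f) h hc₁
  have hφc : φ₀ T c = g₀ := by
    rw [hP₀.natural _ _ _ _ hc₁, hφc₁, ← Category.assoc, hh, Category.id_comp]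
  have hci : PicF.IsInvertibleCl c := AbDualBase.pz_invertible (A := Over.mk f) hc
  have h0 : Deg0 f b c := by
    intro M hM
    obtain ⟨L, hL, hLi⟩ := hci
    obtain ⟨e⟩ := PicMul.cl_eq_iff.1 (hM.trans hL.symm)
    rw [← deg_point f b hdim hd z (PicMul.isInvertible_of_iso e.symm hLi), hM]
    exact (JacDeg.isPicZeroCl_iff f hdim (φ := φ) hd T ⟨L, hL, hLi⟩).1 hc z
  have hn' : letI := overX f b
      1 - Curv2.euler Ω (PicF.XT f (Over.mk b)) (Coh.structureModule _) ≤ (n : ℤ) := by
    rw [euler_eq f hdim b z, show b z = P₀.hom p from congrArg P₀.hom hz]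
    exact hn
  obtain ⟨g, hg⟩ := exists_point f b n (diffs_of_deg0 f b hdim n hci h0 hn')
  refine ⟨g.left z, ?_⟩
  have key : g ≫ ψ f (φ₀ := φ₀) n = g₀ := by
    rw [← hP₀.natural _ _ _ _ (pz_cls f hdim hP n), hg, hφc]
  rw [← hz]
  show (g ≫ ψ f (φ₀ := φ₀) n).left z = g₀.left z
  rw [key]

variable (j : P₀ ⟶ P) [IsClosedImmersion j.left] [Smooth P₀.hom]

include hdim hP hP₀ j in
theorem isProper : IsProper P₀.hom := by
  haveI : Smooth f := SmoothOfRelativeDimension.smooth 1 f
  haveI := JacDeg.geometricallyIntegral f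
  haveI : IsSeparated P.hom := SeesawX.PicSep.isSeparated f hP
  haveI : IsSeparated P₀.hom := by rw [← Over.w j]; infer_instance
  let U : ℕ → S.Opens := fun n => ⟨χ₀ f ⁻¹' {x | 1 - x ≤ (n : ℤ)}, isLocallyConstant_χ₀ f _⟩
  haveI : UniversallyClosed P₀.hom := by
    refine IsZariskiLocalAtTarget.of_iSup_eq_top (P := @UniversallyClosed) U
      (top_le_iff.1 fun s _ => Opens.mem_iSup.2 ⟨(1 - χ₀ f s).toNat, Int.self_le_toNat _⟩) fun n => ?_
    let a := (ψ f (φ₀ := φ₀) n).left
    haveI := (props f n).1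
    haveI : Surjective (a ∣_ (P₀.hom ⁻¹ᵁ U n)) := ⟨fun p => by
      obtain ⟨w, hw⟩ := hit f hdim hP hP₀ n p.1 p.2
      exact ⟨⟨w, show a w ∈ P₀.hom ⁻¹ᵁ U n from hw.symm ▸ p.2⟩,
        Subtype.ext ((morphismRestrict_base_coe a _ _).trans hw)⟩⟩
    haveI : UniversallyClosed (a ≫ P₀.hom) := by
      rw [show a ≫ P₀.hom = (W f n).hom from Over.w (ψ f (φ₀ := φ₀) n)]
      infer_instance
    haveI : UniversallyClosed ((a ∣_ (P₀.hom ⁻¹ᵁ U n)) ≫ (P₀.hom ∣_ U n)) := by
      rw [← morphismRestrict_comp]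
      exact IsZariskiLocalAtTarget.restrict ‹UniversallyClosed (a ≫ P₀.hom)› (U n)
    exact UniversallyClosed.of_comp_surjective (a ∣_ (P₀.hom ⁻¹ᵁ U n)) _
  exact {}

include hdim hP hP₀ in
theorem geometricallyConnected : GeometricallyConnected P₀.hom := by
  refine ⟨fun K _ y Y fst snd h => ?_⟩
  haveI : Subsingleton ↥(Spec (CommRingCat.of K)) := inferInstanceAs (Subsingleton (PrimeSpectrum K))
  let k₀ : ↥(Spec (CommRingCat.of K)) := (IsLocalRing.closedPoint K : PrimeSpectrum K)
  let n := (1 - χ₀ f (y k₀)).toNat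
  let a := (ψ f (φ₀ := φ₀) n).left
  have sq : IsPullback (pullback.snd fst a) (pullback.fst fst a ≫ snd) (W f n).hom y := by
    have := (IsPullback.of_hasPullback fst a).flip.paste_vert h
    rwa [show a ≫ P₀.hom = (W f n).hom from Over.w (ψ f (φ₀ := φ₀) n)] at this
  haveI := (props f n).2.2
  haveI : ConnectedSpace ↥(pullback fst a) :=
    GeometricallyConnected.geometrically_connectedSpace (f := (W f n).hom) _ _ _ sq
  refine Function.Surjective.connectedSpace (f := pullback.fst fst a) (fun p => ?_) (Scheme.Hom.continuous _)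
  have hp : P₀.hom (fst p) = y k₀ := by
    rw [← Scheme.Hom.comp_apply, h.w, Scheme.Hom.comp_apply]
    exact congrArg y (Subsingleton.elim _ _)
  obtain ⟨w, hw⟩ := hit f hdim hP hP₀ n (fst p) (by rw [hp]; exact Int.self_le_toNat _)
  obtain ⟨r, hr, -⟩ := Scheme.Pullback.exists_preimage_pullback p w hw.symm
  exact ⟨r, hr⟩

end Groth.Agent.PicTangent.JacProper
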