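import Mathlib.RingTheory.Unramified.Basic
import Mathlib.RingTheory.Kaehler.Basic
import Mathlib.Algebra.DualNumber
import Mathlib.RingTheory.Finiteness.Nakayama
import Mathlib.FieldTheory.IsAlgClosed.AlgebraicClosure
import Mathlib.LinearAlgebra.Dual.Lemmas
import Mathlib.Dynamics.Newton
import Mathlib.RingTheory.Artinian.Module
import Mathlib.RingTheory.Unramified.Basic

/-!
# Unramifiedness tested on dual numbers, and roots in finite algebras over algebraically closed fields
-/

set_option autoImplicit false
set_option linter.style.haveILetI false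
set_option backward.isDefEq.respectTransparency false
set_option backward.isDefEq.respectTransparency.types false

universe u

noncomputable section

namespace Groth.Agent.PicTangent.DualTest

open KaehlerDifferential

/-- An algebra of finite type is formally unramified if tangent vectors at geometric points are determined by
their images. -/
theorem formallyUnramified_of_dual {R S : Type u} [CommRing R] [CommRing S] [Algebra R S] [Algebra.FiniteType R S]
    (H : ∀ (K : Type u) [Field K] [IsAlgClosed K] (g₁ g₂ : S →+* DualNumber K),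
      g₁.comp (algebraMap R S) = g₂.comp (algebraMap R S) →
      (∀ s, TrivSqZeroExt.fst (g₁ s) = TrivSqZeroExt.fst (g₂ s)) → g₁ = g₂) :
    Algebra.FormallyUnramified R S := by
  refine ⟨?_⟩
  by_contra hne
  haveI : Module.Finite S (Ω[S⁄R]) := inferInstance
  obtain ⟨M, hM, hMtop⟩ : ∃ M : Ideal S, M.IsMaximal ∧ M • (⊤ : Submodule S (Ω[S⁄R])) ≠ ⊤ := by
    by_contra hall
    push Not at hall
    let A := Module.annihilator S (Ω[S⁄R])
    have hA : A ≠ ⊤ := fun h => hne (Module.annihilator_eq_top_iff.1 h)
    obtain ⟨M, hM, hAM⟩ := Ideal.exists_le_maximal A hA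
    obtain ⟨r, hr, hr'⟩ := Submodule.exists_sub_one_mem_and_smul_eq_zero_of_fg_of_le_smul M
      (⊤ : Submodule S (Ω[S⁄R])) Module.Finite.fg_top (hall M hM).ge
    have hrA : r ∈ M := hAM (Module.mem_annihilator.2 fun m => hr' m trivial)
    refine hM.ne_top ((Ideal.eq_top_iff_one M).2 ?_)
    simpa using M.sub_mem hrA hr
  letI : Field (S ⧸ M) := Ideal.Quotient.field M
  let Q := Ω[S⁄R] ⧸ M • (⊤ : Submodule S (Ω[S⁄R]))
  haveI : Nontrivial Q := Submodule.Quotient.nontrivial_iff.2 hMtop
  obtain ⟨q, hq⟩ := exists_ne (0 : Q)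
  obtain ⟨μ, hμ⟩ : ∃ μ : Module.Dual (S ⧸ M) Q, μ q ≠ 0 := by
    by_contra hall
    push Not at hall
    exact hq ((Module.forall_dual_apply_eq_zero_iff (S ⧸ M) q).1 hall)
  let K := AlgebraicClosure (S ⧸ M)
  let ev : S →+* K := (algebraMap (S ⧸ M) K).comp (Ideal.Quotient.mk M)
  let D : S → K := fun s => algebraMap (S ⧸ M) K (μ (Submodule.Quotient.mk (KaehlerDifferential.D R S s)))
  have hadd : ∀ a b, D (a + b) = D a + D b := fun a b => by
    simp only [D, map_add, Submodule.Quotient.mk_add]
  have hone : D 1 = 0 := by simp [D]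
  have hmul : ∀ a b, D (a * b) = ev a * D b + ev b * D a := fun a b => by
    simp only [D, Derivation.leibniz, Submodule.Quotient.mk_add, Submodule.Quotient.mk_smul, map_add]
    rw [show (a • Submodule.Quotient.mk (KaehlerDifferential.D R S b) : Q) =
        (Ideal.Quotient.mk M a) • Submodule.Quotient.mk (KaehlerDifferential.D R S b) from rfl,
      show (b • Submodule.Quotient.mk (KaehlerDifferential.D R S a) : Q) =
        (Ideal.Quotient.mk M b) • Submodule.Quotient.mk (KaehlerDifferential.D R S a) from rfl,
      LinearMap.map_smul, LinearMap.map_smul, smul_eq_mul, smul_eq_mul, RingHom.map_mul, RingHom.map_mul]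
    rfl
  let g₂ : S →+* DualNumber K :=
    { toFun := fun s => TrivSqZeroExt.inl (ev s) + TrivSqZeroExt.inr (D s)
      map_one' := by simp [hone]
      map_zero' := by simp [D]
      map_add' := fun a b => by
        simp only [map_add, hadd]
        refine TrivSqZeroExt.ext ?_ ?_
        · show ev a + ev b + 0 = ev a + 0 + (ev b + 0)
          ring
        · show 0 + (D a + D b) = 0 + D a + (0 + D b)
          ring
      map_mul' := fun a b => by
        refine TrivSqZeroExt.ext (by simp) ?_
        simp [hmul, mul_comm] }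
  let g₁ : S →+* DualNumber K := (TrivSqZeroExt.inlHom K K).comp ev
  have hg : g₁ = g₂ := H K g₁ g₂ (RingHom.ext fun r => by
    refine TrivSqZeroExt.ext (by simp [g₁, g₂]) ?_
    simp [g₁, g₂, D, Derivation.map_algebraMap]) (fun s => by simp [g₁, g₂])
  have hD : ∀ s, μ (Submodule.Quotient.mk (KaehlerDifferential.D R S s)) = 0 := fun s => by
    have h := congrArg TrivSqZeroExt.snd congr($hg s)
    simp [g₁, g₂, D] at h
    exact (algebraMap (S ⧸ M) K).injective (h.symm.trans (map_zero _).symm)
  refine hμ ?_
  obtain ⟨w, rfl⟩ := Submodule.Quotient.mk_surjective _ q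
  clear hq hμ
  have hw : w ∈ Submodule.span S (Set.range (KaehlerDifferential.D R S)) := by
    rw [KaehlerDifferential.span_range_derivation]
    trivial
  induction hw using Submodule.span_induction with
  | mem x hx =>
    obtain ⟨s, rfl⟩ := hx
    exact hD s
  | zero => simp
  | add x y _ _ hx hy => rw [Submodule.Quotient.mk_add, map_add, hx, hy, add_zero]
  | smul a x _ hx =>
    rw [Submodule.Quotient.mk_smul, show (a • Submodule.Quotient.mk x : Q) =
      (Ideal.Quotient.mk M a) • Submodule.Quotient.mk x from rfl, map_smul, hx, smul_zero]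

/-- Units of a finite algebra over an algebraically closed field have roots of invertible order. -/
theorem exists_root_unit {K A : Type u} [Field K] [IsAlgClosed K] [CommRing A] [Algebra K A] [Module.Finite K A]
    {n : ℕ} (hn : (n : K) ≠ 0) (v : A) (hv : IsUnit v) : ∃ w : A, w ^ n = v := by
  haveI : IsArtinianRing A := IsArtinianRing.of_finite K A
  have hn0 : 0 < n := Nat.pos_of_ne_zero fun h => hn (by simp [h])
  have hbij : ∀ I : MaximalSpectrum A, Function.Bijective (algebraMap K (A ⧸ I.asIdeal)) := fun I => by
    haveI := I.isMaximal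
    exact IsAlgClosed.algebraMap_bijective_of_isIntegral (k := K) (K := A ⧸ I.asIdeal)
  have hroot : ∀ I : MaximalSpectrum A, ∃ z : A ⧸ I.asIdeal, z ^ n = Ideal.Quotient.mk _ v := fun I => by
    obtain ⟨c, hc⟩ := (hbij I).2 (Ideal.Quotient.mk _ v)
    obtain ⟨d, hd⟩ := IsAlgClosed.exists_pow_nat_eq c hn0
    exact ⟨algebraMap K _ d, by rw [← map_pow, hd, hc]⟩
  choose z hz using hroot
  let e := IsArtinianRing.quotNilradicalEquivPi A
  obtain ⟨w₀, hw₀⟩ := Ideal.Quotient.mk_surjective (e.symm z)
  have hnil : IsNilpotent (w₀ ^ n - v) := by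
    rw [← mem_nilradical, ← Ideal.Quotient.eq, map_pow, hw₀]
    refine e.injective ?_
    rw [map_pow, AlgEquiv.apply_symm_apply]
    funext I
    exact hz I
  have hw : IsUnit w₀ := by
    have h : IsUnit (w₀ ^ n) := by
      have e1 : w₀ ^ n = v + (w₀ ^ n - v) := by ring
      rw [e1]
      exact hnil.isUnit_add_left_of_commute hv (Commute.all _ _)
    exact (isUnit_pow_iff hn0.ne').1 h
  let P : Polynomial A := Polynomial.X ^ n - Polynomial.C v
  have h1 : IsNilpotent (Polynomial.aeval w₀ P) := by simpa [P] using hnil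
  have h2 : IsUnit (Polynomial.aeval w₀ (Polynomial.derivative P)) := by
    have hnA : IsUnit (n : A) := by
      have := (Ne.isUnit hn).map (algebraMap K A)
      rwa [map_natCast] at this
    simpa [P, Polynomial.derivative_X_pow] using hnA.mul (hw.pow (n - 1))
  obtain ⟨r, ⟨-, hr⟩, -⟩ := Polynomial.existsUnique_nilpotent_sub_and_aeval_eq_zero h1 h2
  exact ⟨r, by simpa [P, sub_eq_zero] using hr⟩

end Groth.Agent.PicTangent.DualTest
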