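import Groth.Agent.PicTangent.AbelSec
import Groth.Agent.PicTangent.DualTest
import Mathlib.AlgebraicGeometry.ZariskisMainTheorem
import Mathlib.RingTheory.DualNumber
import Mathlib.RingTheory.HopkinsLevitzki

/-!
# The Abel map of a relative curve of positive genus is a closed immersion
-/

set_option autoImplicit false
set_option linter.style.haveILetI false
set_option linter.unusedSectionVars false
set_option backward.isDefEq.respectTransparency false
set_option backward.isDefEq.respectTransparency.types false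
set_option maxHeartbeats 1000000

universe u

open CategoryTheory CategoryTheory.Limits AlgebraicGeometry TopologicalSpace

noncomputable section

namespace Groth.Agent.PicTangent.AbelEmb

open Groth.Agent Groth.Agent.H23 Groth.Agent.H23.PicMul Groth.Agent.H26 Groth.Agent.PicTangent.JacDiff
open scoped Groth.Agent.H23.PicMul

attribute [local instance] PicMul.clMonoid

variable {C S : Scheme.{u}} (f : C ⟶ S) [IsProper f] [SmoothOfRelativeDimension 1 f]

/-- Inverse modules of the ideal of the diagonal give the classes of the inverse of the ideal of the sections. -/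
theorem cl_eq_ptInv {LΔ : (PicF.XT f (Over.mk f)).Modules}
    (hΔ : ClSub.IsInverseOf LΔ (ClSub.idealMod (pullback.diagonal f).ker)) :
    PicF.cl LΔ = ptInv f (Over.mk f) (𝟙 (Over.mk f)) := by
  refine left_inv_eq_right_inv (a := pt f (Over.mk f) (𝟙 (Over.mk f))) ?_ (pt_mul_ptInv f _ _)
  rw [show pt f (Over.mk f) (𝟙 (Over.mk f)) = PicF.cl (ClSub.idealMod (pullback.diagonal f).ker) from rfl,
    ← PicMul.cl_tensor, PicMul.one_def]
  exact PicMul.cl_eq_iff.2 hΔ

/-- Equal inverse classes come from equal classes. -/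
theorem pt_eq_of_ptInv_eq {T : Over S} {a a' : T ⟶ Over.mk f} (h : ptInv f T a = ptInv f T a') :
    pt f T a = pt f T a' := by
  refine left_inv_eq_right_inv (a := ptInv f T a) (pt_mul_ptInv f T a) ?_
  rw [h, mul_comm]
  exact pt_mul_ptInv f T a'

variable [GeometricallyConnected f]
  (hdim : ∀ s : S, topologicalKrullDim ↥(f.fiber s) = 1)
  (hg : ∀ s : S, 1 ≤ CohIII.fiberRank f (Coh.structureModule C) 1 s)

include hdim hg in
/-- Sections over an Artinian local ring with locally equal classes coincide. -/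
theorem eq_of_local {A : Type u} [CommRing A] [IsArtinianRing A] [IsLocalRing A]
    (v : Spec (CommRingCat.of A) ⟶ S) (a a' : Over.mk v ⟶ Over.mk f)
    {R : Presieve (Over.mk v).left} (hR : R ∈ Scheme.fppfPrecoverage (Over.mk v).left)
    (hR' : ∀ ⦃U : Scheme.{u}⦄ (w : U ⟶ (Over.mk v).left), R w →
      PicF.pullCl (PicF.XTmap f (AbDual.ovrHom (Over.mk v) w)) (ptInv f (Over.mk v) a) =
        PicF.pullCl (PicF.XTmap f (AbDual.ovrHom (Over.mk v) w)) (ptInv f (Over.mk v) a')) : a = a' := by
  let T : Over S := Over.mk v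
  obtain ⟨U, w, hfl, hlp, hcv, hw⟩ := RigPoints.exists_family hR
  obtain ⟨i, x, -⟩ := hcv ((IsLocalRing.closedPoint A : PrimeSpectrum A) : T.left)
  haveI : IsLocallyNoetherian T.left := inferInstanceAs (IsLocallyNoetherian (Spec (CommRingCat.of A)))
  haveI := hlp i
  haveI := hfl i
  haveI : IsLocallyNoetherian (U i) := LocallyOfFiniteType.isLocallyNoetherian (w i)
  obtain ⟨W, hW, hxW, -⟩ := exists_isAffineOpen_mem_and_subset (U := (⊤ : (U i).Opens)) (x := x) trivial
  let B := Γ(U i, W)
  haveI : IsNoetherianRing B := IsLocallyNoetherian.component_noetherian ⟨W, hW⟩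
  haveI : Nonempty W := ⟨⟨x, hxW⟩⟩
  haveI : Nontrivial B := inferInstance
  obtain ⟨⟨P', hP'⟩⟩ := Ideal.nonempty_minimalPrimes (I := (⊥ : Ideal B)) bot_ne_top
  haveI : P'.IsPrime := hP'.1.1
  let B' := Localization.AtPrime P'
  haveI : Ring.KrullDimLE 0 B' := .of_isLocalization _ hP' _
  haveI : IsNoetherianRing B' := IsLocalization.isNoetherianRing P'.primeCompl B' inferInstance
  haveI : IsArtinianRing B' := isArtinianRing_iff_isNoetherianRing_krullDimLE_zero.2 ⟨inferInstance, inferInstance⟩
  let q : Spec (CommRingCat.of B') ⟶ U i :=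
    Spec.map (CommRingCat.ofHom (algebraMap B B')) ≫ hW.fromSpec
  let p : Spec (CommRingCat.of B') ⟶ T.left := q ≫ w i
  haveI : Flat (Spec.map (CommRingCat.ofHom (algebraMap B B'))) := by
    rw [Flat.SpecMap_iff]
    exact RingHom.flat_algebraMap_iff.2 (IsLocalization.flat B' P'.primeCompl)
  haveI : Flat p := inferInstanceAs (Flat (q ≫ w i))
  haveI : Surjective p := ⟨fun z => by
    haveI : Nonempty ↥(Spec (CommRingCat.of B')) := inferInstanceAs (Nonempty (PrimeSpectrum B'))
    haveI : Subsingleton ↥T.left := inferInstanceAs (Subsingleton (PrimeSpectrum A))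
    exact ⟨Classical.arbitrary _, Subsingleton.elim _ _⟩⟩
  let v' := p ≫ v
  let G : Over.mk v' ⟶ T := Over.homMk p rfl
  let H : Over.mk v' ⟶ AbDual.ovr T (w i) := Over.homMk q (by
    show q ≫ w i ≫ v = (q ≫ w i) ≫ v
    simp only [q, Category.assoc])
  have hG : H ≫ AbDual.ovrHom T (w i) = G := Over.OverMorphism.ext rfl
  have e := congrArg (PicF.pullCl (PicF.XTmap f H)) (hR' _ (hw i))
  rw [JacProper.pull_pull f, JacProper.pull_pull f, hG, pull_ptInv, pull_ptInv] at e
  have h2 := congrArg CommaMorphism.left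
    (AbelSec.eq_of_pt_eq f hdim hg v' (G ≫ a) (G ≫ a') (pt_eq_of_ptInv_eq f e))
  haveI : Epi p := Flat.epi_of_flat_of_surjective p
  exact Over.OverMorphism.ext ((cancel_epi p).1 h2)

/-- Proper morphisms injective on points with values in Artinian local rings are closed immersions. -/
theorem isClosedImmersion_of_points {X Y : Scheme.{u}} (h : X ⟶ Y) [IsProper h]
    (pts : ∀ {A : Type u} [CommRing A] [IsArtinianRing A] [IsLocalRing A]
      (γ γ' : Spec (CommRingCat.of A) ⟶ X), γ ≫ h = γ' ≫ h → γ = γ') : IsClosedImmersion h := by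
  haveI : Surjective (pullback.diagonal h) := ⟨fun z => by
    obtain ⟨Ω, hΩ, hΩ', σ, hσ⟩ := JacProper.exists_geomPoint z
    have e := pts (σ ≫ pullback.fst h h) (σ ≫ pullback.snd h h) (by
      rw [Category.assoc, Category.assoc, pullback.condition])
    have hd : (σ ≫ pullback.fst h h) ≫ pullback.diagonal h = σ := by
      refine pullback.hom_ext ?_ ?_
      · rw [Category.assoc, pullback.diagonal_fst, Category.comp_id]
      · rw [Category.assoc, pullback.diagonal_snd, Category.comp_id, e]
    refine ⟨(σ ≫ pullback.fst h h) ((IsLocalRing.closedPoint Ω : PrimeSpectrum Ω)), ?_⟩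
    rw [← Scheme.Hom.comp_apply, hd]
    exact hσ⟩
  haveI : FormallyUnramified h := by
    refine ⟨fun {U} hU {V} hV e => ?_⟩
    have hft : (h.appLE U V e).hom.FiniteType :=
      HasRingHomProperty.appLE @LocallyOfFiniteType h inferInstance ⟨U, hU⟩ ⟨V, hV⟩ e
    letI : Algebra Γ(Y, U) Γ(X, V) := (h.appLE U V e).hom.toAlgebra
    haveI : Algebra.FiniteType Γ(Y, U) Γ(X, V) := hft
    refine PicTangent.DualTest.formallyUnramified_of_dual fun K _ _ g₁ g₂ hg' _ => ?_
    haveI : Module.Finite K (DualNumber K) := inferInstanceAs (Module.Finite K (K × K))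
    haveI : IsArtinianRing (DualNumber K) := IsArtinianRing.of_finite K _
    let c : (Γ(X, V) →+* DualNumber K) → (Spec (CommRingCat.of (DualNumber K)) ⟶ X) :=
      fun g => Spec.map (CommRingCat.ofHom g) ≫ hV.fromSpec
    have hcm : ∀ g : Γ(X, V) →+* DualNumber K, c g ≫ h =
        Spec.map (CommRingCat.ofHom (g.comp (algebraMap Γ(Y, U) Γ(X, V)))) ≫ hU.fromSpec := by
      intro g
      show (_ ≫ _) ≫ _ = _
      rw [CommRingCat.ofHom_comp, Spec.map_comp, Category.assoc, Category.assoc]
      congr 1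
      exact (IsAffineOpen.SpecMap_appLE_fromSpec h hU hV e).symm
    have e2 := (cancel_mono hV.fromSpec).1 (pts (c g₁) (c g₂) (by rw [hcm, hcm, hg']))
    exact congrArg CommRingCat.Hom.hom (Spec.map_injective e2)
  haveI : Epi (pullback.diagonal h).base := (TopCat.epi_iff_surjective _).2 (Scheme.Hom.surjective _)
  haveI : IsIso (pullback.diagonal h) := IsOpenImmersion.isIso _
  haveI : Mono h := pullback.isIso_diagonal_iff h |>.1 inferInstance
  exact (IsClosedImmersion.iff_isProper_and_mono h).2 ⟨inferInstance, inferInstance⟩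

variable {P : Over S} {φ : ∀ T : Over S, PicF.Cl (PicF.XT f T) → (T ⟶ P)}
  (hP : AbDual.IsRelPicK Scheme.fppfPrecoverage f P φ)

include hdim hg hP in
/-- The Abel map is a closed immersion. -/
theorem isClosedImmersion [IsSeparated P.hom] {LΔ : (PicF.XT f (Over.mk f)).Modules}
    (hLΔ : PicF.IsInvertible LΔ) (hΔ : ClSub.IsInverseOf LΔ (ClSub.idealMod (pullback.diagonal f).ker)) :
    IsClosedImmersion (φ (Over.mk f) (PicF.cl LΔ)).left := by
  let α := φ (Over.mk f) (PicF.cl LΔ)
  let h : C ⟶ P.left := α.left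
  have hhf : h ≫ P.hom = f := Over.w α
  haveI : IsProper (h ≫ P.hom) := by rw [hhf]; infer_instance
  haveI : IsProper h := IsProper.of_comp h P.hom
  have key : ∀ (T : Over S) (u : T ⟶ Over.mk f), u ≫ α = φ T (ptInv f T u) := fun T u => by
    show u ≫ φ (Over.mk f) (PicF.cl LΔ) = _
    rw [← hP.natural _ _ _ _ ⟨_, rfl, hLΔ⟩, cl_eq_ptInv f hΔ, pull_ptInv, Category.comp_id]
  have pts : ∀ {A : Type u} [CommRing A] [IsArtinianRing A] [IsLocalRing A]
      (γ γ' : Spec (CommRingCat.of A) ⟶ C), γ ≫ h = γ' ≫ h → γ = γ' := by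
    intro A _ _ _ γ γ' e
    let v := γ ≫ f
    have hv : γ' ≫ f = v := by
      show γ' ≫ f = γ ≫ f
      rw [← hhf, reassoc_of% e]
    have h1 : (Over.homMk γ rfl : Over.mk v ⟶ Over.mk f) ≫ α = Over.homMk γ' hv ≫ α := Over.OverMorphism.ext e
    rw [key, key] at h1
    obtain ⟨R, hR, hR'⟩ := hP.locallyInjective (Over.mk v) _ _ (ptInv_invertible f _ _) (ptInv_invertible f _ _) h1
    exact congrArg CommaMorphism.left (eq_of_local f hdim hg v _ _ hR hR')
  exact isClosedImmersion_of_points h pts

end Groth.Agent.PicTangent.AbelEmb
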