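import Groth.Agent.PicTangent.Classifier
import Groth.Agent.QCoh.FlatBC
import Groth.Agent.CurveCohLib.Rank
import Groth.Agent.InvUfdLib.Trivial
import Groth.Agent.GrpSchLib.SepPoints
import Groth.Agent.GrpSchLib.SmoothRegular
import Groth.Agent.SmoothDim.Basic
import Groth.Agent.VarDim.Top
import Groth.Agent.Synt29.SmoothDim
import Groth.Prelude.Def_FGA

/-!
# The tangent spaces of a Jacobian at its rational points, and its dimension
-/

set_option autoImplicit false
set_option linter.style.haveILetI false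
set_option linter.unusedSectionVars false
set_option backward.isDefEq.respectTransparency false
set_option backward.isDefEq.respectTransparency.types false
set_option maxHeartbeats 1000000

universe u

open CategoryTheory CategoryTheory.Limits AlgebraicGeometry MonoidalCategory CartesianMonoidalCategory
  TopologicalSpace TensorProduct Opposite

noncomputable section

namespace Groth.Agent.PicTangent.JacPoint

open Groth.Agent Groth.Agent.H23
open scoped Groth.Agent.H23.PicMul

/-- Invertible classes on the spectrum of a local ring are trivial. -/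
theorem eq_structure_of_isLocalRing {R : Type u} [CommRing R] [IsLocalRing R] {c : PicF.Cl (Spec (CommRingCat.of R))}
    (hc : PicF.IsInvertibleCl c) : c = PicF.cl (Coh.structureModule _) := by
  obtain ⟨L, rfl, hL⟩ := hc
  obtain ⟨U, hx, e, he⟩ := InvX.exists_frame hL (IsLocalRing.closedPoint R)
  have hU : U = ⊤ := (IsLocalRing.closedPoint_mem_iff U).1 hx
  subst hU
  exact PicMul.cl_eq_iff.2 (InvUfdLib.nonempty_iso_of_frame he)

theorem isQCoh_of_isInvertible {X : Scheme.{u}} {L : X.Modules} (hL : PicF.IsInvertible L) : Coh.IsQCoh L :=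
  QCoh.isQCoh_of_isFinLocFree (H23.PullPush.isFinLocFree_of_isInvertible hL)

/-- Truncated Euler characteristics do not change under extensions of the field. -/
theorem eulerCharLE_bc {k : Type u} [Field k] {E : Type u} [Field E] [Algebra k E] {X X' : Scheme.{u}}
    [X.Over (Spec (CommRingCat.of k))] [IsProper (X ↘ Spec (CommRingCat.of k))]
    [X'.Over (Spec (CommRingCat.of E))] [IsProper (X' ↘ Spec (CommRingCat.of E))] (g : X' ⟶ X)
    (sq : IsPullback g (X' ↘ Spec (CommRingCat.of E)) (X ↘ Spec (CommRingCat.of k))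
      (Spec.map (CommRingCat.ofHom (algebraMap k E))))
    {F : X.Modules} (hF : Coh.IsQCoh F) {F' : X'.Modules}
    (e' : (Scheme.Modules.pullback g).obj F ≅ F') (d : ℕ) :
    FGA.eulerCharLE E X' F' d = FGA.eulerCharLE k X F d := by
  haveI := CurveCohLib.isNoetherian_of_proper (k := k) (X := X)
  haveI : X.IsSeparated := ⟨by
    rw [← Limits.terminal.comp_from (X ↘ Spec (CommRingCat.of k))]
    infer_instance⟩
  unfold FGA.eulerCharLE
  refine Finset.sum_congr rfl fun i _ => ?_
  obtain ⟨e⟩ := QCoh.HH_flatBaseChange (A := k) (B := E) sq hF i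
  congr 2
  rw [← (CurveCohLib.hhEquiv (k := E) e' i).finrank_eq]
  exact e.finrank_eq.symm.trans Module.finrank_baseChange

variable {k : Type u} [Field k] {C : Scheme.{u}} (f : C ⟶ Spec (CommRingCat.of k))

/-- The structure of the base change to the point. -/
abbrev overT : (PicF.XT f (T (k := k) k)).Over (Spec (CommRingCat.of k)) := ⟨pullback.snd f (T (k := k) k).hom⟩

/-- A class on the curve itself has degree zero. -/
def Deg0 (c : PicF.Cl (PicF.XT f (T (k := k) k))) : Prop :=
  letI := overT f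
  ∀ M : (PicF.XT f (T (k := k) k)).Modules, PicF.cl M = c →
    FGA.eulerCharLE k (PicF.XT f (T (k := k) k)) M 1 =
      FGA.eulerCharLE k (PicF.XT f (T (k := k) k)) (Coh.structureModule _) 1

variable [IsProper f]

/-- Degrees on a fibre over a point defined over the base field. -/
theorem deg_transfer (T' : Over (Spec (CommRingCat.of k))) (t : T'.left) (a : T (k := k) k ⟶ T')
    (hfac : (T'.left.fromSpecResidueField t ≫ T'.hom) ≫ a.left = T'.left.fromSpecResidueField t)
    (L : (PicF.XT f T').Modules) (hL : PicF.IsInvertible L) :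
    (FGA.eulerCharLE (T'.left.residueField t) (FGA.fibreAt f T' t).left (FGA.restrFibre f T' t L) 1 =
      FGA.eulerCharLE (T'.left.residueField t) (FGA.fibreAt f T' t).left (Coh.structureModule _) 1) ↔
      Deg0 f (PicF.pullCl (PicF.XTmap f a) (PicF.cl L)) := by
  letI := overT f
  let E := T'.left.residueField t
  let s : Spec E ⟶ Spec (CommRingCat.of k) := T'.left.fromSpecResidueField t ≫ T'.hom
  letI : Algebra k E := (Spec.preimage s).hom.toAlgebra
  have hs : Spec.map (CommRingCat.ofHom (algebraMap k E)) = s := Spec.map_preimage s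
  letI : (FGA.fibreAt f T' t).left.Over (Spec (CommRingCat.of E)) := ⟨(FGA.fibreAt f T' t).hom⟩
  haveI : IsProper ((PicF.XT f (T (k := k) k)) ↘ Spec (CommRingCat.of k)) :=
    inferInstanceAs (IsProper (pullback.snd f (T (k := k) k).hom))
  haveI : IsProper ((FGA.fibreAt f T' t).left ↘ Spec (CommRingCat.of E)) :=
    inferInstanceAs (IsProper (pullback.snd (pullback.snd f T'.hom) (T'.left.fromSpecResidueField t)))
  have hk : (T (k := k) k).hom = 𝟙 _ := by
    show Spec.map (CommRingCat.ofHom (algebraMap k k)) = _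
    rw [Algebra.algebraMap_self, CommRingCat.ofHom_id, Spec.map_id]
    rfl
  let p₁ := pullback.fst (PicF.XTproj f T') (T'.left.fromSpecResidueField t)
  let p₂ := pullback.snd (PicF.XTproj f T') (T'.left.fromSpecResidueField t)
  have outer : IsPullback (p₁ ≫ pullback.fst f T'.hom) p₂ f s :=
    (IsPullback.of_hasPullback (PicF.XTproj f T') (T'.left.fromSpecResidueField t)).paste_horiz
      (IsPullback.of_hasPullback f T'.hom)
  have hw : (p₁ ≫ pullback.fst f T'.hom) ≫ f = (p₂ ≫ s) ≫ (T (k := k) k).hom := by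
    rw [hk]
    exact outer.w.trans (Category.comp_id _).symm
  let g : (FGA.fibreAt f T' t).left ⟶ PicF.XT f (T (k := k) k) :=
    pullback.lift (p₁ ≫ pullback.fst f T'.hom) (p₂ ≫ s) hw
  have hg1 : g ≫ pullback.fst f (T (k := k) k).hom = p₁ ≫ pullback.fst f T'.hom := pullback.lift_fst _ _ _
  have hg2 : g ≫ pullback.snd f (T (k := k) k).hom = p₂ ≫ s := pullback.lift_snd _ _ _
  have sq : IsPullback g ((FGA.fibreAt f T' t).left ↘ Spec (CommRingCat.of E))
      (PicF.XT f (T (k := k) k) ↘ Spec (CommRingCat.of k)) (Spec.map (CommRingCat.ofHom (algebraMap k E))) := by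
    rw [hs]
    refine IsPullback.of_right ?_ hg2 (IsPullback.of_hasPullback f (T (k := k) k).hom)
    rw [hg1, hk]
    exact (Category.comp_id s).symm ▸ outer
  have hga : g ≫ PicF.XTmap f a = p₁ := by
    apply pullback.hom_ext
    · rw [Category.assoc, PicF.XTmap, pullback.lift_fst, Category.comp_id, hg1]
    · rw [Category.assoc, PicF.XTmap, pullback.lift_snd, ← Category.assoc, hg2, Category.assoc, hfac]
      exact pullback.condition.symm
  obtain ⟨eO⟩ := PicClLib.nonempty_pullback_structureModule g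
  have hO := eulerCharLE_bc g sq (isQCoh_of_isInvertible (PicLoc.isInvertible_structureModule _)) eO 1
  have hM : ∀ M : (PicF.XT f (T (k := k) k)).Modules, PicF.cl M = PicF.pullCl (PicF.XTmap f a) (PicF.cl L) →
      FGA.eulerCharLE E (FGA.fibreAt f T' t).left (FGA.restrFibre f T' t L) 1 =
        FGA.eulerCharLE k (PicF.XT f (T (k := k) k)) M 1 := by
    intro M hM
    have h1 : PicF.pullCl g (PicF.cl M) = PicF.cl (FGA.restrFibre f T' t L) := by
      rw [hM, PicClLib.pullCl_comp, hga]
      rfl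
    obtain ⟨eM⟩ := PicMul.cl_eq_iff.1 h1
    have hMi : PicF.IsInvertible M := by
      obtain ⟨M', hM', hi⟩ := PicLoc.isInvertibleCl_pullCl (PicF.XTmap f a) (⟨L, rfl, hL⟩ : PicF.IsInvertibleCl (PicF.cl L))
      obtain ⟨e⟩ := PicMul.cl_eq_iff.1 (hM'.trans hM.symm)
      exact PicMul.isInvertible_of_iso e hi
    exact eulerCharLE_bc g sq (isQCoh_of_isInvertible hMi) eM 1
  constructor
  · intro h M hMc
    rw [← hM M hMc, ← hO]
    exact h
  · intro h
    rw [hO, hM _ rfl]
    exact h _ rfl

/-- A point over the field is its own residue field. -/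
theorem fac_point {T' : Over (Spec (CommRingCat.of k))} (q : T (k := k) k ⟶ T') :
    (T'.left.fromSpecResidueField (q.left (IsLocalRing.closedPoint k)) ≫ T'.hom) ≫ q.left =
      T'.left.fromSpecResidueField (q.left (IsLocalRing.closedPoint k)) := by
  let t := q.left (IsLocalRing.closedPoint k)
  obtain ⟨φ, hφ⟩ : ∃ φ : T'.left.residueField t ⟶ CommRingCat.of k,
      Spec.map φ ≫ T'.left.fromSpecResidueField t = q.left :=
    ⟨_, Scheme.descResidueField_stalkClosedPointTo_fromSpecResidueField k T'.left q.left⟩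
  let s := T'.left.fromSpecResidueField t ≫ T'.hom
  have h1 : φ = φ ∧ Spec.preimage s ≫ φ = 𝟙 _ := ⟨rfl, Spec.map_injective (by
    rw [Spec.map_comp, Spec.map_preimage, ← Category.assoc, hφ, Over.w, Spec.map_id]
    show Spec.map (CommRingCat.ofHom (algebraMap k k)) = _
    rw [Algebra.algebraMap_self, CommRingCat.ofHom_id, Spec.map_id])⟩
  have h2 : φ ≫ Spec.preimage s = 𝟙 _ := CommRingCat.hom_ext (RingHom.ext fun x =>
    φ.hom.injective (congr($(h1.2).hom (φ x))))
  show s ≫ q.left = T'.left.fromSpecResidueField t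
  rw [← Spec.map_preimage s, ← hφ, ← Category.assoc, ← Spec.map_comp, h2, Spec.map_id, Category.id_comp]

/-- A first order point has the residue field of its reduction. -/
theorem fac_thin {R : Type u} [CommRing R] [Algebra k R] (aug : R →ₐ[k] k) (hnil : ∀ x, aug x = 0 → IsNilpotent x)
    (t : (T (k := k) R).left) :
    ((T (k := k) R).left.fromSpecResidueField t ≫ (T (k := k) R).hom) ≫ (Tmap aug).left =
      (T (k := k) R).left.fromSpecResidueField t := by
  let j := (Spec (CommRingCat.of R)).fromSpecResidueField t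
  show (j ≫ Spec.map (CommRingCat.ofHom (algebraMap k R))) ≫ Spec.map (CommRingCat.ofHom aug.toRingHom) = j
  rw [← Spec.map_preimage j, Category.assoc, ← Spec.map_comp, ← Spec.map_comp]
  congr 1
  refine CommRingCat.hom_ext (RingHom.ext fun r => ?_)
  show (Spec.preimage j).hom (algebraMap k R (aug r)) = (Spec.preimage j).hom r
  rw [← sub_eq_zero, ← map_sub]
  exact (IsNilpotent.map (hnil (algebraMap k R (aug r) - r) (by simp)) (Spec.preimage j).hom).eq_zero

theorem isLocalRing_of_thin {R : Type u} [CommRing R] [Algebra k R] (aug : R →ₐ[k] k)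
    (hnil : ∀ x, aug x = 0 → IsNilpotent x) : IsLocalRing R := by
  haveI : Nontrivial R := RingHom.domain_nontrivial aug.toRingHom
  have key : ∀ x, aug x ≠ 0 → IsUnit x := fun x hx => by
    rw [show x = algebraMap k R (aug x) + (x - algebraMap k R (aug x)) by ring]
    exact (hnil _ (by simp)).isUnit_add_left_of_commute ((isUnit_iff_ne_zero.2 hx).map (algebraMap k R))
      (Commute.all _ _)
  refine IsLocalRing.of_isUnit_or_isUnit_one_sub_self fun x => ?_
  by_cases hx : aug x = 0
  · exact Or.inr (key _ (by simp [hx]))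
  · exact Or.inl (key x hx)

variable (σ : Spec (CommRingCat.of k) ⟶ C) (hσ : σ ≫ f = 𝟙 (Spec (CommRingCat.of k)))
  {J : Over (Spec (CommRingCat.of k))} (ξ : PicF.Rig f σ hσ J) (hξ : FGA.HasFibreDegreeZeroCl f J ξ.1)
  (huniv : ∀ (T : Over (Spec (CommRingCat.of k))) (c : PicF.Rig f σ hσ T), FGA.HasFibreDegreeZeroCl f T c.1 →
    ∃! g : T ⟶ J, PicF.pullCl (PicF.XTmap f g) ξ.1 = c.1)

include hξ in
theorem deg0_point (q : T (k := k) k ⟶ J) : Deg0 f (PicF.pullCl (PicF.XTmap f q) ξ.1) := by
  obtain ⟨M, hM, hM0⟩ := hξ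
  obtain ⟨L, hL, hLi⟩ := ξ.2.1
  obtain ⟨e⟩ := PicMul.cl_eq_iff.1 (hL.trans hM.symm)
  rw [← hM]
  exact (deg_transfer f J _ q (fac_point q) M (PicMul.isInvertible_of_iso e hLi)).1 (hM0 _)

include hξ huniv in
/-- Classes on first order thickenings are classified. -/
theorem existsUnique_classify {R : Type u} [CommRing R] [Algebra k R] (aug : R →ₐ[k] k)
    (hnil : ∀ x, aug x = 0 → IsNilpotent x) (c : PicF.Cl (PicF.XT f (T (k := k) R))) (hc : PicF.IsInvertibleCl c)
    (hred : ∃ q : T (k := k) k ⟶ J, PicF.pullCl (PicF.XTmap f (Tmap aug)) c = PicF.pullCl (PicF.XTmap f q) ξ.1) :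
    ∃! γ : T (k := k) R ⟶ J, PicF.pullCl (PicF.XTmap f γ) ξ.1 = c := by
  haveI := isLocalRing_of_thin aug hnil
  obtain ⟨q, hq⟩ := hred
  obtain ⟨L, rfl, hL⟩ := hc
  refine huniv _ ⟨PicF.cl L, ⟨L, rfl, hL⟩,
    eq_structure_of_isLocalRing (R := R) (PicLoc.isInvertibleCl_pullCl _ ⟨L, rfl, hL⟩)⟩ ⟨L, rfl, fun t => ?_⟩
  refine (deg_transfer f _ t (Tmap aug) (fac_thin aug hnil t) L hL).2 ?_
  rw [hq]
  exact deg0_point f σ hσ ξ hξ q

include hξ huniv in
theorem isCls (p : T (k := k) k ⟶ J) :
    ∃ L, Classifier.IsCls (Over.mk f) J p L := by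
  let Xo : Over (Spec (CommRingCat.of k)) := Over.mk f
  obtain ⟨d, hd⟩ : ∃ d : PicF.Cl (PicF.XT f (T (k := k) k)), PicF.IsInvertibleCl d ∧
      d * PicF.pullCl (PicF.XTmap f p) ξ.1 = 1 := by
    obtain ⟨b, hb⟩ := PicMul.exists_inv ⟨PicF.pullCl (PicF.XTmap f p) ξ.1, PicLoc.isInvertibleCl_pullCl _ ξ.2.1⟩
    exact ⟨b.1, b.2, hb⟩
  have hQ : ∀ {R R' : Type u} [CommRing R] [Algebra k R] [CommRing R'] [Algebra k R'] (ψ : R →ₐ[k] R'),
      PicF.XTmap f (Tmap ψ) = (Q Xo ψ).left := fun ψ => XTmap_eq Xo ψ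
  have hcomp : ∀ {S₁ S₂ S₃ : Over (Spec (CommRingCat.of k))} (a : S₁ ⟶ S₂) (a' : S₂ ⟶ S₃)
      (c : PicF.Cl (PicF.XT f S₃)), PicF.pullCl (PicF.XTmap f a) (PicF.pullCl (PicF.XTmap f a') c) =
      PicF.pullCl (PicF.XTmap f (a ≫ a')) c := fun a a' c => (pullCl_XTmap_comp Xo a a' c).symm
  have hofId : ∀ {R R' : Type u} [CommRing R] [Algebra k R] [CommRing R'] [Algebra k R'] (ψ : R →ₐ[k] R'),
      Tmap ψ ≫ Tmap (Algebra.ofId k R) = Tmap (Algebra.ofId k R') := fun ψ => by
    rw [Tmap_comp, Tmap_eq_iff]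
    exact Subsingleton.elim _ _
  refine ⟨fun R _ _ γ => PicF.pullCl (PicF.XTmap f γ) ξ.1 * PicF.pullCl (PicF.XTmap f (Tmap (Algebra.ofId k R))) d,
    ⟨fun R _ _ γ => PicMul.isInvertibleCl_mul (PicLoc.isInvertibleCl_pullCl _ ξ.2.1)
      (PicLoc.isInvertibleCl_pullCl _ hd.1), ?_, ?_, ?_, ?_⟩⟩
  · intro R R' _ _ _ _ ψ γ
    rw [← hQ ψ, PicMul.pullCl_mul, hcomp, hcomp, hofId]
  · rw [show Tmap (Algebra.ofId k k) = 𝟙 (T (k := k) k) from Over.OverMorphism.ext (by
      show Spec.map (CommRingCat.ofHom (algebraMap k k)) = _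
      rw [Algebra.algebraMap_self, CommRingCat.ofHom_id, Spec.map_id]
      rfl)]
    have hid : PicF.XTmap f (𝟙 (T (k := k) k)) = 𝟙 _ := by
      apply pullback.hom_ext <;> simp [PicF.XTmap] <;> exact Category.id_comp _
    rw [hid, PicClLib.pullCl_id, mul_comm]
    exact hd.2
  · intro R _ _ aug hnil γ γ' h
    have hu : IsUnit (PicF.pullCl (PicF.XTmap f (Tmap (Algebra.ofId k R))) d) :=
      PicMul.isUnit_of_isInvertibleCl (PicLoc.isInvertibleCl_pullCl _ hd.1)
    have h' := hu.mul_right_cancel h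
    exact (existsUnique_classify f σ hσ ξ hξ huniv aug hnil _ (PicLoc.isInvertibleCl_pullCl _ ξ.2.1)
      ⟨Tmap aug ≫ γ, hcomp _ _ _⟩).unique rfl h'.symm
  · intro R _ _ aug hnil c hc hred
    change PicF.Cl (PicF.XT f (T (k := k) R)) at c
    have hid : ∀ (e : PicF.Cl (PicF.XT f (T (k := k) k))), PicF.pullCl (PicF.XTmap f (Tmap aug))
        (PicF.pullCl (PicF.XTmap f (Tmap (Algebra.ofId k R))) e) = e := fun e => by
      rw [hcomp, hofId, show Tmap (Algebra.ofId k k) = 𝟙 (T (k := k) k) from Over.OverMorphism.ext (by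
        show Spec.map (CommRingCat.ofHom (algebraMap k k)) = _
        rw [Algebra.algebraMap_self, CommRingCat.ofHom_id, Spec.map_id]
        rfl)]
      have hid : PicF.XTmap f (𝟙 (T (k := k) k)) = 𝟙 _ := by
        apply pullback.hom_ext <;> simp [PicF.XTmap] <;> exact Category.id_comp _
      rw [hid, PicClLib.pullCl_id]
    let c' := c * PicF.pullCl (PicF.XTmap f (Tmap (Algebra.ofId k R))) (PicF.pullCl (PicF.XTmap f p) ξ.1)
    have hc' : PicF.IsInvertibleCl c' := PicMul.isInvertibleCl_mul hc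
      (PicLoc.isInvertibleCl_pullCl _ (PicLoc.isInvertibleCl_pullCl _ ξ.2.1))
    obtain ⟨γ, hγ, -⟩ := existsUnique_classify f σ hσ ξ hξ huniv aug hnil c' hc' ⟨p, by
      show PicF.pullCl _ (c * _) = _
      rw [PicMul.pullCl_mul, hid, hQ aug, hred]
      exact one_mul _⟩
    refine ⟨γ, ?_⟩
    show PicF.pullCl (PicF.XTmap f γ) ξ.1 * _ = c
    rw [hγ, mul_assoc, ← PicMul.pullCl_mul, mul_comm (PicF.pullCl (PicF.XTmap f p) ξ.1) d, hd.2]
    exact (congrArg (c * ·) (PicMul.pullCl_one _)).trans (mul_one c)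

/-- A maximal ideal of a standard smooth algebra has height its relative dimension. -/
theorem height_maximal (B : Type u) [CommRing B] [Algebra k B] [Nontrivial B] (n : ℕ)
    [Algebra.IsStandardSmoothOfRelativeDimension n k B] (m : Ideal B) [m.IsMaximal] :
    (m.height : WithBot ℕ∞) = n := by
  refine le_antisymm ((Ideal.height_le_ringKrullDim_of_ne_top (I := m) Ideal.IsPrime.ne_top').trans
    (SmoothDim.ringKrullDim_eq k B n).le) ?_
  obtain ⟨g, hg⟩ := Algebra.IsStandardSmoothOfRelativeDimension.exists_etale_mvPolynomial (n := n) k B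
  let R := MvPolynomial (Fin n) k
  let : Algebra R B := g.toRingHom.toAlgebra
  have : IsScalarTower k R B := IsScalarTower.of_algebraMap_eq fun x => (g.commutes x).symm
  have : Algebra.Etale R B := hg
  have : Algebra.FiniteType k B := Algebra.FiniteType.trans (S := R) inferInstance inferInstance
  have : IsNoetherianRing B := Algebra.FiniteType.isNoetherianRing k B
  let M : PrimeSpectrum R := ⟨m.under R, inferInstance⟩
  have hM : M.asIdeal.IsMaximal := by
    let _ := Ideal.Quotient.field m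
    have : Module.Finite k (B ⧸ m) := finite_of_finite_type_of_isJacobsonRing k (B ⧸ m)
    have : Algebra.IsIntegral R (B ⧸ m) := Algebra.IsIntegral.tower_top k
    have h : ((⊥ : Ideal (B ⧸ m)).comap (algebraMap R (B ⧸ m))).IsMaximal :=
      Ideal.isMaximal_comap_of_isIntegral_of_isMaximal _
    convert! h using 1
    show m.comap (algebraMap R B) = _
    rw [IsScalarTower.algebraMap_eq R B (B ⧸ m), ← Ideal.comap_comap, Ideal.Quotient.algebraMap_eq,
      ← RingHom.ker_eq_comap_bot, Ideal.mk_ker]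
  haveI : Module.Flat R B := Algebra.Smooth.flat R B
  haveI : Algebra.HasGoingDown R B := Algebra.HasGoingDown.of_flat
  haveI : IsNoetherianRing R := MvPolynomial.isNoetherianRing
  have h1 : (M.asIdeal).height ≤ m.height := by
    rw [Ideal.height_eq_height_add_of_liesOver_of_hasGoingDown M.asIdeal m]
    exact le_self_add
  rw [M.height_eq_orderHeight, SmoothDim.height_maximal_mvPolynomial k n M hM] at h1
  exact WithBot.coe_le_coe.2 h1

/-- Around every point there is a chart of some dimension containing a rational point with stalk of that dimension. -/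
theorem exists_chart_point [IsSepClosed k] {J : Over (Spec (CommRingCat.of k))} [Smooth J.hom] (x : J.left) :
    ∃ (V : J.left.Opens) (n : ℕ) (p : T (k := k) k ⟶ J), x ∈ V ∧
      topologicalKrullDim (V : Set J.left) = n ∧
      Module.finrank (IsLocalRing.ResidueField (J.left.presheaf.stalk (Classifier.pt p)))
        (IsLocalRing.CotangentSpace (J.left.presheaf.stalk (Classifier.pt p))) = n := by
  obtain ⟨U, hU, V, hV, e, n, hxV, h, -, -⟩ := Synt29.SmoothDim.exists_chart J.hom x
  have hUt : U = ⊤ := top_le_iff.1 fun z _ => by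
    rw [Subsingleton.elim z (J.hom x)]; exact e hxV
  subst hUt
  let ψ := (Scheme.ΓSpecIso (CommRingCat.of k)).inv ≫ J.hom.appLE ⊤ V e
  have h' : RingHom.IsStandardSmoothOfRelativeDimension n ψ.hom :=
    RingHom.isStandardSmoothOfRelativeDimension_respectsIso.2 _
      (Scheme.ΓSpecIso (CommRingCat.of k)).symm.commRingCatIsoToRingEquiv h
  letI := ψ.hom.toAlgebra
  haveI : Algebra.IsStandardSmoothOfRelativeDimension n k Γ(J.left, V) := h'
  haveI : Algebra.IsStandardSmooth k Γ(J.left, V) :=
    Algebra.IsStandardSmoothOfRelativeDimension.isStandardSmooth n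
  haveI : Nonempty V := ⟨⟨x, hxV⟩⟩
  obtain ⟨σ⟩ := GrpSchLib.exists_algHom_of_isStandardSmooth k Γ(J.left, V)
  have hψ : Spec.map ψ = hV.fromSpec ≫ J.hom := by
    rw [Spec.map_comp, ← IsAffineOpen.SpecMap_appLE_fromSpec J.hom (isAffineOpen_top _) hV e,
      IsAffineOpen.fromSpec_top, Scheme.isoSpec_Spec_inv]
  have hw : (Spec.map (CommRingCat.ofHom σ.toRingHom) ≫ hV.fromSpec) ≫ J.hom = (T (k := k) k).hom := by
    rw [Category.assoc, ← hψ, ← Spec.map_comp]
    show Spec.map _ = Spec.map _
    congr 1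
    exact CommRingCat.hom_ext σ.comp_algebraMap
  let p : T (k := k) k ⟶ J := Over.homMk _ hw
  refine ⟨V, n, p, hxV, ?_, ?_⟩
  · have hn : ringKrullDim Γ(J.left, V) = n := SmoothDim.ringKrullDim_eq k Γ(J.left, V) n
    rw [← hn, ← PrimeSpectrum.topologicalKrullDim_eq_ringKrullDim]
    exact hV.isoSpec.hom.homeomorph.isHomeomorph.topologicalKrullDim_eq
  · let m : PrimeSpectrum Γ(J.left, V) := (Spec.map (CommRingCat.ofHom σ.toRingHom)) (IsLocalRing.closedPoint k)
    have hm : m.asIdeal = RingHom.ker σ.toRingHom := by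
      show Ideal.comap σ.toRingHom (IsLocalRing.maximalIdeal k) = _
      rw [IsLocalRing.maximalIdeal_eq_bot]
      rfl
    haveI : m.asIdeal.IsMaximal := by
      rw [hm]
      exact RingHom.ker_isMaximal_of_surjective _ fun c => ⟨algebraMap k _ c, σ.commutes c⟩
    have hpt : Classifier.pt p = hV.fromSpec m := rfl
    rw [hpt]
    haveI := GrpSchLib.isRegularLocalRing_stalk_of_smooth J.hom (hV.fromSpec m)
    have h1 := IsRegularLocalRing.iff_finrank_cotangentSpace (J.left.presheaf.stalk (hV.fromSpec m)) |>.1 inferInstance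
    rw [VarDim.ringKrullDim_stalk_fromSpec hV m, ← PrimeSpectrum.height_eq_orderHeight,
      height_maximal (k := k) Γ(J.left, V) n m.asIdeal] at h1
    exact_mod_cast h1

/-- If all rational points have tangent spaces of dimension `g`, the dimension is `g`. -/
theorem topologicalKrullDim_eq [IsSepClosed k] {J : Over (Spec (CommRingCat.of k))} [Smooth J.hom] [Nonempty J.left]
    (g : ℕ) (hg : ∀ p : T (k := k) k ⟶ J, Module.finrank (IsLocalRing.ResidueField (J.left.presheaf.stalk (Classifier.pt p)))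
        (IsLocalRing.CotangentSpace (J.left.presheaf.stalk (Classifier.pt p))) = g) :
    topologicalKrullDim J.left = g := by
  have key : ∀ x : J.left, ∃ V : J.left.Opens, x ∈ V ∧ topologicalKrullDim (V : Set J.left) = g := fun x => by
    obtain ⟨V, n, p, hx, hV, hn⟩ := exists_chart_point x
    exact ⟨V, hx, by rw [hV, ← hn, hg p]⟩
  haveI : LocallyOfFiniteType J.hom := inferInstance
  refine le_antisymm ?_ ?_
  · rw [VarDim.topologicalKrullDim_eq_iSup_deg J.hom]
    refine iSup_le fun x => ?_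
    obtain ⟨V, hx, hV⟩ := key x
    rw [← hV, VarDim.topologicalKrullDim_opens_eq_iSup_deg J.hom V]
    exact le_iSup (fun z : V => ((VarDim.deg J.hom z.1 : ℕ∞) : WithBot ℕ∞)) ⟨x, hx⟩
  · obtain ⟨x⟩ := ‹Nonempty J.left›
    obtain ⟨V, hx, hV⟩ := key x
    rw [← hV]
    exact Topology.IsInducing.subtypeVal.topologicalKrullDim_le

end Groth.Agent.PicTangent.JacPoint
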