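import Groth.Agent.PicTangent.Sections
import Groth.Agent.QCoh.CechMod
import Groth.Agent.QCoh.VanIdeal
import Groth.Agent.CurveCohLib.Proper

/-!
# First cohomology of the structure sheaf by cocycles of functions on an affine cover
-/

set_option autoImplicit false
set_option linter.style.haveILetI false
set_option backward.isDefEq.respectTransparency false
set_option backward.isDefEq.respectTransparency.types false

universe u

open CategoryTheory CategoryTheory.Limits AlgebraicGeometry MonoidalCategory CartesianMonoidalCategory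
  TopologicalSpace TensorProduct Opposite

noncomputable section

namespace Groth.Agent.PicTangent

open Groth.Agent Groth.Agent.AModX Groth.Agent.H23 Groth.Agent.H23.ProdFun

variable {k : Type u} [Field k] {X : Over (Spec (CommRingCat.of k))} {ι : Type u} (U : ι → X.left.Opens)

/-- Functions on triple intersections. -/
abbrev C2 : Type u := ∀ q : ι × ι × ι, Γ(X.left, U q.1 ⊓ U q.2.1 ⊓ U q.2.2)

theorem le₁₂ (a b c : ι) : U a ⊓ U b ⊓ U c ≤ U b ⊓ U c := inf_le_inf_right _ inf_le_right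
theorem le₀₂ (a b c : ι) : U a ⊓ U b ⊓ U c ≤ U a ⊓ U c := inf_le_inf_right _ inf_le_left
theorem le₀₁ (a b c : ι) : U a ⊓ U b ⊓ U c ≤ U a ⊓ U b := inf_le_left

/-- The second differential. -/
def d1 : KunnethH1.C1 U →ₗ[k] C2 U :=
  LinearMap.pi fun q =>
    (rX (le₁₂ U q.1 q.2.1 q.2.2)).toLinearMap ∘ₗ LinearMap.proj (q.2.1, q.2.2) -
      (rX (le₀₂ U q.1 q.2.1 q.2.2)).toLinearMap ∘ₗ LinearMap.proj (q.1, q.2.2) +
      (rX (le₀₁ U q.1 q.2.1 q.2.2)).toLinearMap ∘ₗ LinearMap.proj (q.1, q.2.1)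

theorem delta_apply (h : ∀ i, Γ(X.left, U i)) (q : ι × ι) :
    KunnethH1.delta U h q = rX inf_le_right (h q.2) - rX inf_le_left (h q.1) := rfl

theorem d1_apply (c : KunnethH1.C1 U) (a b e : ι) :
    d1 U c (a, b, e) =
      rX (le₁₂ U a b e) (c (b, e)) - rX (le₀₂ U a b e) (c (a, e)) + rX (le₀₁ U a b e) (c (a, b)) := rfl

theorem d1_delta (h : ∀ i, Γ(X.left, U i)) : d1 U (KunnethH1.delta U h) = 0 := by
  funext ⟨a, b, e⟩
  simp only [d1_apply, delta_apply, map_sub, rX_rX, Pi.zero_apply]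
  abel

/-- Cocycles modulo coboundaries. -/
abbrev H1 : Type u :=
  LinearMap.ker (d1 U) ⧸ (LinearMap.range (KunnethH1.delta U)).comap (LinearMap.ker (d1 U)).subtype

abbrev cx : CochainComplex (ModuleCat.{u} k) ℕ :=
  QCoh.cxMod (Coh.toGlobal X.hom) U (Coh.structureModule X.left)

/-- The value of a natural cochain. -/
abbrev val {p : ℕ} (n : (cx U).X p) (σ : Fin (p + 1) → ι) (W : X.left.Opens) (h : ∀ a, W ≤ U (σ a)) :
    Γ(X.left, W) := (show QCoh.Ab.natCochains (Coh.structureModule X.left).presheaf U (p + 1) from n).1 σ ⟨W, h⟩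

theorem val_res {p : ℕ} (n : (cx U).X p) (σ : Fin (p + 1) → ι) {W W' : X.left.Opens} (h : ∀ a, W ≤ U (σ a))
    (e : W' ≤ W) : resR e (val U n σ W h) = val U n σ W' fun a => e.trans (h a) :=
  (show QCoh.Ab.natCochains (Coh.structureModule X.left).presheaf U (p + 1) from n).2 σ W W' h _ (homOfLE e)

theorem val_ext {p : ℕ} {n n' : (cx U).X p} (h : ∀ σ W hW, val U n σ W hW = val U n' σ W hW) : n = n' :=
  Subtype.ext (funext fun σ => funext fun W => h σ W.1 W.2)

theorem resTop_toGlobal (W : X.left.Opens) (a : k) :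
    (show Γ(X.left, W) from Coh.resTop X.left (op W) (Coh.toGlobal X.hom a)) = algebraMap k Γ(X.left, W) a := by
  rw [ProdFun.algebraMap_def]
  show X.left.presheaf.map (homOfLE le_top).op (X.hom.appTop _) = _
  simp only [Scheme.Hom.appLE, CommRingCat.comp_apply]
  rfl

theorem val_smul {p : ℕ} (a : k) (n : (cx U).X p) (σ : Fin (p + 1) → ι) (W : X.left.Opens)
    (h : ∀ b, W ≤ U (σ b)) : val U (a • n) σ W h = a • val U n σ W h := by
  rw [Algebra.smul_def, ← resTop_toGlobal]
  rfl

theorem val_d0 (n : (cx U).X 0) (σ : Fin 2 → ι) (W : X.left.Opens) (h : ∀ a, W ≤ U (σ a)) :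
    val U ((cx U).d 0 1 n) σ W h =
      val U n (fun _ => σ 1) W (fun _ => h 1) - val U n (fun _ => σ 0) W (fun _ => h 0) := by
  show ((QCoh.Ab.natCx _ U).d 0 1 n).1 σ ⟨W, h⟩ = _
  rw [show (QCoh.Ab.natCx (Coh.structureModule X.left).presheaf U).d 0 1 = _ from QCoh.Ab.natCx_d (Coh.structureModule X.left).presheaf U 0]
  show QCoh.Ab.d _ σ ⟨W, h⟩ = _
  rw [QCoh.Ab.d, Fin.sum_univ_two]
  have e0 : (fun b : Fin 1 => σ ((0 : Fin 2).succAbove b)) = fun _ => σ 1 := by
    funext b; fin_cases b; rfl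
  have e1 : (fun b : Fin 1 => σ ((1 : Fin 2).succAbove b)) = fun _ => σ 0 := by
    funext b; fin_cases b; rfl
  have key : ∀ {τ τ' : Fin 1 → ι} (e : τ = τ') (hτ : ∀ a, W ≤ U (τ a)) (hτ' : ∀ a, W ≤ U (τ' a)),
      val U n τ W hτ = val U n τ' W hτ' := by rintro τ τ' rfl _ _; rfl
  simp only [Fin.val_zero, Fin.val_one, pow_zero, one_smul, pow_one, neg_smul, sub_eq_add_neg]
  rw [← key e0 (fun b => h _), ← key e1 (fun b => h _)]

theorem val_d1 (n : (cx U).X 1) (σ : Fin 3 → ι) (W : X.left.Opens) (h : ∀ a, W ≤ U (σ a)) :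
    val U ((cx U).d 1 2 n) σ W h =
      val U n ![σ 1, σ 2] W (fun a => by fin_cases a <;> simp [h]) -
        val U n ![σ 0, σ 2] W (fun a => by fin_cases a <;> simp [h]) +
        val U n ![σ 0, σ 1] W (fun a => by fin_cases a <;> simp [h]) := by
  show ((QCoh.Ab.natCx _ U).d 1 2 n).1 σ ⟨W, h⟩ = _
  rw [show (QCoh.Ab.natCx (Coh.structureModule X.left).presheaf U).d 1 2 = _ from QCoh.Ab.natCx_d (Coh.structureModule X.left).presheaf U 1]
  show QCoh.Ab.d _ σ ⟨W, h⟩ = _
  rw [QCoh.Ab.d, Fin.sum_univ_three]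
  have e0 : (fun b : Fin 2 => σ ((0 : Fin 3).succAbove b)) = ![σ 1, σ 2] := by
    funext b; fin_cases b <;> rfl
  have e1 : (fun b : Fin 2 => σ ((1 : Fin 3).succAbove b)) = ![σ 0, σ 2] := by
    funext b; fin_cases b <;> rfl
  have e2 : (fun b : Fin 2 => σ ((2 : Fin 3).succAbove b)) = ![σ 0, σ 1] := by
    funext b; fin_cases b <;> rfl
  have key : ∀ {τ τ' : Fin 2 → ι} (e : τ = τ') (hτ : ∀ a, W ≤ U (τ a)) (hτ' : ∀ a, W ≤ U (τ' a)),
      val U n τ W hτ = val U n τ' W hτ' := by rintro τ τ' rfl _ _; rfl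
  simp only [Fin.val_zero, Fin.val_one, Fin.val_two, pow_zero, one_smul, pow_one, neg_smul, neg_one_sq,
    sub_eq_add_neg]
  rw [← key e0 (fun b => h _), ← key e1 (fun b => h _), ← key e2 (fun b => h _)]

theorem pair_le {q : ι × ι} (a : Fin 2) : U q.1 ⊓ U q.2 ≤ U (![q.1, q.2] a) := by
  fin_cases a <;> simp

/-- Families on pairwise intersections as natural cochains. -/
def j1 : KunnethH1.C1 U ≃ₗ[k] (cx U).X 1 where
  toFun c := ⟨fun σ W => resR (le_inf (W.2 0) (W.2 1)) (c (σ 0, σ 1)),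
    fun σ W W' h h' i => by
      show resR (X := X.left) i.le (resR _ _) = resR _ _
      exact resR_resR _ _ _⟩
  invFun n q := val U n ![q.1, q.2] _ (pair_le U)
  map_add' c c' := val_ext U fun σ W hW => map_add (resR (X := X.left) _) _ _
  map_smul' a c := val_ext U fun σ W hW => by
    rw [RingHom.id_apply, val_smul]
    show resR _ (a • c (σ 0, σ 1)) = a • resR _ (c (σ 0, σ 1))
    rw [← KunnethH1.pullFun_res (show W ≤ (𝟙 X : X ⟶ X).left ⁻¹ᵁ (U (σ 0) ⊓ U (σ 1)) from le_inf (hW 0) (hW 1)),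
      map_smul, KunnethH1.pullFun_res _ (le_inf (hW 0) (hW 1))]
  left_inv c := funext fun q => resR_self (c q)
  right_inv n := val_ext U fun σ W hW => by
    show resR _ (val U n ![σ 0, σ 1] _ _) = _
    rw [val_res]
    have e : (![σ 0, σ 1] : Fin 2 → ι) = σ := by funext b; fin_cases b <;> rfl
    congr 1

theorem single_le {i : ι} (a : Fin 1) : U i ≤ U ((fun _ => i : Fin 1 → ι) a) := le_rfl

/-- Families on the cover as natural cochains. -/
def j0 : (∀ i, Γ(X.left, U i)) ≃ₗ[k] (cx U).X 0 where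
  toFun c := ⟨fun σ W => resR (W.2 0) (c (σ 0)), fun σ W W' h h' i => by
      show resR (X := X.left) i.le (resR _ _) = resR _ _
      exact resR_resR _ _ _⟩
  invFun n i := val U n (fun _ => i) _ (single_le U)
  map_add' c c' := val_ext U fun σ W hW => map_add (resR (X := X.left) _) _ _
  map_smul' a c := val_ext U fun σ W hW => by
    rw [RingHom.id_apply, val_smul]
    show resR _ (a • c (σ 0)) = a • resR _ (c (σ 0))
    rw [← KunnethH1.pullFun_res (show W ≤ (𝟙 X : X ⟶ X).left ⁻¹ᵁ U (σ 0) from hW 0), map_smul,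
      KunnethH1.pullFun_res _ (hW 0)]
  left_inv c := funext fun i => resR_self (c i)
  right_inv n := val_ext U fun σ W hW => by
    show resR _ (val U n _ _ _) = _
    rw [val_res]
    have e : ((fun _ => σ 0) : Fin 1 → ι) = σ := by funext b; fin_cases b; rfl
    congr 1

theorem comm0 (h : ∀ i, Γ(X.left, U i)) :
    (cx U).d 0 1 (j0 U h) = j1 U (KunnethH1.delta U h) := val_ext U fun σ W hW => by
  rw [val_d0]
  show resR _ (h (σ 1)) - resR _ (h (σ 0)) = resR _ (KunnethH1.delta U h (σ 0, σ 1))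
  rw [delta_apply, map_sub, KunnethH1.pullFun_res _ inf_le_right, KunnethH1.pullFun_res _ inf_le_left,
    resR_resR, resR_resR]

theorem j1_mem_ker (c : KunnethH1.C1 U) : (cx U).d 1 2 (j1 U c) = 0 ↔ d1 U c = 0 := by
  have key : ∀ σ W hW, val U ((cx U).d 1 2 (j1 U c)) σ W hW =
      resR (le_inf (le_inf (hW 0) (hW 1)) (hW 2)) (d1 U c (σ 0, σ 1, σ 2)) := by
    intro σ W hW
    rw [val_d1, d1_apply, map_add, map_sub, KunnethH1.pullFun_res _ (le₁₂ U _ _ _),
      KunnethH1.pullFun_res _ (le₀₂ U _ _ _), KunnethH1.pullFun_res _ (le₀₁ U _ _ _), resR_resR, resR_resR, resR_resR]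
    rfl
  constructor
  · intro h
    funext ⟨a, b, e⟩
    have hle : ∀ x, U a ⊓ U b ⊓ U e ≤ U (![a, b, e] x) := fun x => by
      fin_cases x
      · exact inf_le_left.trans inf_le_left
      · exact inf_le_left.trans inf_le_right
      · exact inf_le_right
    have h2 := key ![a, b, e] _ hle
    rw [h] at h2
    refine ((resR_self _).symm.trans h2.symm).trans ?_
    rfl
  · intro h
    refine val_ext U fun σ W hW => ?_
    rw [key, h]
    exact map_zero _

theorem isAffineOpen_iInf [X.left.IsSeparated] (hU : ∀ i, IsAffineOpen (U i)) :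
    ∀ {p : ℕ} (σ : Fin (p + 1) → ι), IsAffineOpen (⨅ a, U (σ a)) := by
  intro p
  induction p with
  | zero =>
    intro σ
    rw [show (⨅ a, U (σ a)) = U (σ 0) from le_antisymm (iInf_le _ 0) (le_iInf fun a => by rw [Fin.fin_one_eq_zero a])]
    exact hU _
  | succ p ih =>
    intro σ
    rw [show (⨅ a, U (σ a)) = U (σ 0) ⊓ ⨅ a : Fin (p + 1), U (σ a.succ) from
      le_antisymm (le_inf (iInf_le _ 0) (le_iInf fun a => iInf_le _ a.succ))
        (le_iInf fun a => Fin.cases inf_le_left (fun b => inf_le_right.trans (iInf_le _ b)) a)]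
    exact (hU _).inf (ih _)

theorem H1_equiv [X.left.IsSeparated] (hU : ∀ i, IsAffineOpen (U i)) (hcov : ⨆ i, U i = ⊤) :
    letI : X.left.Over (Spec (CommRingCat.of k)) := ⟨X.hom⟩
    Nonempty (H1 U ≃ₗ[k] Coh.HH X.left (Coh.structureModule X.left) 1) := by
  letI : X.left.Over (Spec (CommRingCat.of k)) := ⟨X.hom⟩
  obtain ⟨e⟩ := QCoh.cxMod_homology_equiv (Coh.toGlobal X.hom) U hcov (isAffineOpen_iInf U hU)
    (QCoh.isQCoh_structureModule (X := X.left)) 1
  let S := (cx U).sc' 0 1 2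
  let i : (cx U).homology 1 ≅ ModuleCat.of k (LinearMap.ker S.g.hom ⧸ LinearMap.range S.moduleCatToCycles) :=
    ShortComplex.homologyMapIso ((cx U).isoSc' 0 1 2 (by simp) (by simp)) ≪≫ S.moduleCatHomologyIso
  let eK : LinearMap.ker (d1 U) ≃ₗ[k] LinearMap.ker S.g.hom :=
    LinearEquiv.ofSubmodules (j1 U) _ _ (by
      ext n
      obtain ⟨c, rfl⟩ := (j1 U).surjective n
      rw [Submodule.map_equiv_eq_comap_symm, Submodule.mem_comap, LinearMap.mem_ker]
      show d1 U ((j1 U).symm (j1 U c)) = 0 ↔ (cx U).d 1 2 (j1 U c) = 0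
      rw [LinearEquiv.symm_apply_apply, j1_mem_ker])
  refine ⟨(Submodule.Quotient.equiv _ _ eK ?_).trans (i.toLinearEquiv.symm.trans e)⟩
  ext n
  constructor
  · rintro ⟨c, ⟨h, hh⟩, rfl⟩
    exact ⟨j0 U h, Subtype.ext ((comm0 U h).trans (congrArg (j1 U) hh))⟩
  · rintro ⟨m, rfl⟩
    obtain ⟨h, rfl⟩ := (j0 U).surjective m
    refine ⟨⟨KunnethH1.delta U h, d1_delta U h⟩, ⟨h, rfl⟩, Subtype.ext ?_⟩
    exact (comm0 U h).symm

set_option linter.unusedSectionVars false

section Tensor

variable {n : ℕ} (b : Module.Basis (Fin n) k (H1 U)) (R : Type u) [CommRing R] [Algebra k R]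

/-- Representatives of a basis. -/
def rep (i : Fin n) : KunnethH1.C1 U := (Quotient.out (b i) : LinearMap.ker (d1 U)).1

theorem rep_cocycle (i : Fin n) : d1 U (rep U b i) = 0 := (Quotient.out (b i) : LinearMap.ker (d1 U)).2

/-- The combinations of representatives and coboundaries. -/
def G : (Fin n → k) × (∀ i, Γ(X.left, U i)) →ₗ[k] KunnethH1.C1 U :=
  LinearMap.coprod (∑ i, (LinearMap.proj i : (Fin n → k) →ₗ[k] k).smulRight (rep U b i)) (KunnethH1.delta U)

theorem G_apply (t : Fin n → k) (h : ∀ i, Γ(X.left, U i)) :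
    G U b (t, h) = ∑ i, t i • rep U b i + KunnethH1.delta U h := by simp [G]

theorem exact_G : Function.Exact (G U b) (d1 U) := by
  intro c
  constructor
  · intro hc
    let x : H1 U := Submodule.Quotient.mk ⟨c, hc⟩
    have h : Submodule.Quotient.mk (∑ i, b.repr x i • (Quotient.out (b i) : LinearMap.ker (d1 U))) = x := by
      rw [← Submodule.mkQ_apply, map_sum]
      refine Eq.trans ?_ (b.sum_repr x)
      refine Finset.sum_congr rfl fun i _ => ?_
      rw [map_smul, Submodule.mkQ_apply]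
      exact congrArg _ (Quotient.out_eq (b i))
    obtain ⟨h', hh'⟩ := (Submodule.Quotient.eq _).1 h.symm
    refine ⟨(fun i => b.repr x i, h'), ?_⟩
    rw [G_apply, hh']
    simp only [Submodule.subtype_apply, AddSubgroupClass.coe_sub, AddSubmonoidClass.coe_finsetSum,
      SetLike.val_smul, rep]
    abel
  · rintro ⟨⟨t, h⟩, rfl⟩
    simp [G_apply, map_sum, rep_cocycle, d1_delta]

/-- Scalars of a combination of representatives that bounds vanish. -/
theorem eq_zero_of_bound (t : Fin n → k) (h : ∀ i, Γ(X.left, U i))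
    (e : ∑ i, t i • rep U b i = KunnethH1.delta U h) : t = 0 := by
  have h1 : ∑ i, t i • b i = 0 := by
    calc ∑ i, t i • b i
        = Submodule.Quotient.mk (∑ i, t i • (Quotient.out (b i) : LinearMap.ker (d1 U))) := by
          rw [← Submodule.mkQ_apply, map_sum]
          refine Finset.sum_congr rfl fun i _ => ?_
          rw [map_smul, Submodule.mkQ_apply]
          exact congrArg _ (Quotient.out_eq (b i)).symm
      _ = 0 := by
          rw [Submodule.Quotient.mk_eq_zero]
          refine ⟨h, e.symm.trans ?_⟩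
          simp [rep]
  exact funext (Fintype.linearIndependent_iff.1 b.linearIndependent t h1)

/-- Cocycles with coefficients are combinations of representatives up to coboundary. -/
theorem exists_decomp [Finite ι] (y : ∀ q : ι × ι, Γ(X.left, U q.1 ⊓ U q.2) ⊗[k] R)
    (hy : ∀ a b e, rT X R (le₁₂ U a b e) (y (b, e)) - rT X R (le₀₂ U a b e) (y (a, e)) +
      rT X R (le₀₁ U a b e) (y (a, b)) = 0) :
    ∃ (t : Fin n → R) (s : ∀ i, Γ(X.left, U i) ⊗[k] R), ∀ a e : ι,
      y (a, e) = ∑ i, rep U b i (a, e) ⊗ₜ[k] t i + (rT X R inf_le_right (s e) - rT X R inf_le_left (s a)) := by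
  classical
  cases nonempty_fintype ι
  obtain ⟨z, hz⟩ := KunnethH1.exists_comp y
  have hker : (d1 U).rTensor R z = 0 := by
    refine KunnethH1.ext_comp fun ⟨a, c, e⟩ => ?_
    rw [map_zero, ← LinearMap.rTensor_comp_apply, show LinearMap.proj (a, c, e) ∘ₗ d1 U = _ from rfl]
    refine Eq.trans ?_ (hy a c e)
    rw [← hz (c, e), ← hz (a, e), ← hz (a, c)]
    simp only [d1, LinearMap.proj_pi, LinearMap.rTensor_add, LinearMap.rTensor_sub, LinearMap.add_apply,
      LinearMap.sub_apply, LinearMap.rTensor_comp_apply]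
    rfl
  obtain ⟨w, hw⟩ := ((Module.Flat.rTensor_exact R (exact_G U b)) z).1 hker
  refine ⟨fun i => TensorProduct.lid k R ((LinearMap.proj i ∘ₗ LinearMap.fst k _ _).rTensor R w),
    fun i => (LinearMap.proj i ∘ₗ LinearMap.snd k _ _).rTensor R w, fun a e => ?_⟩
  rw [← hz (a, e), ← hw]
  clear hw hker hz z
  induction w using TensorProduct.induction_on with
  | zero => simp
  | add x x' hx hx' =>
    simp only [map_add, TensorProduct.tmul_add, Finset.sum_add_distrib, hx, hx']
    abel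
  | tmul p r =>
    obtain ⟨t, h⟩ := p
    simp only [LinearMap.rTensor_tmul, LinearMap.coe_comp, Function.comp_apply, LinearMap.proj_apply,
      LinearMap.fst_apply, LinearMap.snd_apply, TensorProduct.lid_tmul, G_apply, TensorProduct.tmul_smul,
      TensorProduct.smul_tmul', Algebra.TensorProduct.map_tmul, AlgHom.coe_id, id_eq]
    simp [Finset.sum_apply, delta_apply, TensorProduct.add_tmul, TensorProduct.sum_tmul, TensorProduct.sub_tmul]

end Tensor

end Groth.Agent.PicTangent
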