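import Groth.Agent.PicTangent.Main

/-!
# The tangent space at a point classifying first order deformations of a line bundle
-/

set_option autoImplicit false
set_option linter.style.haveILetI false
set_option linter.unusedSectionVars false
set_option backward.isDefEq.respectTransparency false
set_option backward.isDefEq.respectTransparency.types false
set_option maxHeartbeats 1000000

universe u

open CategoryTheory CategoryTheory.Limits AlgebraicGeometry MonoidalCategory CartesianMonoidalCategory
  TopologicalSpace TensorProduct Opposite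

noncomputable section

namespace Groth.Agent.PicTangent.Classifier

open Groth.Agent Groth.Agent.H23

variable {k : Type u} [Field k]

/-- `L` assigns to infinitesimal points of `P` at `p` exactly the deformations of the trivial class. -/
structure IsCls (X P : Over (Spec (CommRingCat.of k))) (p : T (k := k) k ⟶ P)
    (L : ∀ (R : Type u) [CommRing R] [Algebra k R], (T (k := k) R ⟶ P) → PicF.Cl (X ⊗ T (k := k) R).left) : Prop where
  inv : ∀ (R : Type u) [CommRing R] [Algebra k R] (γ : T (k := k) R ⟶ P), PicF.IsInvertibleCl (L R γ)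
  nat : ∀ (R R' : Type u) [CommRing R] [Algebra k R] [CommRing R'] [Algebra k R'] (ψ : R →ₐ[k] R')
    (γ : T (k := k) R ⟶ P), PicF.pullCl (Q X ψ).left (L R γ) = L R' (Tmap ψ ≫ γ)
  base : L k p = PicF.cl (Coh.structureModule _)
  inj : ∀ (R : Type u) [CommRing R] [Algebra k R] (aug : R →ₐ[k] k), (∀ x, aug x = 0 → IsNilpotent x) →
    ∀ γ γ' : T (k := k) R ⟶ P, L R γ = L R γ' → γ = γ'
  surj : ∀ (R : Type u) [CommRing R] [Algebra k R] (aug : R →ₐ[k] k), (∀ x, aug x = 0 → IsNilpotent x) →
    ∀ c : PicF.Cl (X ⊗ T (k := k) R).left, PicF.IsInvertibleCl c →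
      PicF.pullCl (Q X aug).left c = PicF.cl (Coh.structureModule _) → ∃ γ, L R γ = c

theorem nil_trivSq {M : Type u} [AddCommGroup M] [Module k M] [Module kᵐᵒᵖ M] [IsCentralScalar k M]
    (x : TrivSqZeroExt k M) (h : TrivSqZeroExt.fstHom k k M x = 0) : IsNilpotent x := by
  refine ⟨2, ?_⟩
  change x.fst = 0 at h
  rw [sq]
  refine TrivSqZeroExt.ext ?_ ?_ <;> simp [h]

variable {X P : Over (Spec (CommRingCat.of k))} {p : T (k := k) k ⟶ P}
  {L : ∀ (R : Type u) [CommRing R] [Algebra k R], (T (k := k) R ⟶ P) → PicF.Cl (X ⊗ T (k := k) R).left}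
  (hL : IsCls X P p L)

/-- The underlying point. -/
abbrev pt (p : T (k := k) k ⟶ P) : P.left := p.left (IsLocalRing.closedPoint k)

include hL in
theorem base' (R : Type u) [CommRing R] [Algebra k R] :
    L R (Tmap (Algebra.ofId k R) ≫ p) = PicF.cl (Coh.structureModule _) := by
  rw [← hL.nat, hL.base, pullCl_structure]

variable {ι : Type u} [Finite ι] {U : ι → X.left.Opens} (hcov : ⨆ a, U a = ⊤) {n : ℕ}
  (b : Module.Basis (Fin n) k (H1 U))

include hL hcov b in
theorem finrank_cotangent_aux (hU : ∀ a, IsAffineOpen (U a)) [IsSeparated X.hom] :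
    Module.finrank (IsLocalRing.ResidueField (P.left.presheaf.stalk (pt p)))
      (IsLocalRing.CotangentSpace (P.left.presheaf.stalk (pt p))) = n := by
  classical
  let o := pt p
  letI := stalkAlgebra P o
  let O := P.left.presheaf.stalk o
  obtain ⟨res, hres₀⟩ := exists_ofStalk p o rfl
  have hres : ∀ (R : Type u) [CommRing R] [Algebra k R],
      ofStalk o ((Algebra.ofId k R).comp res) = Tmap (Algebra.ofId k R) ≫ p := fun R _ _ => by
    rw [← ofStalk_comp, hres₀]
  let TS := TrivSqZeroExt k (Fin n → k)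
  let aug : TS →ₐ[k] k := TrivSqZeroExt.fstHom k k (Fin n → k)
  have haug : ∀ x, aug x = 0 → IsNilpotent x := nil_trivSq
  have hc0 : PicF.IsInvertibleCl (univCl b) := isInvertibleCl_lcl U _ _ _ hcov
  obtain ⟨γ, hγ⟩ := hL.surj TS aug haug (univCl b) hc0 (by
    rw [pullCl_lcl U _ _ _ hcov aug,
      lcl_zero U (rep U b) (rep_cocycle U b) _ hcov fun i => TrivSqZeroExt.fst_inr k (Pi.single i (1 : k) : Fin n → k)])
  have h1 : Tmap aug ≫ γ = p := by
    refine hL.inj k (AlgHom.id k k) (fun x hx => ⟨1, by rw [pow_one]; exact hx⟩) _ _ ?_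
    rw [hL.base, ← hL.nat, hγ, pullCl_lcl U _ _ _ hcov aug,
      lcl_zero U (rep U b) (rep_cocycle U b) _ hcov fun i => TrivSqZeroExt.fst_inr k (Pi.single i (1 : k) : Fin n → k)]
  haveI := isLocalRing_trivSqZero (k := k) (M := Fin n → k)
  have hpt : γ.left (IsLocalRing.closedPoint TS) = o := by
    show _ = p.left (IsLocalRing.closedPoint k)
    rw [← h1]
    show γ.left _ = γ.left _
    congr 1
    exact (subsingleton_spec_trivSqZero (k := k) (M := Fin n → k)).elim _ _
  obtain ⟨g, hg⟩ := exists_ofStalk γ o hpt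
  have hgf : ∀ x, (g x).fst = res x := fun x => by
    have e : aug.comp g = res := by
      apply ofStalk_injective o
      rw [hres₀, ← ofStalk_comp, hg, h1]
    exact congr($e x)
  have hker : RingHom.ker res.toRingHom = IsLocalRing.maximalIdeal O :=
    IsLocalRing.eq_maximalIdeal (RingHom.ker_isMaximal_of_surjective _ fun c => ⟨algebraMap k O c, res.commutes c⟩)
  have haD : ∀ x : DualNumber k, fK (k := k) k x = 0 → IsNilpotent x := nil_trivSq (k := k) (M := k)
  rw [finrank_cotangent_of_surjective res ((TrivSqZeroExt.sndHom k (Fin n → k)) ∘ₗ g.toLinearMap) ?_ ?_ ?_ ?_,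
    Module.finrank_fin_fun]
  · rw [← LinearMap.range_eq_top]
    by_contra hne
    obtain ⟨t, ht0, ht⟩ := Submodule.exists_le_ker_of_lt_top _ (lt_top_iff_ne_top.2 hne)
    have h2 : (chi t).comp g = (Algebra.ofId k (DualNumber k)).comp res := AlgHom.ext fun x => by
      refine TrivSqZeroExt.ext ?_ ?_
      · simp [(chi_apply t _).1, Algebra.ofId_apply, TrivSqZeroExt.algebraMap_eq_inl]
        exact hgf x
      · have : t (g x).snd = 0 := ht ⟨x, rfl⟩
        simp [(chi_apply t _).2, Algebra.ofId_apply, TrivSqZeroExt.algebraMap_eq_inl]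
        exact this
    have h3 : PicF.pullCl (Q X (chi t)).left (univCl b) = PicF.cl (Coh.structureModule _) := by
      rw [← hγ, hL.nat, ← hg, ofStalk_comp, h2, hres, base' hL]
    rw [pullCl_lcl U _ _ _ hcov] at h3
    let s : Fin n → k := fun i => t (Pi.single i 1)
    have hs : s = 0 := by
      refine eq_zero_of_lcl_trivial U hU (K := k) b hcov s ?_
      refine Eq.trans (lcl_congr _ _ _ _ (funext fun i => ?_)) h3
      show _ = chi t (r0 n i)
      rw [chi_inr]
      rfl
    exact ht0 (LinearMap.pi_ext' fun i => LinearMap.ext_ring (congrFun hs i))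
  · intro c
    show (g (algebraMap k _ c)).snd = 0
    rw [g.commutes, TrivSqZeroExt.algebraMap_eq_inl, TrivSqZeroExt.snd_inl]
  · intro a c ha hc
    show (g (a * c)).snd = 0
    rw [map_mul, TrivSqZeroExt.snd_mul, hgf, hgf, ha, hc]
    simp
  · intro x hx hgx
    change (g x).snd = 0 at hgx
    by_contra hx2
    obtain ⟨ψ, hψx, hψ⟩ := Submodule.exists_le_ker_of_notMem
      (p := (IsLocalRing.maximalIdeal O ^ 2).restrictScalars k) hx2
    have hψ2 : ∀ a b, res a = 0 → res b = 0 → ψ (a * b) = 0 := fun a b ha hb => hψ (by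
      show a * b ∈ IsLocalRing.maximalIdeal O ^ 2
      rw [sq, ← hker]
      exact Ideal.mul_mem_mul ha hb)
    let δ : T (k := k) (DualNumber k) ⟶ P := ofStalk o (gpsi res ψ hψ2)
    have hred : PicF.pullCl (Q X (fK (k := k) k)).left (L _ δ) = PicF.cl (Coh.structureModule _) := by
      rw [hL.nat, ofStalk_comp, gpsi_fst, hres₀, hL.base]
    obtain ⟨v, hv⟩ := exists_lcl_eq U hU b hcov (L _ δ) (hL.inv _ δ) hred
    let tv : (Fin n → k) →ₗ[k] k := Fintype.linearCombination k v
    have hc2 : PicF.pullCl (Q X (chi tv)).left (univCl b) = L _ δ := by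
      rw [hv, pullCl_lcl U _ _ _ hcov]
      refine lcl_congr _ _ _ _ (funext fun i => ?_)
      rw [chi_inr, Fintype.linearCombination_apply_single, one_smul]
    have heq : (chi tv).comp g = gpsi res ψ hψ2 := by
      apply ofStalk_injective o
      rw [← ofStalk_comp, hg]
      refine hL.inj _ (fK (k := k) k) haD _ _ ?_
      rw [← hL.nat, hγ, hc2]
    have h4 := congr(($heq x).snd)
    rw [AlgHom.comp_apply, (chi_apply tv _).2, hgx, map_zero, gpsi_snd] at h4
    rw [← hker] at hx
    rw [show res x = 0 from hx, map_zero, sub_zero] at h4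
    exact hψx h4.symm

/-- The tangent space has dimension `h¹(𝒪)`. -/
theorem finrank_cotangent (Xl : Scheme.{u}) [Xl.Over (Spec (CommRingCat.of k))]
    [IsProper (Xl ↘ Spec (CommRingCat.of k))] {P : Over (Spec (CommRingCat.of k))} {p : T (k := k) k ⟶ P}
    {L : ∀ (R : Type u) [CommRing R] [Algebra k R], (T (k := k) R ⟶ P) →
      PicF.Cl (Over.mk (Xl ↘ Spec (CommRingCat.of k)) ⊗ T (k := k) R).left}
    (hL : IsCls (Over.mk (Xl ↘ Spec (CommRingCat.of k))) P p L) :
    Module.finrank (IsLocalRing.ResidueField (P.left.presheaf.stalk (pt p)))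
      (IsLocalRing.CotangentSpace (P.left.presheaf.stalk (pt p))) =
      Module.finrank k (Coh.HH Xl (Coh.structureModule Xl) 1) := by
  classical
  let f := Xl ↘ Spec (CommRingCat.of k)
  let Xo : Over (Spec (CommRingCat.of k)) := Over.mk f
  haveI : IsSeparated Xo.hom := inferInstanceAs (IsSeparated f)
  haveI : Xl.IsSeparated := isSeparated_left Xo
  haveI : Xo.left.IsSeparated := isSeparated_left Xo
  haveI : CompactSpace Xl := QuasiCompact.compactSpace_of_compactSpace f
  haveI : IsLocallyNoetherian Xl := LocallyOfFiniteType.isLocallyNoetherian f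
  let 𝒰 := Xl.affineCover.finiteSubcover
  let U : 𝒰.I₀ → Xl.Opens := fun a => (𝒰.f a).opensRange
  have hU : ∀ a, IsAffineOpen (U a) := fun a => by
    haveI : IsAffine (𝒰.X a) := inferInstanceAs (IsAffine (Xl.affineCover.X _))
    exact isAffineOpen_opensRange _
  have hcov : ⨆ a, U a = ⊤ := 𝒰.iSup_opensRange
  obtain ⟨eH⟩ : Nonempty (H1 (X := Xo) U ≃ₗ[k] Coh.HH Xl (Coh.structureModule Xl) 1) := H1_equiv (X := Xo) U hU hcov
  haveI : Module.Finite k (Coh.HH Xl (Coh.structureModule Xl) 1) :=
    CurveCohLib.finite_HH QCoh.isCoh_structureModule' 1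
  haveI : Module.Finite k (H1 (X := Xo) U) := Module.Finite.equiv eH.symm
  exact (finrank_cotangent_aux (X := Xo) hL hcov (Module.finBasis k (H1 (X := Xo) U)) hU).trans eH.finrank_eq

end Groth.Agent.PicTangent.Classifier
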