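import Groth.Agent.S14629
import Groth.Agent.PicClLib.Basic
import Groth.Agent.QCoh.CechStd
import Groth.Agent.PPSheaf.Gr
import Groth.Agent.InvX.Frame

/-!
# Frames on affine opens of square zero thickenings
-/

set_option autoImplicit false
set_option linter.style.haveILetI false
set_option backward.isDefEq.respectTransparency false
set_option backward.isDefEq.respectTransparency.types false

universe u

open CategoryTheory CategoryTheory.Limits AlgebraicGeometry TopologicalSpace Opposite

noncomputable section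

namespace Groth.Agent.PicTangent

open Groth.Agent Groth.Agent.AModX Groth.Agent.InvX

/-- An isomorphism with the structure sheaf on an open gives a frame. -/
theorem exists_frame_of_iso {X : Scheme.{u}} {L : X.Modules} {U : X.Opens}
    (φ : L.restrict U.ι ≅ Coh.structureModule U.toScheme) : ∃ e : Γ(L, U), IsFrame e := by
  let e' : Γ(L.restrict U.ι, ⊤) := φ.inv.app ⊤ (1 : Γ(U.toScheme, ⊤))
  refine ⟨res L (le_of_eq U.ι_image_top.symm) (show Γ(L, U.ι ''ᵁ ⊤) from e'), fun V hV => ?_⟩
  obtain ⟨V', rfl⟩ : ∃ V', U.ι ''ᵁ V' = V := ⟨U.ι ⁻¹ᵁ V, by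
    rw [Scheme.Hom.image_preimage_eq_opensRange_inf, Scheme.Opens.opensRange_ι]
    exact inf_eq_right.mpr hV⟩
  have hb : Function.Bijective (φ.inv.app V') :=
    (ConcreteCategory.isIso_iff_bijective _).1 (Scheme.Modules.Hom.isIso_iff_isIso_app.1 inferInstance V')
  have key : ∀ r : Γ(X, U.ι ''ᵁ V'), (show Γ(L.restrict U.ι, V') from
      r • res L (hV : U.ι ''ᵁ V' ≤ U) (res L (le_of_eq U.ι_image_top.symm)
        (show Γ(L, U.ι ''ᵁ ⊤) from e'))) = φ.inv.app V' ((U.ι.appIso V').hom r) := by
    intro r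
    have h1 : φ.inv.app V' (1 : Γ(U.toScheme, V')) = res (L.restrict U.ι) le_top e' := by
      rw [← app_res]
      exact congrArg (φ.inv.app V') (map_one (resR (le_top : V' ≤ ⊤))).symm
    conv_rhs => rw [show (U.ι.appIso V').hom r = (U.ι.appIso V').hom r • (1 : Γ(U.toScheme, V')) from
      (mul_one _).symm]
    erw [Scheme.Modules.Hom.app_smul, h1]
    rw [res_res]
    show r • res L (U.ι.image_mono (le_top : V' ≤ ⊤)) (show Γ(L, U.ι ''ᵁ ⊤) from e') =
      (U.ι.appIso V').inv.hom ((U.ι.appIso V').hom r) •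
      res L (U.ι.image_mono (le_top : V' ≤ ⊤)) (show Γ(L, U.ι ''ᵁ ⊤) from e')
    rw [Iso.hom_inv_id_apply]
  exact (congrArg Function.Bijective (funext key)).mpr
    (hb.comp ((ConcreteCategory.isIso_iff_bijective (U.ι.appIso V').hom).1 inferInstance))

theorem pullCl_structure {X Y : Scheme.{u}} (f : X ⟶ Y) :
    PicF.pullCl f (PicF.cl (Coh.structureModule Y)) = PicF.cl (Coh.structureModule X) :=
  Quot.sound (PicClLib.nonempty_pullback_structureModule f)

/-- An invertible module trivial on a square zero closed subscheme has frames on affine opens. -/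
theorem exists_frame_thick {Y Y' : Scheme.{u}} (i : Y' ⟶ Y) [IsClosedImmersion i] {W : Y.Opens}
    (hW : IsAffineOpen W) (hsq : ∀ f g : Γ(Y, W), i.app W f = 0 → i.app W g = 0 → f * g = 0)
    {L : Y.Modules} (hL : PicF.IsInvertible L)
    (h : PicF.pullCl i (PicF.cl L) = PicF.cl (Coh.structureModule Y')) : ∃ e : Γ(L, W), IsFrame e := by
  haveI : IsAffine W.toScheme := hW
  let j := i ∣_ W
  haveI : IsClosedImmersion j := IsZariskiLocalAtTarget.restrict ‹_› W
  have happ : ∀ f : Γ(W.toScheme, ⊤), j.app ⊤ f = 0 → i.app W (Y.presheaf.map (eqToHom W.ι_image_top.symm).op f) = 0 := by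
    intro f hf
    rw [morphismRestrict_app] at hf
    have h0 : i.app (W.ι ''ᵁ ⊤) f = 0 :=
      (ConcreteCategory.bijective_of_isIso
        (Y'.presheaf.map (eqToHom (image_morphismRestrict_preimage i W ⊤)).op)).1 (hf.trans (map_zero _).symm)
    exact (ConcreteCategory.congr_hom (i.naturality (eqToHom W.ι_image_top.symm).op) f).trans
      ((congrArg (Y'.presheaf.map _) h0).trans (map_zero _))
  have hI : j.ker * j.ker = ⊥ := by
    apply Scheme.IdealSheafData.ext_of_isAffine
    rw [Scheme.IdealSheafData.ideal_mul, Scheme.IdealSheafData.ideal_bot, Pi.bot_apply, eq_bot_iff]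
    refine Ideal.mul_le.2 fun f hf g hg => ?_
    rw [Scheme.Hom.ker_apply, RingHom.mem_ker] at hf hg
    refine (Submodule.mem_bot _).2 ((ConcreteCategory.bijective_of_isIso
      (Y.presheaf.map (eqToHom W.ι_image_top.symm).op)).1 (((map_mul _ f g).trans ?_).trans (map_zero _).symm))
    exact hsq _ _ (happ f hf) (happ g hg)
  haveI := QCoh.subsingleton_HH_of_isAffine (PPSheaf.isQCoh_idealMod j.ker) 0
  have hc : PicF.pullCl W.ι (PicF.cl L) = PicF.cl (Coh.structureModule W.toScheme) := by
    refine S14629.result _ j.ker hI (QCoh.subsingleton_HH_of_isAffine (PPSheaf.isQCoh_idealMod j.ker) 0) _ _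
      (PicLoc.isInvertibleCl_pullCl _ ⟨L, rfl, hL⟩) ⟨_, rfl, PicLoc.isInvertible_structureModule _⟩ ?_
    haveI : IsIso j.toImage := inferInstance
    have e : j.ker.subschemeι = inv j.toImage ≫ j := by
      rw [IsIso.eq_inv_comp]
      exact j.toImage_imageι
    rw [e]
    refine (PicClLib.pullCl_comp _ _ _).symm.trans ((congrArg _ ?_).trans (PicClLib.pullCl_comp _ _ _))
    rw [PicClLib.pullCl_comp, morphismRestrict_ι, ← PicClLib.pullCl_comp, h, pullCl_structure, pullCl_structure]
  obtain ⟨φ⟩ := (PicGrp.cl_eq_cl_iff _ _).1 hc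
  exact exists_frame_of_iso ((Scheme.Modules.restrictFunctorIsoPullback W.ι).app L ≪≫ φ)

end Groth.Agent.PicTangent
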