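import Groth.Agent.PicTangent.Cech
import Groth.Agent.PicTangent.Thick
import Groth.Agent.GrLib8.PicH1.Pull
import Groth.Agent.GrLib8.PicH1.Core

/-!
# Invertible modules attached to cocycles of functions on square zero thickenings
-/

set_option autoImplicit false
set_option linter.style.haveILetI false
set_option linter.unusedSectionVars false
set_option maxHeartbeats 1000000
set_option backward.isDefEq.respectTransparency false
set_option backward.isDefEq.respectTransparency.types false

universe u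

open CategoryTheory CategoryTheory.Limits AlgebraicGeometry MonoidalCategory CartesianMonoidalCategory
  TopologicalSpace TensorProduct Opposite

noncomputable section

namespace Groth.Agent.PicTangent

open Groth.Agent Groth.Agent.AModX Groth.Agent.InvX Groth.Agent.H23 Groth.Agent.H23.ProdFun
open Groth.Agent.GrLib8

variable {k : Type u} [Field k] {X : Over (Spec (CommRingCat.of k))} {ι : Type u} (U : ι → X.left.Opens)
  {R R' : Type u} [CommRing R] [Algebra k R] [CommRing R'] [Algebra k R']

theorem le_pair (a b : ι) : P X R (U a) ⊓ P X R (U b) ≤ P X R (U a ⊓ U b) := fun _ hz => ⟨⟨hz.1.1, hz.2.1⟩, trivial⟩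

theorem le_triple (a b c : ι) {W : (X ⊗ T (k := k) R).left.Opens} (ha : W ≤ P X R (U a)) (hb : W ≤ P X R (U b))
    (hc : W ≤ P X R (U c)) : W ≤ P X R (U a ⊓ U b ⊓ U c) :=
  fun _ hz => ⟨⟨⟨(ha hz).1, (hb hz).1⟩, (hc hz).1⟩, trivial⟩

theorem resR_pair {a b : ι} {V : X.left.Opens} (hV : V ≤ U a ⊓ U b) {W : (X ⊗ T (k := k) R).left.Opens}
    (hW : W ≤ P X R V) (h : W ≤ P X R (U a ⊓ U b)) (z : Γ(X.left, U a ⊓ U b) ⊗[k] R) :
    resR h (Φ X R (U a ⊓ U b) z) = resR hW (Φ X R V (rT X R hV z)) := by
  rw [← resR_Φ X hV z, resR_resR]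

section Line

variable {m : Type} [Fintype m] (z : m → KunnethH1.C1 U) (hz : ∀ i, d1 U (z i) = 0)
  {r : m → R} (hr : ∀ i j, r i * r j = 0)

/-- The transition function. -/
def tf (a b : ι) : Γ(X.left, U a ⊓ U b) ⊗[k] R := el (fun i => z i (a, b)) r

include hz hr in
theorem tf_trans (a b c : ι) :
    rT X R (le₀₂ U a b c) (tf U z (r := r) a c) =
      rT X R (le₁₂ U a b c) (tf U z (r := r) b c) * rT X R (le₀₁ U a b c) (tf U z (r := r) a b) := by
  simp only [tf, map_el, AlgHom.coe_id, id_eq]
  rw [el_mul hr]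
  congr 1
  funext i
  have := congrFun (hz i) (a, b, c)
  rw [d1_apply, Pi.zero_apply] at this
  simp only [Pi.add_apply]
  linear_combination (norm := abel) -this

/-- The cocycle of units. -/
def cocycle : H23.CocycleMod.Cocycle fun a => P X R (U a) where
  g a b := Units.map (resR (le_pair U a b)).toMonoidHom
    (Units.map (Φ X R (U a ⊓ U b)).toRingHom.toMonoidHom (elU hr fun i => z i (a, b)))
  trans a b c W ha hb hc := by
    show resR _ (resR (le_pair U a c) (Φ X R _ (tf U z (r := r) a c))) =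
      resR _ (resR (le_pair U b c) (Φ X R _ (tf U z (r := r) b c))) *
        resR _ (resR (le_pair U a b) (Φ X R _ (tf U z (r := r) a b)))
    rw [resR_resR, resR_resR, resR_resR, resR_pair U (le₀₂ U a b c) (le_triple U a b c ha hb hc),
      resR_pair U (le₁₂ U a b c) (le_triple U a b c ha hb hc), resR_pair U (le₀₁ U a b c) (le_triple U a b c ha hb hc),
      ← map_mul, ← map_mul, tf_trans U z hz hr]

/-- The class of the invertible module of a cocycle. -/
def lcl : PicF.Cl (X ⊗ T (k := k) R).left := PicF.cl (H23.CocycleMod.mod (cocycle U z hz hr))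

variable (hcov : ⨆ a, U a = ⊤)

include hcov in
theorem iSup_P : ⨆ a, P X R (U a) = ⊤ := top_le_iff.1 fun y _ => by
  obtain ⟨a, ha⟩ := Opens.mem_iSup.1 (show (fst X (T (k := k) R)).left y ∈ iSup U by rw [hcov]; trivial)
  exact Opens.mem_iSup.2 ⟨a, ha, trivial⟩

include hcov in
theorem isInvertibleCl_lcl : PicF.IsInvertibleCl (lcl U z hz hr) :=
  ⟨_, rfl, H23.CocycleMod.isInvertible _ (iSup_P U hcov)⟩

include hcov in
/-- A module with frames changing by the cocycle has that class. -/
theorem cl_eq_lcl {M : (X ⊗ T (k := k) R).left.Modules} (e : ∀ a, Γ(M, P X R (U a))) (he : ∀ a, IsFrame (e a))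
    (hc : ∀ a b, res M inf_le_left (e a) =
      resR (le_pair U a b) (Φ X R _ (tf U z (r := r) a b)) • res M inf_le_right (e b)) :
    PicF.cl M = lcl U z hz hr := by
  let t := cocycle U z hz hr
  refine (PicGrp.cl_eq_cl_iff _ _).2 (PicH1.iso_of_transitions (fun a => P X R (U a))
    (fun y => Opens.mem_iSup.1 (show y ∈ ⨆ a, P X R (U a) by rw [iSup_P U hcov]; trivial))
    e (fun a => H23.CocycleMod.frame t a) he (fun a => H23.CocycleMod.isFrame_frame t a) ?_)
  intro a b W ha hb g hg
  have h1 := congrArg (res M (le_inf ha hb)) (hc a b)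
  rw [res_smul, res_res, res_res] at h1
  have h2 := congrArg (res (H23.CocycleMod.mod t) (le_inf ha hb)) (H23.CocycleMod.res_frame t a b)
  rw [res_smul, res_res, res_res] at h2
  let u : Γ((X ⊗ T (k := k) R).left, W) := resR (le_inf ha hb) (resR (le_pair U a b) (Φ X R _ (tf U z (r := r) a b)))
  have hgu : g * u = 1 := (he b).coord_unique hb (by
    rw [one_smul, mul_smul]
    exact (congrArg (g • ·) h1).symm.trans hg.symm)
  refine (one_smul Γ((X ⊗ T (k := k) R).left, W) _).symm.trans ?_
  rw [← hgu, mul_smul]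
  exact congrArg (g • ·) h2.symm

include hcov in
/-- Pullback of the class of a cocycle. -/
theorem pullCl_lcl (φ : R →ₐ[k] R') :
    PicF.pullCl (Q X φ).left (lcl U z hz hr) =
      lcl U z hz (r := fun i => φ (r i)) (fun i j => by rw [← map_mul, hr, map_zero]) := by
  let t := cocycle U z hz hr
  let q := (Q X φ).left
  refine cl_eq_lcl U z hz _ hcov (M := (Scheme.Modules.pullback q).obj (H23.CocycleMod.mod t))
    (fun a => res _ (P_preimage X φ (U a)).ge (pullElt q (H23.CocycleMod.frame t a)))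
    (fun a => (isFrame_pullElt q (H23.CocycleMod.isFrame_frame t a)).res _) fun a b => ?_
  have h : P X R' (U a) ⊓ P X R' (U b) ≤ q ⁻¹ᵁ (P X R (U a) ⊓ P X R (U b)) := fun y hy =>
    ⟨(P_preimage X φ (U a)).ge hy.1, (P_preimage X φ (U b)).ge hy.2⟩
  have h1 := congrArg (fun e => res ((Scheme.Modules.pullback q).obj (H23.CocycleMod.mod t)) h (pullElt q e))
    (H23.CocycleMod.res_frame t a b)
  simp only [PicH1.pullElt_smul, PicH1.pullElt_res, res_res, res_smul] at h1
  rw [res_res, res_res]
  refine h1.trans ?_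
  congr 1
  show resR h (q.app _ (resR (le_pair U a b) (Φ X R _ (tf U z (r := r) a b)))) = _
  have e2 : ∀ (V : X.left.Opens) (x : Γ(X.left, V) ⊗[k] R) (W : (X ⊗ T (k := k) R).left.Opens) (hW : W ≤ P X R V)
      (W' : (X ⊗ T (k := k) R').left.Opens) (h' : W' ≤ q ⁻¹ᵁ W) (hW' : W' ≤ P X R' V),
      resR h' (q.app W (resR hW (Φ X R V x))) =
        resR hW' (Φ X R' V (Algebra.TensorProduct.map (AlgHom.id k _) φ x)) := by
    intro V x W hW W' h' hW'
    rw [← pullFun_Φ X φ V (P_preimage X φ V).ge, KunnethH1.resR_pullFun,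
      ← KunnethH1.pullFun_resR (Q X φ) hW h']
    rfl
  rw [e2 _ _ _ _ _ h (le_pair U a b), tf, map_el]
  rfl

include hcov in
/-- The cocycle with vanishing parameters gives the trivial class. -/
theorem lcl_zero (h0 : ∀ i, r i = 0) : lcl U z hz hr = PicF.cl (Coh.structureModule _) := by
  refine (cl_eq_lcl U z hz hr hcov (M := Coh.structureModule _)
    (fun a => res (Coh.structureModule (X ⊗ T (k := k) R).left) (le_top : P X R (U a) ≤ ⊤)
      (1 : Γ((X ⊗ T (k := k) R).left, ⊤))) (fun a => PicH1.isFrame_one.res _) fun a b => ?_).symm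
  have : tf U z (r := r) a b = 1 := by simp [tf, el, h0]
  rw [this, map_one (Φ X R (U a ⊓ U b)), map_one (resR (le_pair U a b)), one_smul, res_res, res_res]

end Line

section Frames

variable {Y : Scheme.{u}}

/-- The global frame of a trivialisation. -/
theorem exists_global_frame {M : Y.Modules} (φ : M ≅ Coh.structureModule Y) : ∃ G : Γ(M, ⊤), IsFrame G := by
  refine ⟨φ.inv.app ⊤ (1 : Γ(Y, ⊤)), fun W h => ?_⟩
  have hb : Function.Bijective (φ.inv.app W) :=
    (ConcreteCategory.isIso_iff_bijective _).1 (Scheme.Modules.Hom.isIso_iff_isIso_app.1 inferInstance W)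
  have e' : (fun r : Γ(Y, W) => r • res M h (φ.inv.app ⊤ (1 : Γ(Y, ⊤)))) =
      φ.inv.app W ∘ fun r : Γ(Y, W) => r • res (Coh.structureModule Y) h (1 : Γ(Y, ⊤)) := funext fun r => by
    rw [Function.comp_apply, Scheme.Modules.Hom.app_smul, app_res]
  exact (congrArg Function.Bijective e').mpr (hb.comp (PicH1.isFrame_one W h))

end Frames

section Field

variable [IsSeparated X.hom] (hU : ∀ a, IsAffineOpen (U a))
  {K : Type u} [Field K] [Algebra k K] {n : ℕ} (b : Module.Basis (Fin n) k (H1 U))

theorem isSeparated_left (X : Over (Spec (CommRingCat.of k))) [IsSeparated X.hom] : X.left.IsSeparated :=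
  ⟨by rw [← Limits.terminal.comp_from X.hom]; infer_instance⟩

include hU in
theorem isCompact_pair (a c : ι) : IsCompact ((U a ⊓ U c : X.left.Opens) : Set X.left) :=
  haveI := isSeparated_left X
  ((hU a).inf (hU c)).isCompact

include hU in
theorem isCompact_triple (a c d : ι) : IsCompact ((U a ⊓ U c ⊓ U d : X.left.Opens) : Set X.left) :=
  haveI := isSeparated_left X
  (((hU a).inf (hU c)).inf (hU d)).isCompact

theorem eK_el (t : Fin n → K) (z : Fin n → KunnethH1.C1 U) (a c : ι) :
    fA K Γ(X.left, U a ⊓ U c) (tf U z (r := fun i => eK (k := k) K (t i)) a c) = 1 ∧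
      (sK K).lTensor _ (tf U z (r := fun i => eK (k := k) K (t i)) a c) = ∑ i, z i (a, c) ⊗ₜ[k] t i := by
  constructor
  · rw [tf, map_el]; simp [el]
  · simp only [tf, el, map_add, map_sum, LinearMap.lTensor_tmul]
    simp [Algebra.TensorProduct.one_def]

theorem fA_rT {A : X.left.Opens} {B : X.left.Opens} (h : B ≤ A) (x : Γ(X.left, A) ⊗[k] DualNumber K) :
    fA K _ (rT X (DualNumber K) h x) = rT X K h (fA K _ x) := by
  induction x using TensorProduct.induction_on with
  | zero => simp
  | add x y hx hy => simp [map_add, hx, hy]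
  | tmul a r => simp

theorem lT_rT {A : X.left.Opens} {B : X.left.Opens} (h : B ≤ A) {S S' : Type u} [CommRing S] [Algebra k S]
    [CommRing S'] [Algebra k S'] (g : S →ₗ[k] S') (x : Γ(X.left, A) ⊗[k] S) :
    g.lTensor _ (rT X S h x) = rT X S' h (g.lTensor _ x) := by
  induction x using TensorProduct.induction_on with
  | zero => simp
  | add x y hx hy => simp [map_add, hx, hy]
  | tmul a r => simp

theorem dual_ext {A : Type u} [CommRing A] [Algebra k A] {x y : A ⊗[k] DualNumber K} (h1 : fA K A x = fA K A y)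
    (h2 : (sK K).lTensor A x = (sK K).lTensor A y) : x = y := by
  rw [decomp x, decomp y, h1, h2]

include hU in
/-- A combination of representatives giving the trivial class vanishes. -/
theorem eq_zero_of_lcl_trivial (_hcov : ⨆ a, U a = ⊤) (t : Fin n → k)
    (h : lcl U (rep U b) (rep_cocycle U b) (eps_mul_eps (k := k) fun i => algebraMap k K (t i)) =
      PicF.cl (Coh.structureModule (X ⊗ T (k := k) (DualNumber K)).left)) : t = 0 := by
  classical
  let D := DualNumber K
  let L := H23.CocycleMod.mod (cocycle U (rep U b) (rep_cocycle U b) (eps_mul_eps (k := k) fun i => algebraMap k K (t i)))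
  obtain ⟨φ⟩ := (PicGrp.cl_eq_cl_iff _ _).1 h
  obtain ⟨G, hG⟩ := exists_global_frame φ
  let f := fun a => H23.CocycleMod.frame (cocycle U (rep U b) (rep_cocycle U b) (eps_mul_eps (k := k) fun i => algebraMap k K (t i))) a
  choose w hw using fun a => PicH1.exists_unit (hG.res (le_top : P X D (U a) ≤ ⊤))
    (H23.CocycleMod.isFrame_frame (cocycle U (rep U b) (rep_cocycle U b) (eps_mul_eps (k := k) fun i => algebraMap k K (t i))) a)
  choose ω hω using fun a => (Φ_bijective X (R := D) (U a) (hU a).isCompact).2 (w a : Γ((X ⊗ T (k := k) D).left, _))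
  have hinv : ∀ a, ∃ v : Γ(X.left, U a) ⊗[k] K, v * fA K _ (ω a) = 1 := fun a => by
    obtain ⟨ω', hω'⟩ := (Φ_bijective X (R := D) (U a) (hU a).isCompact).2 ((w a)⁻¹ : Γ((X ⊗ T (k := k) D).left, _)ˣ).val
    refine ⟨fA K _ ω', ?_⟩
    rw [← map_mul, ← map_one (fA K Γ(X.left, U a))]
    refine congrArg _ ((Φ_bijective X (R := D) (U a) (hU a).isCompact).1 ?_)
    rw [map_mul, map_one, hω, hω', Units.inv_mul]
  choose v hv using hinv
  have heq : ∀ a c, rT X D (inf_le_left : U a ⊓ U c ≤ U a) (ω a) =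
      tf U (rep U b) (r := fun i => eK (k := k) K (algebraMap k K (t i))) a c *
        rT X D (inf_le_right : U a ⊓ U c ≤ U c) (ω c) := by
    intro a c
    apply (Φ_bijective X (R := D) _ (isCompact_pair U hU a c)).1
    have hW : P X D (U a ⊓ U c) ≤ P X D (U a) ⊓ P X D (U c) := fun y hy => ⟨⟨hy.1.1, hy.2⟩, ⟨hy.1.2, hy.2⟩⟩
    have h1 := congrArg (res L hW) (H23.CocycleMod.res_frame
      (cocycle U (rep U b) (rep_cocycle U b) (eps_mul_eps (k := k) fun i => algebraMap k K (t i))) a c)
    rw [res_smul, res_res, res_res, hw a, hw c, res_smul, res_smul, res_res, res_res, ← mul_smul] at h1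
    have h2 := hG.coord_unique le_top h1
    rw [map_mul, ← resR_Φ, ← resR_Φ, hω, hω]
    refine h2.trans ?_
    show resR hW (resR (le_pair U a c) _) * _ = _
    rw [resR_resR, resR_self]
    rfl
  have hfA : ∀ a c, rT X K (inf_le_left : U a ⊓ U c ≤ U a) (fA K _ (ω a)) =
      rT X K (inf_le_right : U a ⊓ U c ≤ U c) (fA K _ (ω c)) := fun a c => by
    rw [← fA_rT, ← fA_rT, heq, map_mul, (eK_el U _ _ a c).1, one_mul]
  have hvv : ∀ a c, rT X K (inf_le_left : U a ⊓ U c ≤ U a) (v a) = rT X K (inf_le_right : U a ⊓ U c ≤ U c) (v c) := by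
    intro a c
    have e1 := congrArg (rT X K (inf_le_left : U a ⊓ U c ≤ U a)) (hv a)
    have e2 := congrArg (rT X K (inf_le_right : U a ⊓ U c ≤ U c)) (hv c)
    simp only [map_mul, map_one] at e1 e2
    rw [hfA a c] at e1
    refine left_inv_eq_right_inv e1 ?_
    rwa [mul_comm]
  have hsum : ∀ a c, (∑ i, t i • rep U b i (a, c)) ⊗ₜ[k] (1 : K) =
      rT X K (inf_le_left : U a ⊓ U c ≤ U a) (v a * (sK K).lTensor _ (ω a)) -
        rT X K (inf_le_right : U a ⊓ U c ≤ U c) (v c * (sK K).lTensor _ (ω c)) := by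
    intro a c
    have e1 := congrArg ((sK K).lTensor _) (heq a c)
    rw [snd_mul, (eK_el U _ _ a c).1, (eK_el U _ _ a c).2, one_mul, lT_rT, lT_rT, fA_rT] at e1
    have e2 := congrArg (rT X K (inf_le_right : U a ⊓ U c ≤ U c)) (hv c)
    rw [map_mul, map_one] at e2
    have hs' : (∑ i, t i • rep U b i (a, c)) ⊗ₜ[k] (1 : K) = ∑ i, rep U b i (a, c) ⊗ₜ[k] algebraMap k K (t i) := by
      rw [TensorProduct.sum_tmul]
      exact Finset.sum_congr rfl fun i _ => by rw [TensorProduct.smul_tmul, Algebra.algebraMap_eq_smul_one]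
    rw [map_mul, map_mul, hvv a c, e1]
    linear_combination hs' - (∑ i, rep U b i (a, c) ⊗ₜ[k] algebraMap k K (t i)) * e2
  obtain ⟨lam, hlam⟩ : ∃ lam : K →ₗ[k] k, lam 1 = 1 :=
    let ⟨g, hg⟩ := (Algebra.linearMap k K).exists_leftInverse_of_injective
      (LinearMap.ker_eq_bot.2 (algebraMap k K).injective)
    ⟨g, by simpa using LinearMap.congr_fun hg 1⟩
  let h' : ∀ a, Γ(X.left, U a) := fun a =>
    -(TensorProduct.rid k _ (lam.lTensor _ (v a * (sK K).lTensor _ (ω a))))
  refine eq_zero_of_bound U b t h' (funext fun ⟨a, c⟩ => ?_)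
  have key : ∀ {A B : X.left.Opens} (h : B ≤ A) (x : Γ(X.left, A) ⊗[k] K),
      TensorProduct.rid k _ (lam.lTensor _ (rT X K h x)) = rX h (TensorProduct.rid k _ (lam.lTensor _ x)) := by
    intro A B h x
    induction x using TensorProduct.induction_on with
    | zero => simp
    | add x y hx hy => simp [map_add, hx, hy]
    | tmul a r => simp [map_smul]
  have e := congrArg (fun x => TensorProduct.rid k _ (lam.lTensor _ x)) (hsum a c)
  simp only [map_sub, key, LinearMap.lTensor_tmul, hlam, TensorProduct.rid_tmul, one_smul] at e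
  rw [Finset.sum_apply, delta_apply]
  simp only [Pi.smul_apply, e, h', map_neg]
  abel

theorem isClosedImmersion_Q : IsClosedImmersion (Q X (fK (k := k) K)).left := by
  haveI : IsClosedImmersion (Tmap (fK (k := k) K)).left :=
    IsClosedImmersion.spec_of_surjective _ fun x => ⟨TrivSqZeroExt.inl x, TrivSqZeroExt.fst_inl K x⟩
  have h : IsPullback (Q X (fK (k := k) K)).left (snd X (T (k := k) K)).left (snd X (T (k := k) (DualNumber K))).left
      (Tmap (fK (k := k) K)).left := by
    refine IsPullback.of_right ?_ ?_ (IsPullback.of_hasPullback X.hom (T (k := k) (DualNumber K)).hom)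
    · have e1 : (Q X (fK (k := k) K)).left ≫ pullback.fst X.hom (T (k := k) (DualNumber K)).hom =
          pullback.fst X.hom (T (k := k) K).hom := by
        rw [← Over.fst_left, ← Over.comp_left, tensorHom_fst, Category.comp_id]
        rfl
      rw [e1, Over.w]
      exact IsPullback.of_hasPullback X.hom (T (k := k) K).hom
    · rw [← Over.comp_left, ← Over.comp_left, tensorHom_snd]
  exact MorphismProperty.of_isPullback h.flip inferInstance

include hU in
/-- An invertible class trivial modulo `ε` is the class of a combination of representatives. -/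
theorem exists_lcl_eq [Finite ι] (hcov : ⨆ a, U a = ⊤) (c : PicF.Cl (X ⊗ T (k := k) (DualNumber K)).left)
    (hc : PicF.IsInvertibleCl c)
    (h : PicF.pullCl (Q X (fK (k := k) K)).left c = PicF.cl (Coh.structureModule (X ⊗ T (k := k) K).left)) :
    ∃ t : Fin n → K, c = lcl U (rep U b) (rep_cocycle U b) (eps_mul_eps (k := k) t) := by
  classical
  obtain ⟨L, rfl, hL⟩ := hc
  let D := DualNumber K
  let q := (Q X (fK (k := k) K)).left
  haveI : IsClosedImmersion q := isClosedImmersion_Q
  haveI : IsAffineHom (fst X (T (k := k) D)).left := by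
    haveI : IsAffineHom (T (k := k) D).hom := inferInstanceAs (IsAffineHom (Spec.map _))
    exact MorphismProperty.pullback_fst (P := @IsAffineHom) X.hom (T (k := k) D).hom ‹_›
  have hP : ∀ a, IsAffineOpen (P X D (U a)) := fun a => by
    rw [show P X D (U a) = (fst X (T (k := k) D)).left ⁻¹ᵁ U a from inf_eq_left.2 fun _ _ => trivial]
    exact (hU a).preimage _
  have hsq : ∀ a, ∀ f g : Γ((X ⊗ T (k := k) D).left, P X D (U a)),
      q.app _ f = 0 → q.app _ g = 0 → f * g = 0 := by
    intro a f g hf hg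
    obtain ⟨x, rfl⟩ := (Φ_bijective X (R := D) (U a) (hU a).isCompact).2 f
    obtain ⟨y, rfl⟩ := (Φ_bijective X (R := D) (U a) (hU a).isCompact).2 g
    have hx : ∀ x, q.app (P X D (U a)) (Φ X D (U a) x) = 0 → fA K _ x = 0 := fun x hx => by
      apply (Φ_bijective X (R := K) (U a) (hU a).isCompact).1
      rw [map_zero, ← pullFun_Φ X (fK K) (U a) (P_preimage X _ _).ge]
      show (X ⊗ T (k := k) K).left.presheaf.map _ (q.app _ _) = 0
      rw [hx, map_zero]
    rw [← map_mul, decomp x, decomp y, hx x hf, hx y hg, map_zero, zero_add, zero_add, eK_mul_eK, map_zero]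
  choose f hf using fun a => exists_frame_thick q (hP a) (hsq a) hL h
  obtain ⟨φ⟩ := (PicGrp.cl_eq_cl_iff _ _).1 h
  obtain ⟨G, hG⟩ := exists_global_frame φ
  choose w hw using fun a => PicH1.exists_unit (hG.res (le_top : P X K (U a) ≤ ⊤))
    ((isFrame_pullElt q (hf a)).res (P_preimage X (fK K) (U a)).ge)
  choose u hu using fun a => (Φ_bijective X (R := K) (U a) (hU a).isCompact).2 ((w a)⁻¹ : Γ((X ⊗ T (k := k) K).left, _)ˣ).val
  have huu : ∀ a, IsUnit (u a) := fun a => by
    obtain ⟨x, hx⟩ := (Φ_bijective X (R := K) (U a) (hU a).isCompact).2 (w a).val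
    exact IsUnit.of_mul_eq_one x ((Φ_bijective X (R := K) (U a) (hU a).isCompact).1 (by
      rw [map_mul, map_one, hu, hx, Units.inv_mul]))
  let e : ∀ a, Γ(L, P X D (U a)) := fun a =>
    Φ X D (U a) (Algebra.TensorProduct.map (AlgHom.id k _) (iK K) (u a)) • f a
  have he : ∀ a, IsFrame (e a) := fun a => (hf a).isUnit_smul (((huu a).map _).map _)
  have hfi : ∀ {A : X.left.Opens} (x : Γ(X.left, A) ⊗[k] K),
      fA K _ (Algebra.TensorProduct.map (AlgHom.id k _) (iK K) x) = x := fun x => by
    induction x using TensorProduct.induction_on with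
    | zero => simp
    | add x y hx hy => simp [map_add, hx, hy]
    | tmul a r => simp
  have hpull : ∀ (A : X.left.Opens) (x : Γ(X.left, A) ⊗[k] D) (W : (X ⊗ T (k := k) D).left.Opens) (hW : W ≤ P X D A)
      (W' : (X ⊗ T (k := k) K).left.Opens) (h' : W' ≤ q ⁻¹ᵁ W) (hW' : W' ≤ P X K A),
      resR h' (q.app W (resR hW (Φ X D A x))) = resR hW' (Φ X K A (fA K _ x)) := by
    intro A x W hW W' h' hW'
    rw [← pullFun_Φ X (fK K) A (P_preimage X _ _).ge, KunnethH1.resR_pullFun, ← KunnethH1.pullFun_resR (Q X (fK K)) hW h']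
    rfl
  have heG : ∀ a, res ((Scheme.Modules.pullback q).obj L) (P_preimage X (fK K) (U a)).ge (pullElt q (e a)) = res ((Scheme.Modules.pullback q).obj L) le_top G := by
    intro a
    show res ((Scheme.Modules.pullback q).obj L) _ (pullElt q (_ • f a)) = _
    rw [PicH1.pullElt_smul, res_smul]
    have h1 := hpull (U a) (Algebra.TensorProduct.map (AlgHom.id k _) (iK K) (u a)) _ le_rfl _
      (P_preimage X (fK K) (U a)).ge le_rfl
    simp only [resR_self, hfi, hu] at h1
    rw [h1, hw, ← mul_smul, Units.inv_mul, one_smul]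
  clear_value e
  have hν : ∀ a a', ∃ ν : Γ(X.left, U a ⊓ U a') ⊗[k] D, fA K _ ν = 1 ∧
      res L inf_le_left (e a) = resR (le_pair U a a') (Φ X D _ ν) • res L inf_le_right (e a') := by
    intro a a'
    obtain ⟨g, hg⟩ := (he a').exists_coord (inf_le_right : P X D (U a) ⊓ P X D (U a') ≤ _) (res L inf_le_left (e a))
    have hW : P X D (U a ⊓ U a') ≤ P X D (U a) ⊓ P X D (U a') := fun y hy => ⟨⟨hy.1.1, hy.2⟩, ⟨hy.1.2, hy.2⟩⟩
    obtain ⟨ν, hν⟩ := (Φ_bijective X (R := D) _ (isCompact_pair U hU a a')).2 (resR hW g)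
    have hg' : resR (le_pair U a a') (Φ X D _ ν) = g := by rw [hν, resR_resR, resR_self]
    refine ⟨ν, (Φ_bijective X (R := K) _ (isCompact_pair U hU a a')).1 ?_, by rw [hg']; exact hg⟩
    have h' : P X K (U a ⊓ U a') ≤ q ⁻¹ᵁ (P X D (U a) ⊓ P X D (U a')) := fun y hy =>
      hW ((P_preimage X (fK K) (U a ⊓ U a')).ge hy)
    have h1 := congrArg (fun x => res ((Scheme.Modules.pullback q).obj L) h' (pullElt q x)) hg
    simp only [PicH1.pullElt_smul, PicH1.pullElt_res, res_res, res_smul] at h1
    have ea : ∀ (b : ι) (hb : P X K (U a ⊓ U a') ≤ q ⁻¹ᵁ P X D (U b)),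
        res ((Scheme.Modules.pullback q).obj L) hb (pullElt q (e b)) = res ((Scheme.Modules.pullback q).obj L) le_top G := fun b hb => by
      have hb' : P X K (U a ⊓ U a') ≤ P X K (U b) := hb.trans (P_preimage X (fK K) (U b)).le
      have := congrArg (res ((Scheme.Modules.pullback q).obj L) hb') (heG b)
      rwa [res_res, res_res] at this
    rw [ea a, ea a'] at h1
    have h2 := hG.coord_unique le_top ((one_smul _ _).trans h1)
    rw [map_one, h2, ← hg', hpull _ _ _ _ _ h' le_rfl, resR_self]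
  choose ν hν1 hν2 using hν
  let y : ∀ p : ι × ι, Γ(X.left, U p.1 ⊓ U p.2) ⊗[k] K := fun p => (sK K).lTensor _ (ν p.1 p.2)
  have hy : ∀ a a' d, rT X K (le₁₂ U a a' d) (y (a', d)) - rT X K (le₀₂ U a a' d) (y (a, d)) +
      rT X K (le₀₁ U a a' d) (y (a, a')) = 0 := by
    intro a a' d
    have hmul : rT X D (le₀₂ U a a' d) (ν a d) = rT X D (le₀₁ U a a' d) (ν a a') * rT X D (le₁₂ U a a' d) (ν a' d) := by
      apply (Φ_bijective X (R := D) _ (isCompact_triple U hU a a' d)).1
      rw [map_mul, ← resR_Φ, ← resR_Φ, ← resR_Φ]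
      let W := P X D (U a ⊓ U a' ⊓ U d)
      have ha : W ≤ P X D (U a) := P_mono X (inf_le_left.trans inf_le_left)
      have ha' : W ≤ P X D (U a') := P_mono X (inf_le_left.trans inf_le_right)
      have hd : W ≤ P X D (U d) := P_mono X inf_le_right
      have h1 := congrArg (res L (le_inf ha hd)) (hν2 a d)
      have h2 := congrArg (res L (le_inf ha ha')) (hν2 a a')
      have h3 := congrArg (res L (le_inf ha' hd)) (hν2 a' d)
      rw [res_smul, res_res, res_res, resR_resR] at h1 h2 h3
      rw [h3, ← mul_smul] at h2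
      exact (he d).coord_unique hd (h1.symm.trans h2)
    have h4 := congrArg ((sK K).lTensor _) hmul
    rw [snd_mul, fA_rT, fA_rT, hν1, hν1, map_one, map_one, one_mul, mul_one, lT_rT, lT_rT, lT_rT] at h4
    show _ - rT X K (le₀₂ U a a' d) ((sK K).lTensor _ (ν a d)) + _ = 0
    rw [h4]
    abel
  obtain ⟨t, s, hts⟩ := exists_decomp U b K y hy
  refine ⟨t, cl_eq_lcl U (rep U b) (rep_cocycle U b) (eps_mul_eps (k := k) t) hcov
    (fun a => Φ X D (U a) (1 + (eK K).lTensor _ (s a)) • e a)
    (fun a => (he a).isUnit_smul ((isUnit_of_fA _ (by simp [fA_eK])).map _)) fun a a' => ?_⟩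
  rw [res_smul, res_smul, hν2 a a', ← mul_smul, ← mul_smul]
  congr 1
  have hW : P X D (U a ⊓ U a') ≤ P X D (U a) ⊓ P X D (U a') := fun y hy => ⟨⟨hy.1.1, hy.2⟩, ⟨hy.1.2, hy.2⟩⟩
  have key : rT X D inf_le_left (1 + (eK K).lTensor _ (s a)) * ν a a' =
      tf U (rep U b) (r := fun i => eK (k := k) K (t i)) a a' * rT X D inf_le_right (1 + (eK K).lTensor _ (s a')) := by
    refine dual_ext ?_ ?_
    · rw [map_mul, map_mul, fA_rT, fA_rT, hν1, (eK_el U t _ a a').1, map_add (fA K _), map_add (fA K _),
        map_one (fA K _), map_one (fA K _), fA_eK, fA_eK, add_zero, add_zero, map_one, map_one]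
    · have hone : ∀ A : X.left.Opens, (sK (k := k) K).lTensor Γ(X.left, A) 1 = 0 := fun A => by
        simp [Algebra.TensorProduct.one_def]
      rw [snd_mul, snd_mul, fA_rT, fA_rT, hν1, (eK_el U t _ a a').1, (eK_el U t _ a a').2, lT_rT, lT_rT,
        map_add (fA K _), map_add (fA K _), map_one (fA K _), map_one (fA K _), fA_eK, fA_eK, add_zero, add_zero,
        map_one, map_one]
      simp only [map_add, hone, sK_eK, map_zero, zero_add, one_mul, mul_one]
      show y (a, a') + rT X K _ (s a) = _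
      rw [hts a a']
      abel
  have h5 := congrArg (fun x => resR (le_pair U a a') (Φ X D _ x)) key
  simp only [map_mul, ← resR_Φ, resR_resR] at h5
  exact h5

end Field

end Groth.Agent.PicTangent
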