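import Groth.Agent.PicTangent.LiftDescent
import Groth.Agent.PicLift.Flat
import Groth.Prelude.Def_PicRel2

/-!
# Refinements of Artinian levels by points of etale coverings, and descent of lifts
-/

set_option autoImplicit false
set_option linter.style.haveILetI false
set_option backward.isDefEq.respectTransparency false
set_option backward.isDefEq.respectTransparency.types false
set_option maxHeartbeats 1000000

universe u

open CategoryTheory CategoryTheory.Limits AlgebraicGeometry TopologicalSpace Opposite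

noncomputable section

namespace Groth.Agent.PicTangent.EtaleRefine

theorem subsingleton_spec (A : Type u) [CommRing A] [IsArtinianRing A] [IsLocalRing A] :
    Subsingleton (PrimeSpectrum A) :=
  ⟨fun a b => PrimeSpectrum.ext ((IsLocalRing.eq_maximalIdeal (IsArtinianRing.isMaximal_of_isPrime a.asIdeal)).trans
    (IsLocalRing.eq_maximalIdeal (IsArtinianRing.isMaximal_of_isPrime b.asIdeal)).symm)⟩

/-- An Artinian local ring over `B'` with a retraction that is linear over `B'`. -/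
structure Lev (B' : Type u) [CommRing B'] where
  /-- the ring -/
  R : Type u
  [inst : CommRing R]
  [art : IsArtinianRing R]
  [loc : IsLocalRing R]
  /-- the structure map -/
  ι : B' →+* R
  /-- the retraction -/
  lam : R →+ B'
  hlam : ∀ y z, lam (ι y * z) = y * lam z
  hlam1 : lam 1 = 1

attribute [instance] Lev.inst Lev.art Lev.loc

variable {B' : Type u} [CommRing B']

/-- Composing with a further level. -/
def Lev.trans (L : Lev B') (M : Lev L.R) : Lev B' where
  R := M.R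
  ι := M.ι.comp L.ι
  lam := L.lam.comp M.lam
  hlam y z := by
    show L.lam (M.lam (M.ι (L.ι y) * z)) = _
    rw [M.hlam, L.hlam]
    rfl
  hlam1 := by
    show L.lam (M.lam 1) = 1
    rw [M.hlam1, L.hlam1]

/-- A level through which a point of an etale covering of a quotient factors. -/
theorem exists_refine {R B : Type u} [CommRing R] [IsArtinianRing R] [IsLocalRing R] [CommRing B] [Nontrivial B]
    (φ : R →+* B) (hφ : Function.Surjective φ) (a : R) (hker : RingHom.ker φ = Ideal.span {a}) {κ : Type u}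
    (U : κ → (Spec (CommRingCat.of B)).Etale) (hU : EtCoh.Covers U) :
    ∃ (M : Lev R) (β₁ : B →+* M.R ⧸ Ideal.span ({M.ι a} : Set M.R)) (i : κ)
      (j : Spec (CommRingCat.of (M.R ⧸ Ideal.span ({M.ι a} : Set M.R))) ⟶ (U i).left),
      (∀ y, β₁ (φ y) = Ideal.Quotient.mk _ (M.ι y)) ∧ j ≫ (U i).hom = Spec.map (CommRingCat.ofHom β₁) := by
  obtain ⟨p⟩ : Nonempty (PrimeSpectrum B) := inferInstance
  obtain ⟨i, y, -⟩ := hU p
  let h : (U i).left ⟶ Spec (CommRingCat.of B) := (U i).hom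
  haveI : Etale h := (U i).prop
  obtain ⟨W, hW, hyW, -⟩ := exists_isAffineOpen_mem_and_subset (U := (⊤ : (U i).left.Opens)) (x := y) trivial
  let g : CommRingCat.of B ⟶ Γ((U i).left, W) :=
    (Scheme.ΓSpecIso (CommRingCat.of B)).inv ≫ h.appLE ⊤ W le_top
  have hg : g.hom.Etale :=
    (RingHom.Etale.respectsIso.cancel_left_isIso _ _).2 (h.etale_appLE (isAffineOpen_top _) hW le_top)
  have hgW : Spec.map g = hW.fromSpec ≫ h := by
    rw [Spec.map_comp, ← IsAffineOpen.SpecMap_appLE_fromSpec h (isAffineOpen_top _) hW le_top,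
      IsAffineOpen.fromSpec_top, Scheme.isoSpec_Spec_inv]
  letI : Algebra B Γ((U i).left, W) := g.hom.toAlgebra
  haveI : Algebra.Etale B Γ((U i).left, W) := hg
  haveI : Nonempty W := ⟨⟨y, hyW⟩⟩
  obtain ⟨R₁, _, _, K₁, _, ι, res, lam, hlam, hlam1, hres, -, hnil, β₁, jW, hβ₁, hjW⟩ :=
    LiftDescent.exists_etale_point φ hφ a hker (W := Γ((U i).left, W))
  haveI : IsLocalRing R₁ := by
    refine IsLocalRing.of_unique_max_ideal ⟨RingHom.ker res, RingHom.ker_isMaximal_of_surjective res hres,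
      fun M hM => ?_⟩
    haveI : (RingHom.ker res).IsMaximal := RingHom.ker_isMaximal_of_surjective res hres
    refine ((‹(RingHom.ker res).IsMaximal›).eq_of_le hM.ne_top ?_).symm
    obtain ⟨N, hN⟩ := hnil
    intro z hz
    refine hM.isPrime.mem_of_pow_mem N ?_
    have := Ideal.pow_mem_pow hz N
    rw [hN, Ideal.zero_eq_bot, Ideal.mem_bot] at this
    rw [this]
    exact zero_mem _
  refine ⟨⟨R₁, ι, lam, hlam, hlam1⟩, β₁, i, Spec.map (CommRingCat.ofHom jW) ≫ hW.fromSpec, hβ₁, ?_⟩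
  show (_ ≫ _) ≫ h = _
  rw [Category.assoc, ← hgW, ← Spec.map_comp]
  congr 1
  exact CommRingCat.hom_ext hjW

/-- A level through which a point of an etale covering factors. -/
theorem exists_refine_full {R : Type u} [CommRing R] [IsArtinianRing R] [IsLocalRing R] {κ : Type u}
    (U : κ → (Spec (CommRingCat.of R)).Etale) (hU : EtCoh.Covers U) :
    ∃ (M : Lev R) (i : κ) (j : Spec (CommRingCat.of M.R) ⟶ (U i).left),
      j ≫ (U i).hom = Spec.map (CommRingCat.ofHom M.ι) := by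
  obtain ⟨M, β₁, i, j, hβ₁, hj⟩ := exists_refine (RingHom.id R) Function.surjective_id 0
    (by
      rw [Ideal.span_singleton_eq_bot.2 rfl, ← RingHom.injective_iff_ker_eq_bot]
      exact fun _ _ h => h) U hU
  let e : M.R ⧸ Ideal.span ({M.ι 0} : Set M.R) →+* M.R := Ideal.Quotient.lift _ (RingHom.id M.R) fun z hz => by
    rw [map_zero, Ideal.span_singleton_eq_bot.2 rfl, Ideal.mem_bot] at hz
    exact hz
  refine ⟨M, i, Spec.map (CommRingCat.ofHom e) ≫ j, ?_⟩
  rw [Category.assoc, hj, ← Spec.map_comp]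
  congr 1
  refine CommRingCat.hom_ext (RingHom.ext fun y => ?_)
  show e (β₁ (RingHom.id R y)) = M.ι y
  rw [hβ₁]
  exact Ideal.Quotient.lift_mk _ _ _

/-- A morphism from the spectrum of a local Artinian ring lands in an affine open containing the closed point. -/
theorem exists_factor {Y : Scheme.{u}} {R : Type u} [CommRing R] [IsArtinianRing R] [IsLocalRing R] {V : Y.Opens}
    (hV : IsAffineOpen V) (γ : Spec (CommRingCat.of R) ⟶ Y) (z : Spec (CommRingCat.of R)) (hz : γ z ∈ V) :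
    ∃ a : Γ(Y, V) ⟶ CommRingCat.of R, Spec.map a ≫ hV.fromSpec = γ := by
  haveI := subsingleton_spec R
  have hr : Set.range γ ⊆ Set.range hV.fromSpec := by
    rintro _ ⟨w, rfl⟩
    rw [hV.range_fromSpec, show w = z from Subsingleton.elim (α := PrimeSpectrum R) _ _]
    exact hz
  exact ⟨Spec.preimage (IsOpenImmersion.lift hV.fromSpec γ hr), by rw [Spec.map_preimage, IsOpenImmersion.lift_fac]⟩

/-- A lift over a level descends to a lift over the small extension. -/
theorem exists_descend {Y Z : Scheme.{u}} (h : Y ⟶ Z) {B : Type u} [CommRing B] [IsArtinianRing B] [IsLocalRing B]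
    [IsArtinianRing B'] [IsLocalRing B'] (φ : B' →+* B) (hφ : Function.Surjective φ) (ε : B')
    (hker : RingHom.ker φ = Ideal.span {ε}) (hεε : ε * ε = 0)
    (α : Spec (CommRingCat.of B) ⟶ Y) (β : Spec (CommRingCat.of B') ⟶ Z)
    (hcomm : Spec.map (CommRingCat.ofHom φ) ≫ β = α ≫ h)
    (L : Lev B') (β₁ : B →+* L.R ⧸ Ideal.span ({L.ι ε} : Set L.R))
    (hβ₁ : ∀ y, β₁ (φ y) = Ideal.Quotient.mk _ (L.ι y))
    (γ₁ : Spec (CommRingCat.of L.R) ⟶ Y) (hγh : γ₁ ≫ h = Spec.map (CommRingCat.ofHom L.ι) ≫ β)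
    (hγα : Spec.map (CommRingCat.ofHom (Ideal.Quotient.mk (Ideal.span ({L.ι ε} : Set L.R)))) ≫ γ₁ =
      Spec.map (CommRingCat.ofHom β₁) ≫ α) :
    ∃ γ : Spec (CommRingCat.of B') ⟶ Y, Spec.map (CommRingCat.ofHom φ) ≫ γ = α ∧ γ ≫ h = β := by
  let π : L.R →+* L.R ⧸ Ideal.span ({L.ι ε} : Set L.R) := Ideal.Quotient.mk _
  let c₀ : PrimeSpectrum B := IsLocalRing.closedPoint B
  obtain ⟨O, hO, hpO, -⟩ := exists_isAffineOpen_mem_and_subset (U := (⊤ : Z.Opens)) (x := h (α c₀)) trivial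
  obtain ⟨V, hV, hpV, hVO⟩ := exists_isAffineOpen_mem_and_subset (U := h ⁻¹ᵁ O) (x := α c₀) hpO
  haveI := subsingleton_spec B
  haveI := subsingleton_spec L.R
  obtain ⟨a₀, ha₀⟩ := exists_factor hV α c₀ hpV
  obtain ⟨b₀, hb₀⟩ := exists_factor hO β ((Spec.map (CommRingCat.ofHom φ)) c₀) (by
    show (Spec.map (CommRingCat.ofHom φ) ≫ β) c₀ ∈ O
    rw [hcomm]
    exact hpO)
  haveI : Nontrivial (L.R ⧸ Ideal.span ({L.ι ε} : Set L.R)) := by
    refine Ideal.Quotient.nontrivial_iff.2 fun htop => ?_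
    have hu : IsUnit (L.ι ε) := Ideal.span_singleton_eq_top.1 htop
    have h0 : L.ι ε * L.ι ε = 0 := by rw [← map_mul, hεε, map_zero]
    exact not_isUnit_zero (h0 ▸ hu.mul hu)
  obtain ⟨z₁⟩ : Nonempty (PrimeSpectrum (L.R ⧸ Ideal.span ({L.ι ε} : Set L.R))) := inferInstance
  obtain ⟨a₁, ha₁⟩ := exists_factor hV γ₁ ((Spec.map (CommRingCat.ofHom π)) z₁) (by
    show (Spec.map (CommRingCat.ofHom π) ≫ γ₁) z₁ ∈ V
    rw [hγα]
    show α ((Spec.map (CommRingCat.ofHom β₁)) z₁) ∈ V
    rw [show (Spec.map (CommRingCat.ofHom β₁)) z₁ = c₀ from Subsingleton.elim (α := PrimeSpectrum B) _ _]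
    exact hpV)
  let ρ := h.appLE O V hVO
  have hρ : hV.fromSpec ≫ h = Spec.map ρ ≫ hO.fromSpec :=
    (IsAffineOpen.SpecMap_appLE_fromSpec h hO hV hVO).symm
  have hcan : ∀ {R : CommRingCat.{u}} (a : Γ(Y, V) ⟶ R) (b : Γ(Z, O) ⟶ R),
      (Spec.map a ≫ hV.fromSpec) ≫ h = Spec.map b ≫ hO.fromSpec → ρ ≫ a = b := by
    intro R a b e
    rw [Category.assoc, hρ, ← Category.assoc, cancel_mono, ← Spec.map_comp] at e
    exact Spec.map_injective e
  have h0 : ρ ≫ a₀ = b₀ ≫ CommRingCat.ofHom φ := hcan _ _ (by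
    rw [ha₀, Spec.map_comp, Category.assoc, hb₀, hcomm])
  have h1 : ρ ≫ a₁ = b₀ ≫ CommRingCat.ofHom L.ι := hcan _ _ (by
    rw [ha₁, hγh, Spec.map_comp, Category.assoc, hb₀])
  have h2 : a₁ ≫ CommRingCat.ofHom π = a₀ ≫ CommRingCat.ofHom β₁ := by
    refine Spec.map_injective ((cancel_mono hV.fromSpec).1 ?_)
    rw [Spec.map_comp, Spec.map_comp, Category.assoc, Category.assoc, ha₁, ha₀, hγα]
  letI : Algebra Γ(Z, O) Γ(Y, V) := ρ.hom.toAlgebra
  obtain ⟨g', hgb, hgφ⟩ := LiftDescent.exists_lift_descent b₀.hom φ hφ ε hker hεε L.ι L.lam L.hlam L.hlam1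
    a₀.hom (congrArg CommRingCat.Hom.hom h0) a₁.hom (congrArg CommRingCat.Hom.hom h1)
    fun z y hy => by
      rw [← Ideal.Quotient.eq]
      refine Eq.trans congr($(h2).hom z) ?_
      show β₁ (a₀.hom z) = _
      rw [← hy, hβ₁]
  refine ⟨Spec.map (CommRingCat.ofHom g') ≫ hV.fromSpec, ?_, ?_⟩
  · rw [← Category.assoc, ← Spec.map_comp,
      show CommRingCat.ofHom g' ≫ CommRingCat.ofHom φ = a₀ from CommRingCat.hom_ext hgφ, ha₀]
  · rw [Category.assoc, hρ, ← Category.assoc, ← Spec.map_comp,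
      show ρ ≫ CommRingCat.ofHom g' = b₀ from CommRingCat.hom_ext hgb, hb₀]

end Groth.Agent.PicTangent.EtaleRefine
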