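import Groth.Agent.PicTangent.JacEmb

/-!
# Differences of sections of a relative curve
-/

set_option autoImplicit false
set_option linter.style.haveILetI false
set_option linter.unusedSectionVars false
set_option backward.isDefEq.respectTransparency false
set_option backward.isDefEq.respectTransparency.types false
set_option maxHeartbeats 1000000

universe u

open CategoryTheory CategoryTheory.Limits AlgebraicGeometry TopologicalSpace

noncomputable section

namespace Groth.Agent.PicTangent.JacDiff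

open Groth.Agent Groth.Agent.H23 Groth.Agent.H23.PicMul Groth.Agent.H26 Groth.Agent.Pic13Lib
open scoped Groth.Agent.H23.PicMul

attribute [local instance] PicMul.clMonoid

theorem inv_mul_cl {X : Scheme.{u}} {c d : PicF.Cl X} (hc : PicF.IsInvertibleCl c) (hd : PicF.IsInvertibleCl d) :
    PicF.IsInvertibleCl (c * d) := by
  obtain ⟨L, rfl, hL⟩ := hc
  obtain ⟨M, rfl, hM⟩ := hd
  exact ⟨_, PicMul.cl_tensor L M, PicMul.isInvertible_tensor hL hM⟩

variable {C S : Scheme.{u}} (f : C ⟶ S) [IsProper f] [SmoothOfRelativeDimension 1 f]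

theorem isEffCartier_sec (T : Over S) (a : T ⟶ Over.mk f) :
    BlowUp.IsEffCartierIdeal (HilbD.secGraph f T a.left (Over.w a)) := by
  haveI := RelCurveDiv.smooth_XTproj f T
  exact RelCurveDiv.isEffCartier_of_isDiv (PicF.XTproj f T) (RelCurveDiv.secGraph_deg f T _ _)

/-- The class of the ideal of a section. -/
def pt (T : Over S) (a : T ⟶ Over.mk f) : PicF.Cl (PicF.XT f T) :=
  PicF.cl (ClSub.idealMod (HilbD.secGraph f T a.left (Over.w a)))

theorem pt_invertible (T : Over S) (a : T ⟶ Over.mk f) : PicF.IsInvertibleCl (pt f T a) :=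
  ⟨_, rfl, IdealCl.isInvertible_idealMod (isEffCartier_sec f T a)⟩

theorem pull_pt {T T' : Over S} (g : T' ⟶ T) (a : T ⟶ Over.mk f) :
    PicF.pullCl (PicF.XTmap f g) (pt f T a) = pt f T' (g ≫ a) := by
  have h : (HilbD.secGraph f T a.left (Over.w a)).comap (PicF.XTmap f g) =
      HilbD.secGraph f T' (g ≫ a).left (Over.w (g ≫ a)) :=
    (HilbDLib.pull_eq_comap f g _).symm.trans (RelCurveDiv.pull_secGraph f g _ _ _ _ rfl)
  obtain ⟨e⟩ := InterDiv.nonempty_pullback_idealMod (PicF.XTmap f g) _ (isEffCartier_sec f T a)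
    (h ▸ isEffCartier_sec f T' (g ≫ a))
  rw [h] at e
  exact PicMul.cl_eq_iff.2 ⟨e⟩

/-- The inverse of the class of a section. -/
def ptInv (T : Over S) (a : T ⟶ Over.mk f) : PicF.Cl (PicF.XT f T) :=
  PicF.cl (PicInv.exists_inverse (IdealCl.isInvertible_idealMod (isEffCartier_sec f T a))).choose

theorem ptInv_invertible (T : Over S) (a : T ⟶ Over.mk f) : PicF.IsInvertibleCl (ptInv f T a) :=
  ⟨_, rfl, (PicInv.exists_inverse (IdealCl.isInvertible_idealMod (isEffCartier_sec f T a))).choose_spec.1⟩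

theorem pt_mul_ptInv (T : Over S) (a : T ⟶ Over.mk f) : pt f T a * ptInv f T a = 1 :=
  (PicMul.cl_tensor _ _).symm.trans ((PicMul.cl_eq_iff.2
    (PicInv.exists_inverse (IdealCl.isInvertible_idealMod (isEffCartier_sec f T a))).choose_spec.2).trans
      PicMul.one_def.symm)

theorem pull_ptInv {T T' : Over S} (g : T' ⟶ T) (a : T ⟶ Over.mk f) :
    PicF.pullCl (PicF.XTmap f g) (ptInv f T a) = ptInv f T' (g ≫ a) := by
  refine left_inv_eq_right_inv (a := pt f T' (g ≫ a)) ?_ (pt_mul_ptInv f T' (g ≫ a))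
  rw [← pull_pt, ← PicMul.pullCl_mul, mul_comm, pt_mul_ptInv]
  exact PicMul.pullCl_one _

/-- The class of the difference of two sections. -/
def δ (T : Over S) (a b : T ⟶ Over.mk f) : PicF.Cl (PicF.XT f T) := pt f T a * ptInv f T b

theorem pull_δ {T T' : Over S} (g : T' ⟶ T) (a b : T ⟶ Over.mk f) :
    PicF.pullCl (PicF.XTmap f g) (δ f T a b) = δ f T' (g ≫ a) (g ≫ b) := by
  rw [δ, PicMul.pullCl_mul, pull_pt, pull_ptInv]
  rfl

theorem δ_invertible (T : Over S) (a b : T ⟶ Over.mk f) : PicF.IsInvertibleCl (δ f T a b) :=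
  inv_mul_cl (pt_invertible f T a) (ptInv_invertible f T b)

section Geometric

variable {Ω : Type u} [Field Ω] (b : Spec (CommRingCat.of Ω) ⟶ S)

/-- The structure of a geometric fibre. -/
abbrev overX : (PicF.XT f (Over.mk b)).Over (Spec (CommRingCat.of Ω)) := ⟨PicF.XTproj f (Over.mk b)⟩

variable (hdim : ∀ s : S, topologicalKrullDim ↥(f.fiber s) = 1)

include hdim in
theorem dim_X : topologicalKrullDim ↥(PicF.XT f (Over.mk b)) = 1 := by
  let T : Over S := Over.mk b
  let pt₀ : T.left := (IsLocalRing.closedPoint Ω : PrimeSpectrum Ω)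
  refine Eq.trans ?_ ((FlatMisc.ApproxDim.fibre_dim_baseChange (IsPullback.of_hasPullback f T.hom) pt₀).trans
    (hdim (T.hom pt₀)))
  haveI : Subsingleton ↥T.left := inferInstanceAs (Subsingleton (PrimeSpectrum Ω))
  let g := PicF.XTproj f T
  have hsurj : Function.Surjective (g.fiberι pt₀) := fun x =>
    (g.range_fiberι _).superset (show x ∈ g ⁻¹' {pt₀} from Subsingleton.elim _ _)
  exact ((g.fiberι pt₀).isEmbedding.toHomeomorphOfSurjective
    hsurj).isHomeomorph.topologicalKrullDim_eq.symm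

/-- Euler characteristics on the fibre at the point are Euler characteristics of the geometric fibre. -/
theorem fibre_euler (t : (Over.mk b).left) {M : (PicF.XT f (Over.mk b)).Modules} (hM : Coh.IsQCoh M) :
    letI := overX f b
    FGA.eulerCharLE ((Over.mk b).left.residueField t) (FGA.fibreAt f (Over.mk b) t).left
        (FGA.restrFibre f (Over.mk b) t M) 1 = FGA.eulerCharLE Ω (PicF.XT f (Over.mk b)) M 1 := by
  letI := overX f b
  let T : Over S := Over.mk b
  let E := T.left.residueField t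
  let s : Spec E ⟶ Spec (CommRingCat.of Ω) := T.left.fromSpecResidueField t
  letI : Algebra Ω E := (Spec.preimage s).hom.toAlgebra
  have hs : Spec.map (CommRingCat.ofHom (algebraMap Ω E)) = s := Spec.map_preimage s
  letI : (FGA.fibreAt f T t).left.Over (Spec (CommRingCat.of E)) := ⟨(FGA.fibreAt f T t).hom⟩
  haveI : IsProper (PicF.XT f T ↘ Spec (CommRingCat.of Ω)) := inferInstanceAs (IsProper (pullback.snd f T.hom))
  haveI : IsProper ((FGA.fibreAt f T t).left ↘ Spec (CommRingCat.of E)) :=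
    inferInstanceAs (IsProper (pullback.snd (pullback.snd f T.hom) (T.left.fromSpecResidueField t)))
  exact JacPoint.eulerCharLE_bc (X := PicF.XT f T) (X' := (FGA.fibreAt f T t).left) (pullback.fst (PicF.XTproj f T) (T.left.fromSpecResidueField t))
    (hs.symm ▸ IsPullback.of_hasPullback (PicF.XTproj f T) (T.left.fromSpecResidueField t)) hM (Iso.refl _) 1

variable {P : Over S} {φ : ∀ T : Over S, PicF.Cl (PicF.XT f T) → (T ⟶ P)} {d : P.left → ℤ}

include hdim in
/-- The value of the degree function at a geometric point. -/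
theorem deg_point (hd : JacDeg.IsDeg f φ d) (t : (Over.mk b).left) {L : (PicF.XT f (Over.mk b)).Modules}
    (hL : PicF.IsInvertible L) :
    letI := overX f b
    d ((φ (Over.mk b) (PicF.cl L)).left t) = Curv2.deg Ω (PicF.XT f (Over.mk b)) L 1 := by
  letI := overX f b
  haveI : IsProper (PicF.XT f (Over.mk b) ↘ Spec (CommRingCat.of Ω)) :=
    inferInstanceAs (IsProper (pullback.snd f b))
  have hd1 : topologicalKrullDim ↥(PicF.XT f (Over.mk b)) ≤ ((1 : ℕ) : WithBot ℕ∞) := by
    rw [dim_X f b hdim]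
    rfl
  have hqO := JacPoint.isQCoh_of_isInvertible (PicLoc.isInvertible_structureModule (PicF.XT f (Over.mk b)))
  obtain ⟨e⟩ : Nonempty (FGA.restrFibre f (Over.mk b) t (Coh.structureModule (PicF.XT f (Over.mk b))) ≅
      Coh.structureModule (FGA.fibreAt f (Over.mk b) t).left) := PicMul.cl_eq_iff.1 (PicMul.pullCl_one _)
  rw [hd _ L hL t]
  unfold Curv2.deg
  rw [Nat.cast_one, one_mul, fibre_euler f b t (JacPoint.isQCoh_of_isInvertible hL),
    ← Pic13Lib.eulerCharLE_eq (k := Ω) hd1 (JacPoint.isQCoh_of_isInvertible hL),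
    ← Pic13Lib.eulerCharLE_eq (k := Ω) hd1 hqO, ← fibre_euler f b t hqO]
  congr 1
  unfold FGA.eulerCharLE
  exact Finset.sum_congr rfl fun i _ => congrArg (fun n : ℕ => (-1 : ℤ) ^ i * (n : ℤ))
    (CurveCohLib.hhEquiv (k := (Over.mk b).left.residueField t) e i).finrank_eq.symm

variable [GeometricallyIntegral f]

theorem isIntegral_X : IsIntegral (PicF.XT f (Over.mk b)) :=
  GeometricallyIntegral.geometrically_isIntegral (f := f) _ _ _ (IsPullback.of_hasPullback f b)

variable [IsAlgClosed Ω]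

/-- Sections give closed points of the geometric fibre. -/
theorem pt_eq_ptMod (a : Over.mk b ⟶ Over.mk f) :
    letI := overX f b
    ∃ (z : PicF.XT f (Over.mk b)) (hz : IsClosed ({z} : Set (PicF.XT f (Over.mk b)))),
      pt f (Over.mk b) a = PicF.cl (CurvePoint.ptMod z hz) := by
  letI := overX f b
  let X := PicF.XT f (Over.mk b)
  haveI : IsSeparated (X ↘ Spec (CommRingCat.of Ω)) := inferInstanceAs (IsSeparated (pullback.snd f b))
  let s : Spec (CommRingCat.of Ω) ⟶ X :=
    pullback.lift a.left (𝟙 _) (by rw [Category.id_comp]; exact Over.w a)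
  obtain ⟨hz, hker, -⟩ := CurveEmbed.section_point Ω s (pullback.lift_snd _ _ _)
  exact ⟨_, hz, congrArg (fun I => PicF.cl (ClSub.idealMod I)) hker⟩

/-- Closed points of the geometric fibre are sections. -/
theorem exists_pt (z : PicF.XT f (Over.mk b)) (hz : IsClosed ({z} : Set (PicF.XT f (Over.mk b)))) :
    letI := overX f b
    ∃ a : Over.mk b ⟶ Over.mk f, pt f (Over.mk b) a = PicF.cl (CurvePoint.ptMod z hz) := by
  letI := overX f b
  let X := PicF.XT f (Over.mk b)
  let g := X ↘ Spec (CommRingCat.of Ω)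
  haveI : IsSeparated g := inferInstanceAs (IsSeparated (pullback.snd f b))
  haveI : LocallyOfFiniteType g := inferInstanceAs (LocallyOfFiniteType (pullback.snd f b))
  let s := pointOfClosedPoint g z hz
  have hs : s ≫ g = 𝟙 _ := pointOfClosedPoint_comp g z hz
  let a : Over.mk b ⟶ Over.mk f := Over.homMk (s ≫ pullback.fst f b) (by
    show (s ≫ pullback.fst f b) ≫ f = b
    rw [Category.assoc, pullback.condition, ← Category.assoc]
    exact (congrArg (· ≫ b) hs).trans (Category.id_comp b))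
  refine ⟨a, ?_⟩
  have key : ∀ (s' : Spec (CommRingCat.of Ω) ⟶ X), s' ≫ g = 𝟙 _ → s' (IsLocalRing.closedPoint Ω) = z →
      PicF.cl (ClSub.idealMod s'.ker) = PicF.cl (CurvePoint.ptMod z hz) := by
    intro s' hs' e
    subst e
    obtain ⟨hz', hker, -⟩ := CurveEmbed.section_point Ω s' hs'
    exact congrArg (fun I => PicF.cl (ClSub.idealMod I)) hker
  have hlift : (pullback.lift a.left (𝟙 _) (by rw [Category.id_comp]; exact Over.w a) :
      Spec (CommRingCat.of Ω) ⟶ X) = s := by
    refine pullback.hom_ext ?_ ?_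
    · rw [pullback.lift_fst]; rfl
    · rw [pullback.lift_snd]; exact hs.symm
  exact (congrArg (fun m : Spec (CommRingCat.of Ω) ⟶ X => PicF.cl (ClSub.idealMod (Scheme.Hom.ker m))) hlift).trans
    (key s hs (pointOfClosedPoint_apply g z hz _))

/-- A class of degree zero. -/
def Deg0 (c : PicF.Cl (PicF.XT f (Over.mk b))) : Prop :=
  letI := overX f b
  ∀ M : (PicF.XT f (Over.mk b)).Modules, PicF.cl M = c → Curv2.deg Ω (PicF.XT f (Over.mk b)) M 1 = 0

include hdim in
theorem Deg0.mul {c c' : PicF.Cl (PicF.XT f (Over.mk b))} (hc : PicF.IsInvertibleCl c)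
    (hc' : PicF.IsInvertibleCl c') (h : Deg0 f b c) (h' : Deg0 f b c') : Deg0 f b (c * c') := by
  letI := overX f b
  haveI : IsProper (PicF.XT f (Over.mk b) ↘ Spec (CommRingCat.of Ω)) :=
    inferInstanceAs (IsProper (pullback.snd f b))
  haveI : Smooth f := SmoothOfRelativeDimension.smooth 1 f
  haveI : Smooth (PicF.XT f (Over.mk b) ↘ Spec (CommRingCat.of Ω)) :=
    inferInstanceAs (Smooth (pullback.snd f b))
  haveI := isIntegral_X f b
  intro M hM
  obtain ⟨L, rfl, hL⟩ := hc
  obtain ⟨L', rfl, hL'⟩ := hc'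
  rw [← PicMul.cl_tensor] at hM
  obtain ⟨e⟩ := PicMul.cl_eq_iff.1 hM
  rw [CurveRR.deg_congr Ω e 1, CurveAlgEq.deg_tensorMod (dim_X f b hdim) hL hL', h L rfl, h' L' rfl, add_zero]

include hdim in
theorem deg0_δ (a a' : Over.mk b ⟶ Over.mk f) : Deg0 f b (δ f (Over.mk b) a a') := by
  letI := overX f b
  haveI : IsProper (PicF.XT f (Over.mk b) ↘ Spec (CommRingCat.of Ω)) :=
    inferInstanceAs (IsProper (pullback.snd f b))
  haveI : Smooth f := SmoothOfRelativeDimension.smooth 1 f
  haveI : Smooth (PicF.XT f (Over.mk b) ↘ Spec (CommRingCat.of Ω)) :=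
    inferInstanceAs (Smooth (pullback.snd f b))
  haveI := isIntegral_X f b
  have hX := dim_X f b hdim
  obtain ⟨z, hz, h⟩ := pt_eq_ptMod f b a
  obtain ⟨z', hz', h'⟩ := pt_eq_ptMod f b a'
  obtain ⟨J, hJ', hJ⟩ := ptInv_invertible f (Over.mk b) a'
  have h1 : PicF.cl (CurvePoint.ptMod z' hz') * PicF.cl J = 1 := by rw [← h', hJ']; exact pt_mul_ptInv f _ a'
  rw [← PicMul.cl_tensor, PicMul.one_def] at h1
  obtain ⟨e⟩ := PicMul.cl_eq_iff.1 h1
  have hI := CurvePoint.isInvertible_ptMod z hz Ω hX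
  have hI' := CurvePoint.isInvertible_ptMod z' hz' Ω hX
  have hdJ : Curv2.deg Ω (PicF.XT f (Over.mk b)) J 1 = 1 := by
    have h2 := (CurveRR.deg_congr Ω e 1).trans (CurveDeg.deg_structureModule Ω)
    rw [CurveAlgEq.deg_tensorMod hX hI' hJ, CurvePoint.deg_ptMod z' hz' Ω] at h2
    omega
  intro M hM
  rw [δ, h, ← hJ', ← PicMul.cl_tensor] at hM
  obtain ⟨e'⟩ := PicMul.cl_eq_iff.1 hM
  rw [CurveRR.deg_congr Ω e' 1, CurveAlgEq.deg_tensorMod hX hI hJ, CurvePoint.deg_ptMod z hz Ω, hdJ]
  norm_num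

/-- Products of `n` differences of sections. -/
def Diffs : ℕ → PicF.Cl (PicF.XT f (Over.mk b)) → Prop
  | 0, c => c = 1
  | n + 1, c => ∃ c' a a', Diffs n c' ∧ c = c' * δ f (Over.mk b) a a'

include hdim in
/-- Classes of degree zero are products of differences of sections. -/
theorem diffs_of_deg0 (n : ℕ) {c : PicF.Cl (PicF.XT f (Over.mk b))} (hc : PicF.IsInvertibleCl c)
    (h : Deg0 f b c)
    (hn : letI := overX f b
      1 - Curv2.euler Ω (PicF.XT f (Over.mk b)) (Coh.structureModule (PicF.XT f (Over.mk b))) ≤ (n : ℤ)) :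
    Diffs f b n c := by
  letI := overX f b
  haveI : IsProper (PicF.XT f (Over.mk b) ↘ Spec (CommRingCat.of Ω)) :=
    inferInstanceAs (IsProper (pullback.snd f b))
  haveI : Smooth f := SmoothOfRelativeDimension.smooth 1 f
  haveI : Smooth (PicF.XT f (Over.mk b) ↘ Spec (CommRingCat.of Ω)) :=
    inferInstanceAs (Smooth (pullback.snd f b))
  haveI := isIntegral_X f b
  let X := PicF.XT f (Over.mk b)
  have hX : topologicalKrullDim X = 1 := dim_X f b hdim
  haveI := CurveCohLib.isNoetherian_of_proper (k := Ω) (X := X)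
  obtain ⟨F, hF, hcl⟩ := CurveSection.exists_closed_finset Ω (X := X) hX 1
  obtain ⟨y, hy'⟩ := Finset.card_pos.1 (show 0 < F.card by omega)
  have hy := hcl y hy'
  have hI := CurvePoint.isInvertible_ptMod y hy Ω hX
  obtain ⟨ay, hay⟩ := exists_pt f b y hy
  have eff : ∀ (m : ℕ) (N : X.Modules), PicF.IsInvertible N → Curv2.deg Ω X N 1 = m →
      Module.finrank Ω (Coh.HH X N 0) ≠ 0 →
      Diffs f b m (PicF.cl N * PicF.cl (CurvePoint.ptMod y hy) ^ m) := by
    intro m
    induction m with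
    | zero =>
      intro N hN hd h0
      obtain ⟨s, hs⟩ := CurveRR.exists_hom_ne_zero (P := N) Ω h0
      obtain ⟨-, h2⟩ := CurveDeg.deg_le_and_isIso Ω hX.le CurveDeg.isInvertible_structureModule hN s hs
      haveI := h2 (by rw [CurveDeg.deg_structureModule, hd]; simp)
      rw [pow_zero, mul_one, ← PicMul.cl_eq_iff.2 ⟨asIso s⟩]
      exact PicMul.one_def.symm
    | succ m ih =>
      intro N hN hd h0
      obtain ⟨p, hp, hp0⟩ := CurveAlgEq.exists_pt hX hN (by omega) h0
      have hIp := CurvePoint.isInvertible_ptMod p hp Ω hX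
      obtain ⟨ap, hap⟩ := exists_pt f b p hp
      have h1 := ih (CohB1.tensorMod N (CurvePoint.ptMod p hp)) (PicMul.isInvertible_tensor hN hIp) (by
        rw [CurveAlgEq.deg_tensorMod hX hN hIp, CurvePoint.deg_ptMod p hp Ω, hd]; push_cast; ring) hp0
      refine ⟨_, ay, ap, h1, ?_⟩
      rw [PicMul.cl_tensor, δ, ← hap, ← hay]
      calc PicF.cl N * pt f (Over.mk b) ay ^ (m + 1)
          = (pt f (Over.mk b) ap * ptInv f (Over.mk b) ap) * (PicF.cl N * pt f (Over.mk b) ay ^ (m + 1)) := by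
            rw [pt_mul_ptInv, one_mul]
        _ = _ := by rw [pow_succ]; ac_rfl
  obtain ⟨L, rfl, hL⟩ := hc
  obtain ⟨J, hJ, ⟨e⟩⟩ := PicInv.exists_inverse hI
  have hJ1 : PicF.cl (CurvePoint.ptMod y hy) * PicF.cl J = 1 :=
    (PicMul.cl_tensor _ _).symm.trans ((PicMul.cl_eq_iff.2 ⟨e⟩).trans PicMul.one_def.symm)
  have hdJ : Curv2.deg Ω X J 1 = 1 := by
    have h1 := (CurveRR.deg_congr Ω e 1).trans (CurveDeg.deg_structureModule Ω)
    rw [CurveAlgEq.deg_tensorMod hX hI hJ, CurvePoint.deg_ptMod y hy Ω] at h1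
    omega
  let Q := CohB1.tensorPow J n
  have hQ : PicF.IsInvertible Q := PicMul.isInvertible_tensorPow hJ n
  have hdQ : Curv2.deg Ω X Q 1 = n := by
    have := CurveAmple.deg_tensorPow (k := Ω) hX hJ n
    rw [hdJ] at this
    simpa using this
  have hN : PicF.IsInvertible (CohB1.tensorMod L Q) := PicMul.isInvertible_tensor hL hQ
  have hdN : Curv2.deg Ω X (CohB1.tensorMod L Q) 1 = n := by
    rw [CurveAlgEq.deg_tensorMod hX hL hQ, h L rfl, hdQ, zero_add]
  have h0 : Module.finrank Ω (Coh.HH X (CohB1.tensorMod L Q) 0) ≠ 0 := by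
    have h1 := CurveSlope.euler_le_h0 Ω hX.le (CurveDeg.isCoh_of_isInvertible hN)
    have h2 := hdN
    unfold Curv2.deg at h2
    simp only [Nat.cast_one, one_mul] at h2
    simp only [X] at *
    omega
  have h3 := eff n _ hN hdN h0
  rwa [PicMul.cl_tensor, PicMul.cl_tensorPow, mul_assoc, ← mul_pow, mul_comm (PicF.cl J), hJ1, one_pow,
    mul_one] at h3

end Geometric

end Groth.Agent.PicTangent.JacDiff
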