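import Mathlib.RingTheory.Unramified.Field
import Mathlib.RingTheory.Unramified.Finite
import Mathlib.RingTheory.Etale.Basic
import Mathlib.RingTheory.AdjoinRoot
import Mathlib.RingTheory.Artinian.Module
import Mathlib.RingTheory.HopkinsLevitzki
import Mathlib.RingTheory.LocalRing.ResidueField.Basic
import Mathlib.FieldTheory.PrimitiveElement
import Mathlib.Algebra.Polynomial.Lifts
import Mathlib.RingTheory.Smooth.Basic

/-!
# Infinitesimal lifts: descent along free extensions, and lifts of etale points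
-/

set_option autoImplicit false
set_option linter.style.haveILetI false
set_option maxHeartbeats 1000000

universe u

noncomputable section

namespace Groth.Agent.PicTangent.LiftDescent

open Polynomial

/-- Reading a lift after a split extension gives a lift before it. -/
theorem exists_lift_descent {R S₀ B' B B₁ : Type u} [CommRing R] [CommRing S₀] [CommRing B'] [CommRing B]
    [CommRing B₁] [Algebra R S₀] (b : R →+* B') (φ : B' →+* B) (hφ : Function.Surjective φ) (ε : B')
    (hker : RingHom.ker φ = Ideal.span {ε}) (hεε : ε * ε = 0)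
    (ι : B' →+* B₁) (lam : B₁ →+ B') (hlam : ∀ y z, lam (ι y * z) = y * lam z) (hlam1 : lam 1 = 1)
    (g₀ : S₀ →+* B) (hg₀ : g₀.comp (algebraMap R S₀) = φ.comp b)
    (g₁ : S₀ →+* B₁) (hg₁ : g₁.comp (algebraMap R S₀) = ι.comp b)
    (hcomp : ∀ s y, φ y = g₀ s → g₁ s - ι y ∈ Ideal.span ({ι ε} : Set B₁)) :
    ∃ g : S₀ →+* B', g.comp (algebraMap R S₀) = b ∧ φ.comp g = g₀ := by
  choose G₀ hG₀ using fun s => hφ (g₀ s)
  let P₀ := MvPolynomial S₀ R
  let q : P₀ →+* S₀ := MvPolynomial.eval₂Hom (algebraMap R S₀) id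
  let G : P₀ →+* B' := MvPolynomial.eval₂Hom b G₀
  have hq : Function.Surjective q := fun s => ⟨MvPolynomial.X s, MvPolynomial.eval₂Hom_X' _ _ s⟩
  have hφG : φ.comp G = g₀.comp q := by
    refine MvPolynomial.ringHom_ext (fun r => ?_) fun s => ?_
    · simpa [G, q] using congr($hg₀ r).symm
    · simp [G, q, hG₀]
  let D : P₀ → B₁ := fun a => g₁ (q a) - ι (G a)
  have hD : ∀ a, ∃ c, D a = c * ι ε := fun a => by
    obtain ⟨c, hc⟩ := Ideal.mem_span_singleton'.1 (hcomp (q a) (G a) congr($hφG a))
    exact ⟨c, hc.symm⟩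
  have hlamD : ∀ a, ∃ c, lam (D a) = ε * c := fun a => by
    obtain ⟨c, hc⟩ := hD a
    exact ⟨lam c, by rw [hc, mul_comm, hlam]⟩
  have hDD : ∀ a c, D a * D c = 0 := fun a c => by
    obtain ⟨x, hx⟩ := hD a
    obtain ⟨y, hy⟩ := hD c
    rw [hx, hy, mul_mul_mul_comm, ← map_mul, hεε, map_zero, mul_zero]
  have hlam2 : ∀ a c, lam (D a) * lam (D c) = 0 := fun a c => by
    obtain ⟨x, hx⟩ := hlamD a
    obtain ⟨y, hy⟩ := hlamD c
    rw [hx, hy, mul_mul_mul_comm, hεε, zero_mul]
  let H : P₀ → B' := fun a => G a + lam (D a)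
  have hadd : ∀ a c, H (a + c) = H a + H c := fun a c => by
    simp only [H, D, map_add]
    simp only [map_sub, map_add]
    abel
  have hone : H 1 = 1 := by simp [H, D]
  have hmul : ∀ a c, H (a * c) = H a * H c := fun a c => by
    have e : D (a * c) = ι (G a) * D c + ι (G c) * D a := by
      have := hDD a c
      simp only [D, map_mul] at this ⊢
      linear_combination this
    simp only [H, map_mul, e, map_add, hlam]
    linear_combination -(hlam2 a c)
  have hzero : H 0 = 0 := by simp [H, D]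
  let Hh : P₀ →+* B' :=
    { toFun := H, map_one' := hone, map_mul' := hmul, map_zero' := hzero, map_add' := hadd }
  have hkH : RingHom.ker q ≤ RingHom.ker Hh := fun a ha => by
    rw [RingHom.mem_ker] at ha
    show G a + lam (g₁ (q a) - ι (G a)) = 0
    rw [ha, map_zero, zero_sub, map_neg, show ι (G a) = ι (G a) * 1 by rw [mul_one], hlam, hlam1, mul_one,
      add_neg_cancel]
  obtain ⟨g, hg⟩ : ∃ g : S₀ →+* B', g.comp q = Hh := by
    let e := RingHom.quotientKerEquivOfSurjective hq
    refine ⟨(Ideal.Quotient.lift (RingHom.ker q) Hh hkH).comp e.symm.toRingHom, RingHom.ext fun a => ?_⟩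
    show Ideal.Quotient.lift (RingHom.ker q) Hh hkH (e.symm (q a)) = Hh a
    rw [show e.symm (q a) = Ideal.Quotient.mk _ a from
      e.symm_apply_eq.2 (RingHom.quotientKerEquivOfSurjective_apply_mk hq a).symm]
    exact Ideal.Quotient.lift_mk _ _ _
  refine ⟨g, RingHom.ext fun r => ?_, RingHom.ext fun s => ?_⟩
  · have eq1 : q (MvPolynomial.C r) = algebraMap R S₀ r := MvPolynomial.eval₂Hom_C _ _ r
    have eq2 : G (MvPolynomial.C r) = b r := MvPolynomial.eval₂Hom_C _ _ r
    have h2 : D (MvPolynomial.C r) = 0 := by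
      show g₁ (q _) - ι (G _) = 0
      rw [eq1, eq2, sub_eq_zero]
      exact congr($hg₁ r)
    have h1 : g (q (MvPolynomial.C r)) = G (MvPolynomial.C r) + lam (D (MvPolynomial.C r)) :=
      congr($hg (MvPolynomial.C r))
    rw [eq1, eq2, h2, map_zero, add_zero] at h1
    exact h1
  · obtain ⟨a, rfl⟩ := hq s
    rw [RingHom.comp_apply, show g (q a) = H a from congr($hg a)]
    obtain ⟨c, hc⟩ := hlamD a
    have hε : φ ε = 0 := by
      rw [← RingHom.mem_ker, hker]
      exact Ideal.mem_span_singleton_self ε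
    show φ (G a + lam (D a)) = _
    rw [map_add, hc, map_mul, hε, zero_mul, add_zero]
    exact congr($hφG a)

/-- A free thickening of a point of an etale algebra, with a point of that algebra modulo `ε`. -/
theorem exists_etale_point {B' B W : Type u} [CommRing B'] [IsArtinianRing B'] [IsLocalRing B'] [CommRing B]
    [Nontrivial B] (φ : B' →+* B) (hφ : Function.Surjective φ) (ε : B') (hker : RingHom.ker φ = Ideal.span {ε})
    [CommRing W] [Algebra B W] [Algebra.Etale B W] [Nontrivial W] :
    ∃ (B₁ : Type u) (_ : CommRing B₁) (_ : IsArtinianRing B₁) (K₁ : Type u) (_ : Field K₁) (ι : B' →+* B₁)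
      (res : B₁ →+* K₁)
      (lam : B₁ →+ B'), (∀ y z, lam (ι y * z) = y * lam z) ∧ lam 1 = 1 ∧ Function.Surjective res ∧
      RingHom.ker res = (IsLocalRing.maximalIdeal B').map ι ∧ IsNilpotent (RingHom.ker res) ∧
      ∃ (β₁ : B →+* B₁ ⧸ Ideal.span ({ι ε} : Set B₁)) (j : W →+* B₁ ⧸ Ideal.span ({ι ε} : Set B₁)),
        (∀ y, β₁ (φ y) = Ideal.Quotient.mk _ (ι y)) ∧ j.comp (algebraMap B W) = β₁ := by
  haveI : IsLocalRing B := .of_surjective' φ hφ
  obtain ⟨n, hn⟩ := Ideal.exists_maximal W
  let K := IsLocalRing.ResidueField B'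
  let K₁ := W ⧸ n
  letI : Field K₁ := Ideal.Quotient.field n
  letI : Algebra B' B := φ.toAlgebra
  letI : Algebra B' K₁ := ((algebraMap B K₁).comp φ).toAlgebra
  haveI : IsScalarTower B' B K₁ := IsScalarTower.of_algebraMap_eq fun _ => rfl
  obtain ⟨N, hN⟩ : ∃ N, IsLocalRing.maximalIdeal B' ^ N = ⊥ := by
    obtain ⟨N, hN⟩ := IsArtinianRing.isNilpotent_jacobson_bot (R := B')
    rw [IsLocalRing.jacobson_eq_maximalIdeal _ bot_ne_top] at hN
    exact ⟨N, hN⟩
  have hm0 : ∀ x ∈ IsLocalRing.maximalIdeal B', algebraMap B' K₁ x = 0 := fun x hx => by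
    refine IsNilpotent.eq_zero (IsNilpotent.map ⟨N, ?_⟩ (algebraMap B' K₁))
    have : x ^ N ∈ IsLocalRing.maximalIdeal B' ^ N := Ideal.pow_mem_pow hx N
    rwa [hN, Ideal.mem_bot] at this
  letI : Algebra K K₁ := (Ideal.Quotient.lift (IsLocalRing.maximalIdeal B') (algebraMap B' K₁) hm0).toAlgebra
  haveI : IsScalarTower B' K K₁ := IsScalarTower.of_algebraMap_eq fun _ => rfl
  haveI hu : Algebra.FormallyUnramified B' K₁ := by
    haveI : Algebra.FormallyUnramified B' B :=
      Algebra.FormallyUnramified.of_surjective (Algebra.ofId B' B) hφ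
    haveI : Algebra.FormallyUnramified B K₁ :=
      Algebra.FormallyUnramified.of_surjective (Ideal.Quotient.mkₐ B n) Ideal.Quotient.mk_surjective
    exact Algebra.FormallyUnramified.comp B' B K₁
  haveI : Algebra.FormallyUnramified K K₁ := Algebra.FormallyUnramified.of_restrictScalars B' K K₁
  haveI : Algebra.FiniteType B K₁ :=
    Algebra.FiniteType.of_surjective (Ideal.Quotient.mkₐ B n) Ideal.Quotient.mk_surjective
  haveI : Algebra.FiniteType B' B := Algebra.FiniteType.of_surjective (Algebra.ofId B' B) hφ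
  haveI : Algebra.FiniteType B' K₁ := Algebra.FiniteType.trans (S := B) inferInstance inferInstance
  haveI : Algebra.FiniteType K K₁ := Algebra.FiniteType.of_restrictScalars_finiteType B' K K₁
  haveI : Module.Finite K K₁ := Algebra.FormallyUnramified.finite_of_free K K₁
  haveI : Algebra.IsSeparable K K₁ := Algebra.FormallyUnramified.isSeparable K K₁
  obtain ⟨α, hα⟩ := Field.exists_primitive_element K K₁
  have hint : IsIntegral K α := IsIntegral.of_finite K α
  have hres : Function.Surjective (algebraMap B' K) := Ideal.Quotient.mk_surjective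
  obtain ⟨p, hp, -, hpm⟩ := Polynomial.lifts_and_natDegree_eq_and_monic
    (show minpoly K α ∈ Polynomial.lifts (algebraMap B' K) from Polynomial.map_surjective _ hres _)
    (minpoly.monic hint)
  have hev : ∀ g : B'[X], g.eval₂ (algebraMap B' K₁) α = Polynomial.aeval α (g.map (algebraMap B' K)) := fun g => by
    rw [Polynomial.aeval_def, Polynomial.eval₂_map, ← IsScalarTower.algebraMap_eq]
  let res : AdjoinRoot p →+* K₁ := AdjoinRoot.lift (algebraMap B' K₁) α (by rw [hev, hp, minpoly.aeval])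
  have hsurj : Function.Surjective res := by
    intro z
    have hz : z ∈ Algebra.adjoin K ({α} : Set K₁) := by
      rw [← IntermediateField.adjoin_simple_toSubalgebra_of_isAlgebraic hint.isAlgebraic, hα]
      trivial
    rw [Algebra.adjoin_singleton_eq_range_aeval] at hz
    obtain ⟨g, rfl⟩ := hz
    obtain ⟨g', rfl⟩ := Polynomial.map_surjective _ hres g
    exact ⟨AdjoinRoot.mk p g', (AdjoinRoot.lift_mk _ g').trans (hev g')⟩
  have hkres : RingHom.ker res = (IsLocalRing.maximalIdeal B').map (AdjoinRoot.of p) := by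
    refine le_antisymm (fun x hx => ?_) (Ideal.map_le_iff_le_comap.2 fun x hx => ?_)
    · obtain ⟨g, rfl⟩ := AdjoinRoot.mk_surjective x
      rw [RingHom.mem_ker] at hx
      have h1 : Polynomial.aeval α (g.map (algebraMap B' K)) = 0 :=
        (hev g).symm.trans ((AdjoinRoot.lift_mk _ g).symm.trans hx)
      obtain ⟨d, hd⟩ := (minpoly.dvd K α h1)
      obtain ⟨d', rfl⟩ := Polynomial.map_surjective _ hres d
      rw [← hp, ← Polynomial.map_mul] at hd
      have h2 : g - p * d' ∈ (IsLocalRing.maximalIdeal B').map Polynomial.C := by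
        rw [Ideal.mem_map_C_iff]
        intro m
        have := congrArg (fun r => Polynomial.coeff r m) hd
        simp only [Polynomial.coeff_map] at this
        rw [Polynomial.coeff_sub]
        exact Ideal.Quotient.eq.1 this
      have h3 := Ideal.mem_map_of_mem (AdjoinRoot.mk p) h2
      rw [Ideal.map_map, map_sub, map_mul, AdjoinRoot.mk_self, zero_mul, sub_zero] at h3
      exact h3
    · rw [Ideal.mem_comap, RingHom.mem_ker]
      show res (AdjoinRoot.mk p (Polynomial.C x)) = 0
      exact (AdjoinRoot.lift_mk _ _).trans (by rw [Polynomial.eval₂_C]; exact hm0 x hx)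
  have hnil : IsNilpotent (RingHom.ker res) := ⟨N, by rw [hkres, ← Ideal.map_pow, hN, Ideal.map_bot]; rfl⟩
  have hdeg : p.natDegree ≠ 0 := fun h0 => by
    have h1 : p = 1 := hpm.natDegree_eq_zero.1 h0
    rw [h1, Polynomial.map_one] at hp
    exact minpoly.ne_one K α hp.symm
  haveI : Nontrivial B' := inferInstance
  let lam : AdjoinRoot p →+ B' :=
    ((Polynomial.lcoeff B' 0).comp (AdjoinRoot.modByMonicHom hpm)).toAddMonoidHom
  haveI : Module.Finite B' (AdjoinRoot p) := hpm.finite_adjoinRoot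
  refine ⟨AdjoinRoot p, inferInstance, IsArtinianRing.of_finite B' (AdjoinRoot p), K₁, inferInstance, AdjoinRoot.of p, res, lam, fun y z => ?_, ?_, hsurj,
    hkres, hnil, ?_⟩
  · show ((Polynomial.lcoeff B' 0).comp (AdjoinRoot.modByMonicHom hpm)) _ = y * _
    rw [← AdjoinRoot.algebraMap_eq, ← Algebra.smul_def, map_smul, smul_eq_mul]
    rfl
  · show (AdjoinRoot.modByMonicHom hpm (AdjoinRoot.mk p 1)).coeff 0 = 1
    rw [AdjoinRoot.modByMonicHom_mk]
    rw [(Polynomial.modByMonic_eq_self_iff hpm).2 (by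
      rw [Polynomial.degree_one, ← Polynomial.natDegree_pos_iff_degree_pos]
      omega)]
    simp
  let J : Ideal (AdjoinRoot p) := Ideal.span {AdjoinRoot.of p ε}
  have hβ : RingHom.ker φ ≤ RingHom.ker ((Ideal.Quotient.mk J).comp (AdjoinRoot.of p)) := by
    rw [hker, Ideal.span_le]
    rintro x rfl
    exact Ideal.Quotient.eq_zero_iff_mem.2 (Ideal.mem_span_singleton_self _)
  let e := RingHom.quotientKerEquivOfSurjective hφ
  let β₁ : B →+* AdjoinRoot p ⧸ J :=
    (Ideal.Quotient.lift (RingHom.ker φ) ((Ideal.Quotient.mk J).comp (AdjoinRoot.of p)) hβ).comp e.symm.toRingHom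
  have hβ₁ : ∀ y, β₁ (φ y) = Ideal.Quotient.mk J (AdjoinRoot.of p y) := fun y => by
    show Ideal.Quotient.lift (RingHom.ker φ) _ hβ (e.symm (φ y)) = _
    rw [show e.symm (φ y) = Ideal.Quotient.mk _ y from
      e.symm_apply_eq.2 (RingHom.quotientKerEquivOfSurjective_apply_mk hφ y).symm]
    exact Ideal.Quotient.lift_mk _ _ _
  letI : Algebra B (AdjoinRoot p ⧸ J) := β₁.toAlgebra
  have hJ : J ≤ RingHom.ker res := by
    rw [hkres, Ideal.span_le]
    rintro x rfl
    refine Ideal.mem_map_of_mem _ ?_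
    refine (IsLocalRing.mem_maximalIdeal _).2 fun hu => ?_
    have h0 : φ ε = 0 := by
      rw [← RingHom.mem_ker, hker]
      exact Ideal.mem_span_singleton_self ε
    exact not_isUnit_zero (h0 ▸ hu.map φ)
  let red₀ : AdjoinRoot p ⧸ J →+* K₁ := Ideal.Quotient.lift J res hJ
  let red : (AdjoinRoot p ⧸ J) →ₐ[B] K₁ :=
    { red₀ with
      commutes' := fun x => by
        obtain ⟨y, rfl⟩ := hφ x
        show red₀ (β₁ (φ y)) = _
        rw [hβ₁]
        show res (AdjoinRoot.mk p (Polynomial.C y)) = _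
        exact (AdjoinRoot.lift_mk _ _).trans (Polynomial.eval₂_C _ _) }
  have hrs : Function.Surjective red := Ideal.Quotient.lift_surjective_of_surjective _ _ hsurj
  have hrn : IsNilpotent (RingHom.ker (red : (AdjoinRoot p ⧸ J) →+* K₁)) := by
    obtain ⟨M, hM⟩ := hnil
    refine ⟨M, ?_⟩
    show RingHom.ker red₀ ^ M = 0
    rw [Ideal.ker_quotient_lift, ← Ideal.map_pow, hM]
    exact Ideal.map_bot
  let jl : W →ₐ[B] AdjoinRoot p ⧸ J :=
    Algebra.FormallySmooth.liftOfSurjective (Ideal.Quotient.mkₐ B n) red hrs hrn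
  exact ⟨β₁, jl.toRingHom, hβ₁, RingHom.ext fun x => jl.commutes x⟩

end Groth.Agent.PicTangent.LiftDescent
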