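import Groth.Agent.GrLib8.PicH1.Seq
import Groth.Agent.H23.PicMul
import Groth.Agent.PicClLib.Basic

/-!
# Roots of invertible classes across square zero thickenings
-/

set_option autoImplicit false
set_option linter.style.haveILetI false
set_option backward.isDefEq.respectTransparency false
set_option backward.isDefEq.respectTransparency.types false

universe u

open CategoryTheory CategoryTheory.Limits AlgebraicGeometry TopologicalSpace Opposite

noncomputable section

namespace Groth.Agent.PicTangent.NthRoot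

open Groth.Agent Groth.Agent.H23

attribute [local instance] PicMul.clMonoid

theorem pow_val {Y : Scheme.{u}} [PicGrp.Law Y] (a : PicLoc.PicSet Y) (n : ℕ) : (a ^ n).1 = a.1 ^ n := by
  induction n with
  | zero => rw [pow_zero, pow_zero, PicGrp.Law.one_eq]; rfl
  | succ n ih => rw [pow_succ, pow_succ, PicGrp.Law.mul_val, ih]; rfl

/-- Multiplication by a natural number that is a global unit is injective on cohomology. -/
theorem eq_zero_of_nsmul {Y : Scheme.{u}} {n : ℕ} (hn : IsUnit (n : Coh.Γtop Y)) (M : Y.Modules) (q : ℕ)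
    (z : Coh.HH Y M q) (h : n • z = 0) : z = 0 := by
  rw [← Nat.cast_smul_eq_nsmul (Coh.Γtop Y)] at h
  exact (IsUnit.smul_eq_zero hn).1 h

/-- A root on the thickened scheme from a root on the closed subscheme. -/
theorem exists_root_sub {Y : Scheme.{u}} (I : Y.IdealSheafData) (hI : I * I = ⊥) {n : ℕ}
    (hn : IsUnit (n : Coh.Γtop Y)) {c : PicF.Cl I.subscheme} {d : PicF.Cl Y} (hc : PicF.IsInvertibleCl c)
    (hd : PicF.IsInvertibleCl d) (h : c ^ n = PicF.pullCl I.subschemeι d) :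
    ∃ c' : PicF.Cl Y, PicF.IsInvertibleCl c' ∧ c' ^ n = d ∧ PicF.pullCl I.subschemeι c' = c := by
  letI := PicMul.law Y
  letI := PicMul.law I.subscheme
  have hi := PicMul.pullMul I.subschemeι
  obtain ⟨ε, δ₀, α, δ₁, -, -, -, -, h5, h6⟩ := GrLib8.PicH1.exists_exact Y I hI hi
  let p := PicGrp.pullHom I.subschemeι hi
  let a : PicLoc.PicSet I.subscheme := ⟨c, hc⟩
  let b : PicLoc.PicSet Y := ⟨d, hd⟩
  have hab : a ^ n = p b := Subtype.ext ((pow_val a n).trans h)
  have h1 : a ∈ p.range := by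
    rw [← h6, MonoidHom.mem_ker]
    have e : δ₁ (a ^ n) = 1 := by
      rw [← MonoidHom.mem_ker, h6, hab]
      exact ⟨b, rfl⟩
    rw [map_pow] at e
    exact Multiplicative.toAdd.injective (eq_zero_of_nsmul hn _ _ _ ((toAdd_pow _ _).symm.trans (congrArg Multiplicative.toAdd e)))
  obtain ⟨a', ha'⟩ := h1
  have h2 : b⁻¹ * a' ^ n ∈ α.range := by
    rw [← h5, MonoidHom.mem_ker, map_mul, map_inv, map_pow]
    show (p b)⁻¹ * (p a') ^ n = 1
    rw [ha', hab, inv_mul_cancel]
  obtain ⟨z, hz⟩ := h2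
  obtain ⟨u, hu⟩ := hn
  let z' : Multiplicative (Coh.HH Y (ClSub.idealMod I) 1) :=
    Multiplicative.ofAdd (((u⁻¹ : (Coh.Γtop Y)ˣ) : Coh.Γtop Y) • Multiplicative.toAdd z)
  have hz' : z' ^ n = z := by
    refine Multiplicative.toAdd.injective ?_
    rw [toAdd_pow]
    show n • (((u⁻¹ : (Coh.Γtop Y)ˣ) : Coh.Γtop Y) • Multiplicative.toAdd z) = _
    rw [← Nat.cast_smul_eq_nsmul (Coh.Γtop Y), smul_smul, ← hu, Units.mul_inv, one_smul]
  let a'' := a' * (α z')⁻¹
  have h3 : a'' ^ n = b := by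
    rw [mul_pow, inv_pow, ← map_pow, hz', hz, mul_inv_rev, inv_inv, ← mul_assoc, mul_inv_cancel, one_mul]
  have h4 : p a'' = a := by
    rw [map_mul, map_inv, show p (α z') = 1 from MonoidHom.mem_ker.1 (h5 ▸ ⟨z', rfl⟩), inv_one, mul_one, ha']
  exact ⟨a''.1, a''.2, (pow_val a'' n).symm.trans (congrArg Subtype.val h3), congrArg Subtype.val h4⟩

/-- A root on the thickened scheme from a root along a square zero closed immersion. -/
theorem exists_root {Y Z : Scheme.{u}} (t : Z ⟶ Y) [IsClosedImmersion t] (hI : t.ker * t.ker = ⊥) {n : ℕ}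
    (hn : IsUnit (n : Coh.Γtop Y)) {c : PicF.Cl Z} {d : PicF.Cl Y} (hc : PicF.IsInvertibleCl c)
    (hd : PicF.IsInvertibleCl d) (h : c ^ n = PicF.pullCl t d) :
    ∃ c' : PicF.Cl Y, PicF.IsInvertibleCl c' ∧ c' ^ n = d ∧ PicF.pullCl t c' = c := by
  haveI : IsIso t.toImage := inferInstance
  have e : inv t.toImage ≫ t = t.ker.subschemeι := by rw [IsIso.inv_comp_eq]; exact t.toImage_imageι.symm
  obtain ⟨c', hc', hpow, hres⟩ := exists_root_sub t.ker hI hn (c := PicF.pullCl (inv t.toImage) c)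
    (PicLoc.isInvertibleCl_pullCl _ hc) hd (by rw [← PicMul.pullCl_pow, h, PicClLib.pullCl_comp, e])
  refine ⟨c', hc', hpow, ?_⟩
  have e' : t.toImage ≫ t.ker.subschemeι = t := t.toImage_imageι
  rw [← e', ← PicClLib.pullCl_comp, hres, PicClLib.pullCl_comp, IsIso.hom_inv_id, PicClLib.pullCl_id]

/-- Classes with equal powers that agree on the closed subscheme are equal. -/
theorem eq_of_pow_eq_sub {Y : Scheme.{u}} (I : Y.IdealSheafData) (hI : I * I = ⊥) {n : ℕ}
    (hn : IsUnit (n : Coh.Γtop Y)) (hv : ∀ v : (Γ(I.subscheme, ⊤))ˣ, ∃ w, w ^ n = v)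
    {c d : PicF.Cl Y} (hc : PicF.IsInvertibleCl c) (hd : PicF.IsInvertibleCl d) (h : c ^ n = d ^ n)
    (h0 : PicF.pullCl I.subschemeι c = PicF.pullCl I.subschemeι d) : c = d := by
  letI := PicMul.law Y
  letI := PicMul.law I.subscheme
  have hi := PicMul.pullMul I.subschemeι
  obtain ⟨ε, δ₀, α, δ₁, -, -, -, h4, h5, -⟩ := GrLib8.PicH1.exists_exact Y I hI hi
  let p := PicGrp.pullHom I.subschemeι hi
  let a : PicLoc.PicSet Y := ⟨c, hc⟩
  let b : PicLoc.PicSet Y := ⟨d, hd⟩
  have hp : p a = p b := Subtype.ext h0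
  have hab : a ^ n = b ^ n := Subtype.ext ((pow_val a n).trans (h.trans (pow_val b n).symm))
  obtain ⟨z, hz⟩ : a * b⁻¹ ∈ α.range := by
    rw [← h5, MonoidHom.mem_ker, map_mul, map_inv]
    show p a * (p b)⁻¹ = 1
    rw [hp, mul_inv_cancel]
  obtain ⟨v, hv'⟩ : z ^ n ∈ δ₀.range := by
    rw [← h4, MonoidHom.mem_ker, map_pow, hz, mul_pow, inv_pow, hab, mul_inv_cancel]
  obtain ⟨w, rfl⟩ := hv v
  have hzw : z = δ₀ w := by
    rw [← div_eq_one]
    have h1 : (z / δ₀ w) ^ n = 1 := by rw [div_pow, ← map_pow, hv', div_self']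
    exact Multiplicative.toAdd.injective
      (eq_zero_of_nsmul hn _ _ _ ((toAdd_pow _ _).symm.trans (congrArg Multiplicative.toAdd h1)))
  have h1 : α z = 1 := by
    rw [hzw, ← MonoidHom.mem_ker, h4]
    exact ⟨w, rfl⟩
  rw [hz, mul_inv_eq_one] at h1
  exact congrArg Subtype.val h1

/-- Classes with equal powers that agree along a square zero closed immersion are equal. -/
theorem eq_of_pow_eq {Y Z : Scheme.{u}} (t : Z ⟶ Y) [IsClosedImmersion t] (hI : t.ker * t.ker = ⊥) {n : ℕ}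
    (hn0 : n ≠ 0) (hn : IsUnit (n : Coh.Γtop Y)) (hv : ∀ v : Γ(Z, ⊤), IsUnit v → ∃ w, w ^ n = v)
    {c d : PicF.Cl Y} (hc : PicF.IsInvertibleCl c) (hd : PicF.IsInvertibleCl d) (h : c ^ n = d ^ n)
    (h0 : PicF.pullCl t c = PicF.pullCl t d) : c = d := by
  haveI : IsIso t.toImage := inferInstance
  have e : inv t.toImage ≫ t = t.ker.subschemeι := by rw [IsIso.inv_comp_eq]; exact t.toImage_imageι.symm
  refine eq_of_pow_eq_sub t.ker hI hn (fun v => ?_) hc hd h (by
    rw [← e, ← PicClLib.pullCl_comp, ← PicClLib.pullCl_comp, h0])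
  obtain ⟨w, hw⟩ := hv (t.toImage.appTop.hom (v : Γ(t.ker.subscheme, ⊤))) (v.isUnit.map _)
  have hiw : (inv t.toImage.appTop).hom w ^ n = (v : Γ(t.ker.subscheme, ⊤)) := by
    rw [← map_pow, hw]
    exact congr($(IsIso.hom_inv_id t.toImage.appTop).hom _)
  obtain ⟨w', hw'⟩ := (isUnit_pow_iff hn0).1 (hiw ▸ v.isUnit)
  exact ⟨w', Units.ext (by rw [Units.val_pow_eq_pow_val, hw']; exact hiw)⟩

end Groth.Agent.PicTangent.NthRoot
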