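import Groth.Agent.PicTangent.LiftDescent
import Groth.Agent.PicLift.Flat
import Groth.Agent.QCoh.FlatBC
import Groth.Agent.CurveCohLib.Rank
import Groth.Agent.CohPullX.Semicont
import Groth.Agent.H26.FibModel
import Groth.Agent.AmpleDesc5.Stage
import Groth.Agent.S1417
import Groth.Prelude.Def_PicRel2

/-!
# Smoothness of relative Picard schemes where `H²` of the fibre vanishes
-/

set_option autoImplicit false
set_option linter.style.haveILetI false
set_option linter.unusedSectionVars false
set_option backward.isDefEq.respectTransparency false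
set_option backward.isDefEq.respectTransparency.types false
set_option maxHeartbeats 1000000

universe u

open CategoryTheory CategoryTheory.Limits AlgebraicGeometry TopologicalSpace Opposite TensorProduct

noncomputable section

namespace Groth.Agent.PicTangent.PicSmooth

open Groth.Agent

theorem subsingleton_spec_of_artinian (A : Type u) [CommRing A] [IsArtinianRing A] [IsLocalRing A] :
    Subsingleton (PrimeSpectrum A) :=
  ⟨fun a b => PrimeSpectrum.ext ((IsLocalRing.eq_maximalIdeal (IsArtinianRing.isMaximal_of_isPrime a.asIdeal)).trans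
    (IsLocalRing.eq_maximalIdeal (IsArtinianRing.isMaximal_of_isPrime b.asIdeal)).symm)⟩

variable {X S : Scheme.{u}} (f : X ⟶ S) [IsProper f]

/-- Vanishing on a fibre passes to every field valued point over it. -/
theorem subsingleton_fibre (L : Type u) [Field L] (v : Spec (CommRingCat.of L) ⟶ S) (q : ℕ)
    (h : Subsingleton (Coh.HH (pullback f (S.fromSpecResidueField (v (IsLocalRing.closedPoint L))))
      (Coh.structureModule _) q)) :
    Subsingleton (Coh.HH (pullback f v) (Coh.structureModule _) q) := by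
  let s := v (IsLocalRing.closedPoint L)
  obtain ⟨ψ, hψ⟩ : ∃ ψ : S.residueField s ⟶ CommRingCat.of L, Spec.map ψ ≫ S.fromSpecResidueField s = v :=
    ⟨_, Scheme.descResidueField_stalkClosedPointTo_fromSpecResidueField L S v⟩
  letI : Algebra (S.residueField s) L := ψ.hom.toAlgebra
  let pA := pullback.snd f (S.fromSpecResidueField s)
  let pB := pullback.snd f v
  let g : pullback f v ⟶ pullback f (S.fromSpecResidueField s) :=
    pullback.lift (pullback.fst f v) (pB ≫ Spec.map ψ) (by rw [Category.assoc, hψ, pullback.condition])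
  have sq : IsPullback g pB pA (Spec.map (CommRingCat.ofHom (algebraMap (S.residueField s) L))) := by
    refine IsPullback.of_right ?_ (pullback.lift_snd _ _ _) (IsPullback.of_hasPullback f (S.fromSpecResidueField s))
    rw [pullback.lift_fst]
    have : Spec.map (CommRingCat.ofHom (algebraMap (S.residueField s) L)) ≫ S.fromSpecResidueField s = v := hψ
    rw [this]
    exact IsPullback.of_hasPullback f v
  haveI : CompactSpace ↥(pullback f (S.fromSpecResidueField s)) := QuasiCompact.compactSpace_of_compactSpace pA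
  haveI : IsSeparated pA := inferInstance
  haveI : (pullback f (S.fromSpecResidueField s)).IsSeparated := ⟨by
    rw [← Limits.terminal.comp_from pA]
    infer_instance⟩
  letI := QCoh.modHH (Coh.toGlobal (A := S.residueField s) pA) (Coh.structureModule _) q
  letI := QCoh.modHH (Coh.toGlobal (A := L) pB)
    ((Scheme.Modules.pullback g).obj (Coh.structureModule _)) q
  obtain ⟨e⟩ := QCoh.HH_flatBaseChange (A := S.residueField s) (B := L) (pA := pA) (pB := pB) sq
    (QCoh.isQCoh_of_isFinLocFree (H23.PullPush.isFinLocFree_of_isInvertible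
      (PicLoc.isInvertible_structureModule _))) q
  obtain ⟨e'⟩ := PicClLib.nonempty_pullback_structureModule g
  refine QCoh.subsingleton_HH_of_iso e' q ?_
  haveI : Subsingleton (L ⊗[S.residueField s] Coh.HH (pullback f (S.fromSpecResidueField s)) (Coh.structureModule _) q) := by
    refine subsingleton_of_forall_eq 0 fun z => ?_
    induction z using TensorProduct.induction_on with
    | zero => rfl
    | tmul a b => rw [h.elim b 0, TensorProduct.tmul_zero]
    | add a b ha hb => rw [ha, hb, add_zero]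
  exact e.symm.toEquiv.subsingleton

variable [Flat f]

/-- Vanishing of `H^q` of the fibre is an open condition. -/
theorem exists_nhd [IsLocallyNoetherian S] (q : ℕ) (s : S)
    (h : Subsingleton (Coh.HH (pullback f (S.fromSpecResidueField s)) (Coh.structureModule _) q)) :
    ∃ U : S.Opens, s ∈ U ∧ ∀ z ∈ U,
      Subsingleton (Coh.HH (pullback f (S.fromSpecResidueField z)) (Coh.structureModule _) q) := by
  haveI : LocallyOfFinitePresentation f := inferInstance
  obtain ⟨e⟩ := PicClLib.nonempty_pullback_structureModule (f.fiberι s)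
  have hs : Subsingleton (CohIII.fiberH f (Coh.structureModule X) s q) := QCoh.subsingleton_HH_of_iso e.symm q h
  obtain ⟨U, hsU, hU⟩ := CohPullX.exists_subsingleton_fiberH_nhd
    (AmpleDesc5.isFP_of_isInvertible (PicLoc.isInvertible_structureModule X))
    (H26.FibModel.isFlatOver_structureModule f) s q hs
  refine ⟨U, hsU, fun z hz => ?_⟩
  obtain ⟨e'⟩ := PicClLib.nonempty_pullback_structureModule (f.fiberι z)
  exact QCoh.subsingleton_HH_of_iso e' q (hU z hz)

variable {P : Over S} {φP : ∀ T : Over S, PicF.Cl (PicF.XT f T) → (T ⟶ P)} (hP : PicRel.IsRelPic f P φP)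

include hP in
/-- Points of the relative Picard scheme lift along small extensions. -/
theorem exists_lift {B B' : Type u} [CommRing B] [CommRing B'] [IsArtinianRing B] [IsArtinianRing B']
    [IsLocalRing B] [IsLocalRing B'] (φ : B' →+* B) (ε : B') (hφ : Function.Surjective φ)
    (hker : RingHom.ker φ = Ideal.span {ε}) (hεm : ∀ m ∈ IsLocalRing.maximalIdeal B', ε * m = 0)
    (α : Spec (CommRingCat.of B) ⟶ P.left) (β : Spec (CommRingCat.of B') ⟶ S)
    (hcomm : Spec.map (CommRingCat.ofHom φ) ≫ β = α ≫ P.hom)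
    (h2 : Subsingleton (Coh.HH (pullback f (S.fromSpecResidueField (β (IsLocalRing.closedPoint B'))))
      (Coh.structureModule _) 2)) :
    ∃ γ : Spec (CommRingCat.of B') ⟶ P.left, Spec.map (CommRingCat.ofHom φ) ≫ γ = α ∧ γ ≫ P.hom = β := by
  by_cases hε : ε = 0
  · have hbij : Function.Bijective φ := by
      refine ⟨(RingHom.injective_iff_ker_eq_bot φ).2 ?_, hφ⟩
      rw [hker, hε, Ideal.span_singleton_eq_bot.2 rfl]
    haveI : IsIso (CommRingCat.ofHom φ) := (ConcreteCategory.isIso_iff_bijective _).2 hbij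
    refine ⟨inv (Spec.map (CommRingCat.ofHom φ)) ≫ α, IsIso.hom_inv_id_assoc _ _, ?_⟩
    rw [Category.assoc, ← hcomm, IsIso.inv_hom_id_assoc]
  have hεmax : ε ∈ IsLocalRing.maximalIdeal B' := by
    refine (IsLocalRing.mem_maximalIdeal _).2 fun hu => ?_
    have h0 : φ ε = 0 := by
      rw [← RingHom.mem_ker, hker]
      exact Ideal.mem_span_singleton_self ε
    exact not_isUnit_zero (h0 ▸ hu.map φ)
  have hεε : ε * ε = 0 := hεm ε hεmax
  -- a class on an etale neighbourhood
  let T : Over S := Over.mk (Spec.map (CommRingCat.ofHom φ) ≫ β)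
  let α' : T ⟶ P := Over.homMk α hcomm.symm
  obtain ⟨ιc, U, hU, hc⟩ := hP.locallySurjective T α'
  obtain ⟨i, y, -⟩ := hU (IsLocalRing.closedPoint B)
  obtain ⟨c, hci, hcα⟩ := hc i
  let h : (U i).left ⟶ Spec (CommRingCat.of B) := (U i).hom
  haveI : Etale h := (U i).prop
  obtain ⟨W, hW, hyW, -⟩ := exists_isAffineOpen_mem_and_subset (U := (⊤ : (U i).left.Opens)) (x := y) trivial
  let g : CommRingCat.of B ⟶ Γ((U i).left, W) :=
    (Scheme.ΓSpecIso (CommRingCat.of B)).inv ≫ h.appLE ⊤ W le_top
  have hg : g.hom.Etale :=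
    (RingHom.Etale.respectsIso.cancel_left_isIso _ _).2 (h.etale_appLE (isAffineOpen_top _) hW le_top)
  have hgW : Spec.map g = hW.fromSpec ≫ h := by
    rw [Spec.map_comp, ← IsAffineOpen.SpecMap_appLE_fromSpec h (isAffineOpen_top _) hW le_top,
      IsAffineOpen.fromSpec_top, Scheme.isoSpec_Spec_inv]
  letI : Algebra B Γ((U i).left, W) := g.hom.toAlgebra
  haveI : Algebra.Etale B Γ((U i).left, W) := hg
  haveI : Nonempty W := ⟨⟨y, hyW⟩⟩
  obtain ⟨B₁', _, _, K₁, _, ι, res, lam, hlam, hlam1, hres, hkres, hnil, β₁, jW, hβ₁, hjW⟩ :=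
    LiftDescent.exists_etale_point φ hφ ε hker (W := Γ((U i).left, W))
  let J : Ideal B₁' := Ideal.span {ι ε}
  let B₁ := B₁' ⧸ J
  let π : B₁' →+* B₁ := Ideal.Quotient.mk J
  have hinj : Function.Injective ι := fun a b hab => by
    have e : ∀ x, lam (ι x) = x := fun x => by
      rw [← mul_one (ι x), hlam, hlam1, mul_one]
    rw [← e a, ← e b, hab]
  let β' : Spec (CommRingCat.of B₁') ⟶ S := Spec.map (CommRingCat.ofHom ι) ≫ β
  let j : Spec (CommRingCat.of B₁) ⟶ (U i).left := Spec.map (CommRingCat.ofHom jW) ≫ hW.fromSpec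
  have hj : j ≫ h = Spec.map (CommRingCat.ofHom β₁) := by
    show (_ ≫ _) ≫ _ = _
    rw [Category.assoc, ← hgW, ← Spec.map_comp]
    congr 1
    exact CommRingCat.hom_ext hjW
  have hπι : Spec.map (CommRingCat.ofHom π) ≫ Spec.map (CommRingCat.ofHom ι) =
      Spec.map (CommRingCat.ofHom β₁) ≫ Spec.map (CommRingCat.ofHom φ) := by
    rw [← Spec.map_comp, ← Spec.map_comp]
    congr 1
    exact CommRingCat.hom_ext (RingHom.ext fun x => (hβ₁ x).symm)
  let T₁' : Over S := Over.mk β'
  let T₁ : Over S := Over.mk (Spec.map (CommRingCat.ofHom π) ≫ β')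
  let jj : T₁ ⟶ PicRel.ovr T (U i) := Over.homMk j (by
    show j ≫ h ≫ Spec.map (CommRingCat.ofHom φ) ≫ β = Spec.map (CommRingCat.ofHom π) ≫ Spec.map (CommRingCat.ofHom ι) ≫ β
    rw [← Category.assoc, hj, ← Category.assoc, ← Category.assoc, hπι])
  let mq : T₁ ⟶ T₁' := Over.homMk (Spec.map (CommRingCat.ofHom π)) rfl
  let c1 := PicF.pullCl (PicF.XTmap f jj) c
  have hc1 : PicF.IsInvertibleCl c1 := PicLoc.isInvertibleCl_pullCl _ hci
  have hφc1 : φP T₁ c1 = jj ≫ PicRel.ovrHom T (U i) ≫ α' := by
    rw [hP.natural _ _ _ _ hci, hcα]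
  clear_value c1
  -- lifting the class
  let f₁ : PicF.XT f T₁' ⟶ Spec (CommRingCat.of B₁') := pullback.snd f β'
  haveI : Flat f₁ := MorphismProperty.pullback_snd f β' inferInstance
  let t : PicF.XT f T₁ ⟶ PicF.XT f T₁' := PicF.XTmap f mq
  have sqt : IsPullback t (pullback.snd f T₁.hom) f₁ (Spec.map (CommRingCat.ofHom π)) := by
    refine IsPullback.of_right ?_ (pullback.lift_snd _ _ _) (IsPullback.of_hasPullback f β')
    have e : t ≫ pullback.fst f β' = pullback.fst f T₁.hom := (pullback.lift_fst _ _ _).trans (Category.comp_id _)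
    rw [e]
    exact IsPullback.of_hasPullback _ _
  haveI : IsClosedImmersion t := PicLift.closed_of_sq Ideal.Quotient.mk_surjective sqt
  have hI : t.ker * t.ker = ⊥ := by
    refine Scheme.IdealSheafData.ext (funext fun C => ?_)
    rw [Scheme.IdealSheafData.ideal_mul]
    show t.ker.ideal C * t.ker.ideal C = (⊥ : Scheme.IdealSheafData _).ideal C
    rw [PicLift.ideal_ker Ideal.Quotient.mk_surjective sqt C.2, ← Ideal.map_mul, Ideal.mk_ker,
      Ideal.span_singleton_mul_span_singleton, ← map_mul, hεε, map_zero, Ideal.span_singleton_eq_bot.2 rfl,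
      Ideal.map_bot]
    simp
  let v : Spec (CommRingCat.of K₁) ⟶ S := Spec.map (CommRingCat.ofHom res) ≫ β'
  have hv : v (IsLocalRing.closedPoint K₁) = β (IsLocalRing.closedPoint B') := by
    show β ((Spec.map (CommRingCat.ofHom ι)) ((Spec.map (CommRingCat.ofHom res)) _)) = _
    congr 1
    exact (subsingleton_spec_of_artinian B').elim _ _
  have h20 : Subsingleton (Coh.HH (pullback f v) (Coh.structureModule _) 2) :=
    subsingleton_fibre f K₁ v 2 (by rw [hv]; exact h2)
  let j₀ : pullback f v ⟶ PicF.XT f T₁' :=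
    pullback.lift (pullback.fst f v) (pullback.snd f v ≫ Spec.map (CommRingCat.ofHom res)) (by
      rw [Category.assoc]
      exact pullback.condition)
  have sq₀ : IsPullback j₀ (pullback.snd f v) f₁ (Spec.map (CommRingCat.ofHom res)) := by
    refine IsPullback.of_right ?_ (pullback.lift_snd _ _ _) (IsPullback.of_hasPullback f β')
    have e : j₀ ≫ pullback.fst f β' = pullback.fst f v := pullback.lift_fst _ _ _
    rw [e]
    exact IsPullback.of_hasPullback f v
  have hann : ∀ x, x * ι ε = 0 ↔ res x = 0 := by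
    intro x
    constructor
    · intro hx
      by_contra hne
      have hu : IsUnit x := by
        obtain ⟨z, hz⟩ := hres (res x)⁻¹
        have h1 : 1 - z * x ∈ RingHom.ker res := by
          rw [RingHom.mem_ker, map_sub, map_one, map_mul, hz, inv_mul_cancel₀ hne, sub_self]
        obtain ⟨M, hM⟩ := hnil
        have h2 : IsNilpotent (1 - z * x) := ⟨M, by
          have := Ideal.pow_mem_pow h1 M
          rwa [hM, Ideal.zero_eq_bot, Ideal.mem_bot] at this⟩
        have h3 := h2.isUnit_one_sub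
        rw [sub_sub_cancel] at h3
        exact isUnit_of_mul_isUnit_right h3
      exact hε (hinj ((hu.mul_right_eq_zero.1 hx).trans (map_zero ι).symm))
    · intro hx
      have hx' : x ∈ (IsLocalRing.maximalIdeal B').map ι := hkres ▸ RingHom.mem_ker.2 hx
      induction hx' using Submodule.span_induction with
      | mem z hz =>
        obtain ⟨m, hm, rfl⟩ := hz
        rw [← map_mul, mul_comm, hεm m hm, map_zero]
      | zero => rw [zero_mul]
      | add a b _ _ ha hb =>
        rw [add_mul]
        rw [ha (RingHom.mem_ker.1 (hkres.ge ‹a ∈ Submodule.span B₁' _›)),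
          hb (RingHom.mem_ker.1 (hkres.ge ‹b ∈ Submodule.span B₁' _›)), add_zero]
      | smul a b hb' hb =>
        rw [smul_eq_mul, mul_assoc, hb (RingHom.mem_ker.1 (hkres.ge hb')), mul_zero]
  have hH2 : Subsingleton (Coh.HH (PicF.XT f T₁') (ClSub.idealMod t.ker) 2) :=
    PicLift.subsingleton_smallExt hres Ideal.Quotient.mk_surjective Ideal.mk_ker hann sqt sq₀ 2 h20
  obtain ⟨L₁, hL₁, hL₁i⟩ := hc1
  obtain ⟨L, hL, ⟨eL⟩⟩ := PicLift.exists_lift_closed t hI hH2 L₁ hL₁i
  let γ₁ := φP T₁' (PicF.cl L)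
  have hγ₁ : mq ≫ γ₁ = jj ≫ PicRel.ovrHom T (U i) ≫ α' := by
    rw [← hP.natural _ _ mq _ ⟨L, rfl, hL⟩, ← hφc1]
    congr 1
    exact ((PicGrp.cl_eq_cl_iff _ _).2 ⟨eL⟩).trans hL₁
  have hγ₁' : Spec.map (CommRingCat.ofHom π) ≫ γ₁.left = Spec.map (CommRingCat.ofHom β₁) ≫ α := by
    have e := congrArg CommaMorphism.left hγ₁
    refine e.trans ?_
    show j ≫ h ≫ α = _
    rw [← Category.assoc, hj]
  have hγ₁S : γ₁.left ≫ P.hom = β' := Over.w γ₁
  -- descending the lift
  let p₀ := α (IsLocalRing.closedPoint B)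
  obtain ⟨O, hO, hpO, -⟩ := exists_isAffineOpen_mem_and_subset (U := (⊤ : S.Opens)) (x := P.hom p₀) trivial
  obtain ⟨V, hV, hpV, hVO⟩ := exists_isAffineOpen_mem_and_subset (U := P.hom ⁻¹ᵁ O) (x := p₀) hpO
  haveI : Subsingleton (PrimeSpectrum B) := subsingleton_spec_of_artinian B
  haveI : Subsingleton (PrimeSpectrum B') := subsingleton_spec_of_artinian B'
  haveI : Subsingleton (PrimeSpectrum B₁') := by
    refine ⟨fun a b => ?_⟩
    have key : ∀ a : PrimeSpectrum B₁', a.asIdeal = RingHom.ker res := fun a => by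
      haveI := RingHom.ker_isMaximal_of_surjective res hres
      refine (Ideal.IsMaximal.eq_of_le inferInstance a.isPrime.ne_top ?_).symm
      obtain ⟨M, hM⟩ := hnil
      intro z hz
      refine a.isPrime.mem_of_pow_mem M ?_
      have := Ideal.pow_mem_pow hz M
      rw [hM, Ideal.zero_eq_bot, Ideal.mem_bot] at this
      rw [this]
      exact zero_mem _
    exact PrimeSpectrum.ext ((key a).trans (key b).symm)
  obtain ⟨a₀, ha₀⟩ : ∃ a₀ : Γ(P.left, V) ⟶ CommRingCat.of B, Spec.map a₀ ≫ hV.fromSpec = α := by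
    have hr : Set.range α ⊆ Set.range hV.fromSpec := by
      rintro _ ⟨z, rfl⟩
      rw [hV.range_fromSpec, show z = IsLocalRing.closedPoint B from Subsingleton.elim (α := PrimeSpectrum B) _ _]
      exact hpV
    exact ⟨Spec.preimage (IsOpenImmersion.lift hV.fromSpec α hr), by
      rw [Spec.map_preimage, IsOpenImmersion.lift_fac]⟩
  obtain ⟨b₀, hb₀⟩ : ∃ b₀ : Γ(S, O) ⟶ CommRingCat.of B', Spec.map b₀ ≫ hO.fromSpec = β := by
    have hr : Set.range β ⊆ Set.range hO.fromSpec := by
      rintro _ ⟨z, rfl⟩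
      rw [hO.range_fromSpec, show z = (Spec.map (CommRingCat.ofHom φ)) (IsLocalRing.closedPoint B) from
        Subsingleton.elim (α := PrimeSpectrum B') _ _]
      show (Spec.map (CommRingCat.ofHom φ) ≫ β) (IsLocalRing.closedPoint B) ∈ (O : Set S)
      rw [hcomm]
      exact hpO
    exact ⟨Spec.preimage (IsOpenImmersion.lift hO.fromSpec β hr), by
      rw [Spec.map_preimage, IsOpenImmersion.lift_fac]⟩
  obtain ⟨a₁, ha₁⟩ : ∃ a₁ : Γ(P.left, V) ⟶ CommRingCat.of B₁', Spec.map a₁ ≫ hV.fromSpec = γ₁.left := by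
    have hr : Set.range γ₁.left ⊆ Set.range hV.fromSpec := by
      haveI : Nontrivial B₁ := by
        refine Ideal.Quotient.nontrivial_iff.2 fun htop => ?_
        have h1 : J ≤ RingHom.ker res := by
          rw [hkres, Ideal.span_le]
          rintro _ rfl
          exact Ideal.mem_map_of_mem _ hεmax
        exact (RingHom.ker_ne_top res) (top_le_iff.1 (htop ▸ h1))
      obtain ⟨z₁⟩ : Nonempty (PrimeSpectrum B₁) := inferInstance
      rintro _ ⟨z, rfl⟩
      rw [hV.range_fromSpec, show z = (Spec.map (CommRingCat.ofHom π)) z₁ from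
        Subsingleton.elim (α := PrimeSpectrum B₁') _ _]
      show (Spec.map (CommRingCat.ofHom π) ≫ γ₁.left) z₁ ∈ (V : Set P.left)
      rw [hγ₁']
      show α ((Spec.map (CommRingCat.ofHom β₁)) z₁) ∈ (V : Set P.left)
      rw [show (Spec.map (CommRingCat.ofHom β₁)) z₁ = IsLocalRing.closedPoint B from
        Subsingleton.elim (α := PrimeSpectrum B) _ _]
      exact hpV
    exact ⟨Spec.preimage (IsOpenImmersion.lift hV.fromSpec γ₁.left hr), by
      rw [Spec.map_preimage, IsOpenImmersion.lift_fac]⟩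
  let ρ := P.hom.appLE O V hVO
  have hρ : hV.fromSpec ≫ P.hom = Spec.map ρ ≫ hO.fromSpec :=
    (IsAffineOpen.SpecMap_appLE_fromSpec P.hom hO hV hVO).symm
  have hcan : ∀ {R : CommRingCat.{u}} (a : Γ(P.left, V) ⟶ R) (b : Γ(S, O) ⟶ R),
      (Spec.map a ≫ hV.fromSpec) ≫ P.hom = Spec.map b ≫ hO.fromSpec → ρ ≫ a = b := by
    intro R a b e
    rw [Category.assoc, hρ, ← Category.assoc, cancel_mono, ← Spec.map_comp] at e
    exact Spec.map_injective e
  have h0 : ρ ≫ a₀ = b₀ ≫ CommRingCat.ofHom φ := hcan _ _ (by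
    rw [ha₀, Spec.map_comp, Category.assoc, hb₀, hcomm])
  have h1 : ρ ≫ a₁ = b₀ ≫ CommRingCat.ofHom ι := hcan _ _ (by
    rw [ha₁, hγ₁S, Spec.map_comp, Category.assoc, hb₀])
  have h2 : a₁ ≫ CommRingCat.ofHom π = a₀ ≫ CommRingCat.ofHom β₁ := by
    refine Spec.map_injective ((cancel_mono hV.fromSpec).1 ?_)
    rw [Spec.map_comp, Spec.map_comp, Category.assoc, Category.assoc, ha₁, ha₀, hγ₁']
  letI : Algebra Γ(S, O) Γ(P.left, V) := ρ.hom.toAlgebra
  obtain ⟨g', hgb, hgφ⟩ := LiftDescent.exists_lift_descent b₀.hom φ hφ ε hker hεε ι lam hlam hlam1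
    a₀.hom (congrArg CommRingCat.Hom.hom h0) a₁.hom (congrArg CommRingCat.Hom.hom h1)
    fun z y hy => by
      rw [← Ideal.Quotient.eq]
      refine Eq.trans congr($(h2).hom z) ?_
      show β₁ (a₀.hom z) = _
      rw [← hy, hβ₁]
  refine ⟨Spec.map (CommRingCat.ofHom g') ≫ hV.fromSpec, ?_, ?_⟩
  · rw [← Category.assoc, ← Spec.map_comp,
      show CommRingCat.ofHom g' ≫ CommRingCat.ofHom φ = a₀ from CommRingCat.hom_ext hgφ, ha₀]
  · rw [Category.assoc, hρ, ← Category.assoc, ← Spec.map_comp,
      show ρ ≫ CommRingCat.ofHom g' = b₀ from CommRingCat.hom_ext hgb, hb₀]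

end Groth.Agent.PicTangent.PicSmooth
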