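import Groth.Agent.PicTangent.EtaleRefine
import Groth.Agent.PicTangent.NthRoot

/-!
# The power map of a relative Picard scheme has lifts where the exponent is invertible
-/

set_option autoImplicit false
set_option linter.style.haveILetI false
set_option linter.unusedSectionVars false
set_option backward.isDefEq.respectTransparency false
set_option backward.isDefEq.respectTransparency.types false
set_option maxHeartbeats 1000000

universe u

open CategoryTheory CategoryTheory.Limits AlgebraicGeometry TopologicalSpace Opposite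

noncomputable section

namespace Groth.Agent.PicTangent.PowLift

open Groth.Agent Groth.Agent.H23 EtaleRefine

attribute [local instance] PicMul.clMonoid

theorem isInvertibleCl_pow {Y : Scheme.{u}} {c : PicF.Cl Y} (hc : PicF.IsInvertibleCl c) (n : ℕ) :
    PicF.IsInvertibleCl (c ^ n) := by
  induction n with
  | zero =>
    rw [pow_zero]
    exact ⟨_, rfl, PicLoc.isInvertible_structureModule _⟩
  | succ n ih =>
    rw [pow_succ]
    exact PicMul.isInvertibleCl_mul ih hc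

variable {X S : Scheme.{u}} (f : X ⟶ S) {P : Over S} {φP : ∀ T : Over S, PicF.Cl (PicF.XT f T) → (T ⟶ P)}
  (hP : PicRel.IsRelPic f P φP) {n : ℕ} {m : P ⟶ P}

/-- The hypothesis that `m` is the power map, on classes. -/
def IsPow (φP : ∀ T : Over S, PicF.Cl (PicF.XT f T) → (T ⟶ P)) (n : ℕ) (m : P ⟶ P) : Prop :=
  ∀ (T : Over S) (c : PicF.Cl (PicF.XT f T)), PicF.IsInvertibleCl c → φP T (c ^ n) = φP T c ≫ m

variable (hm : IsPow f φP n m)

include hP hm in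
/-- Points lift along the power map over small extensions in which the exponent is invertible. -/
theorem exists_lift {B B' : Type u} [CommRing B] [CommRing B'] [IsArtinianRing B] [IsArtinianRing B']
    [IsLocalRing B] [IsLocalRing B'] (φ : B' →+* B) (ε : B') (hφ : Function.Surjective φ)
    (hker : RingHom.ker φ = Ideal.span {ε}) (hεε : ε * ε = 0) (hn : IsUnit (n : B'))
    (α : Spec (CommRingCat.of B) ⟶ P.left) (β : Spec (CommRingCat.of B') ⟶ P.left)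
    (hcomm : Spec.map (CommRingCat.ofHom φ) ≫ β = α ≫ m.left) :
    ∃ γ : Spec (CommRingCat.of B') ⟶ P.left, Spec.map (CommRingCat.ofHom φ) ≫ γ = α ∧ γ ≫ m.left = β := by
  have hS : α ≫ P.hom = Spec.map (CommRingCat.ofHom φ) ≫ β ≫ P.hom := by
    rw [reassoc_of% hcomm, Over.w m]
  -- the class of `β`
  let T₀ : Over S := Over.mk (β ≫ P.hom)
  let β₀ : T₀ ⟶ P := Over.homMk β rfl
  obtain ⟨κ, U, hU, hc⟩ := hP.locallySurjective T₀ β₀
  obtain ⟨L₁, i, j, hj⟩ := exists_refine_full U hU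
  obtain ⟨d₀, hd₀, hφd₀⟩ := hc i
  let T₁ : Over S := Over.mk (Spec.map (CommRingCat.ofHom L₁.ι) ≫ β ≫ P.hom)
  let jj : T₁ ⟶ PicRel.ovr T₀ (U i) := Over.homMk j (by
    show j ≫ (U i).hom ≫ β ≫ P.hom = _
    rw [← Category.assoc, hj]
    rfl)
  let d₁ := PicF.pullCl (PicF.XTmap f jj) d₀
  have hd₁ : PicF.IsInvertibleCl d₁ := PicLoc.isInvertibleCl_pullCl _ hd₀
  have hφd₁ : (φP T₁ d₁).left = Spec.map (CommRingCat.ofHom L₁.ι) ≫ β := by
    rw [hP.natural _ _ _ _ hd₀, hφd₀]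
    show j ≫ (U i).hom ≫ β = _
    rw [← Category.assoc, hj]
  clear_value d₁
  -- the class of `α`
  have hnu₁ : L₁.ι ε * L₁.ι ε = 0 := by rw [← map_mul, hεε, map_zero]
  haveI : Nontrivial (L₁.R ⧸ Ideal.span ({L₁.ι ε} : Set L₁.R)) := by
    refine Ideal.Quotient.nontrivial_iff.2 fun htop => ?_
    have hu : IsUnit (L₁.ι ε) := Ideal.span_singleton_eq_top.1 htop
    exact not_isUnit_zero (hnu₁ ▸ hu.mul hu)
  let π₁ : L₁.R →+* L₁.R ⧸ Ideal.span ({L₁.ι ε} : Set L₁.R) := Ideal.Quotient.mk _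
  have hb : RingHom.ker φ ≤ RingHom.ker (π₁.comp L₁.ι) := by
    rw [hker, Ideal.span_le]
    rintro x rfl
    exact Ideal.Quotient.eq_zero_iff_mem.2 (Ideal.mem_span_singleton_self _)
  let b₁ : B →+* L₁.R ⧸ Ideal.span ({L₁.ι ε} : Set L₁.R) := RingHom.liftOfSurjective φ hφ ⟨π₁.comp L₁.ι, hb⟩
  have hb₁ : ∀ y, b₁ (φ y) = π₁ (L₁.ι y) := fun y =>
    RingHom.liftOfRightInverse_comp_apply φ _ (Function.rightInverse_surjInv hφ) ⟨π₁.comp L₁.ι, hb⟩ y
  have hb₁' : Spec.map (CommRingCat.ofHom b₁) ≫ Spec.map (CommRingCat.ofHom φ) =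
      Spec.map (CommRingCat.ofHom π₁) ≫ Spec.map (CommRingCat.ofHom L₁.ι) := by
    rw [← Spec.map_comp, ← Spec.map_comp]
    congr 1
    exact CommRingCat.hom_ext (RingHom.ext hb₁)
  let T₁' : Over S := Over.mk (Spec.map (CommRingCat.ofHom π₁) ≫ T₁.hom)
  let α₁ : T₁' ⟶ P := Over.homMk (Spec.map (CommRingCat.ofHom b₁) ≫ α) (by
    show (_ ≫ α) ≫ P.hom = Spec.map _ ≫ Spec.map _ ≫ β ≫ P.hom
    rw [Category.assoc, hS, ← Category.assoc, hb₁', Category.assoc])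
  obtain ⟨κ₂, U₂, hU₂, hc₂⟩ := hP.locallySurjective T₁' α₁
  obtain ⟨L₂, b₂, i₂, j₂, hb₂, hj₂⟩ := exists_refine π₁ Ideal.Quotient.mk_surjective (L₁.ι ε) Ideal.mk_ker U₂ hU₂
  obtain ⟨c₂₀, hc₂₀, hφc₂₀⟩ := hc₂ i₂
  let π₂ : L₂.R →+* L₂.R ⧸ Ideal.span ({L₂.ι (L₁.ι ε)} : Set L₂.R) := Ideal.Quotient.mk _
  let T₂ : Over S := Over.mk (Spec.map (CommRingCat.ofHom L₂.ι) ≫ T₁.hom)
  let T₂' : Over S := Over.mk (Spec.map (CommRingCat.ofHom π₂) ≫ T₂.hom)
  let ν₂ : T₂ ⟶ T₁ := Over.homMk (Spec.map (CommRingCat.ofHom L₂.ι)) rfl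
  let mq₂ : T₂' ⟶ T₂ := Over.homMk (Spec.map (CommRingCat.ofHom π₂)) rfl
  have hb₂' : Spec.map (CommRingCat.ofHom b₂) ≫ Spec.map (CommRingCat.ofHom π₁) =
      Spec.map (CommRingCat.ofHom π₂) ≫ Spec.map (CommRingCat.ofHom L₂.ι) := by
    rw [← Spec.map_comp, ← Spec.map_comp]
    congr 1
    exact CommRingCat.hom_ext (RingHom.ext hb₂)
  let jj₂ : T₂' ⟶ PicRel.ovr T₁' (U₂ i₂) := Over.homMk j₂ (by
    show j₂ ≫ (U₂ i₂).hom ≫ Spec.map _ ≫ T₁.hom = Spec.map _ ≫ Spec.map _ ≫ T₁.hom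
    rw [← Category.assoc, hj₂, ← Category.assoc, hb₂', Category.assoc])
  let c₂ := PicF.pullCl (PicF.XTmap f jj₂) c₂₀
  have hc₂i : PicF.IsInvertibleCl c₂ := PicLoc.isInvertibleCl_pullCl _ hc₂₀
  have hφc₂ : (φP T₂' c₂).left = Spec.map (CommRingCat.ofHom b₂) ≫ Spec.map (CommRingCat.ofHom b₁) ≫ α := by
    rw [hP.natural _ _ _ _ hc₂₀, hφc₂₀]
    show j₂ ≫ (U₂ i₂).hom ≫ Spec.map _ ≫ α = _
    rw [← Category.assoc, hj₂]
  clear_value c₂
  let d₂ := PicF.pullCl (PicF.XTmap f (mq₂ ≫ ν₂)) d₁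
  have hd₂ : PicF.IsInvertibleCl d₂ := PicLoc.isInvertibleCl_pullCl _ hd₁
  have heq : φP T₂' (c₂ ^ n) = φP T₂' d₂ := by
    rw [hm T₂' c₂ hc₂i, hP.natural _ _ _ _ hd₁]
    refine Over.OverMorphism.ext ?_
    show (φP T₂' c₂).left ≫ m.left = (Spec.map _ ≫ Spec.map _) ≫ (φP T₁ d₁).left
    rw [hφc₂, hφd₁, Category.assoc, Category.assoc, ← hcomm, reassoc_of% hb₁', reassoc_of% hb₂']
    rfl
  obtain ⟨κ₃, U₃, hU₃, hloc⟩ := hP.locallyInjective T₂' _ _ (isInvertibleCl_pow hc₂i n) hd₂ heq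
  have hnu₂ : L₂.ι (L₁.ι ε) * L₂.ι (L₁.ι ε) = 0 := by rw [← map_mul, hnu₁, map_zero]
  haveI : Nontrivial (L₂.R ⧸ Ideal.span ({L₂.ι (L₁.ι ε)} : Set L₂.R)) := by
    refine Ideal.Quotient.nontrivial_iff.2 fun htop => ?_
    have hu : IsUnit (L₂.ι (L₁.ι ε)) := Ideal.span_singleton_eq_top.1 htop
    exact not_isUnit_zero (hnu₂ ▸ hu.mul hu)
  obtain ⟨L₃, b₃, i₃, j₃, hb₃, hj₃⟩ :=
    exists_refine π₂ Ideal.Quotient.mk_surjective (L₂.ι (L₁.ι ε)) Ideal.mk_ker U₃ hU₃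
  -- the root over the last level
  let L : Lev B' := (L₁.trans L₂).trans L₃
  let π₃ : L.R →+* L.R ⧸ Ideal.span ({L.ι ε} : Set L.R) := Ideal.Quotient.mk _
  let T₃ : Over S := Over.mk (Spec.map (CommRingCat.ofHom L₃.ι) ≫ T₂.hom)
  let T₃' : Over S := Over.mk (Spec.map (CommRingCat.ofHom π₃) ≫ T₃.hom)
  let ν₃ : T₃ ⟶ T₂ := Over.homMk (Spec.map (CommRingCat.ofHom L₃.ι)) rfl
  let mq₃ : T₃' ⟶ T₃ := Over.homMk (Spec.map (CommRingCat.ofHom π₃)) rfl
  have hb₃' : Spec.map (CommRingCat.ofHom b₃) ≫ Spec.map (CommRingCat.ofHom π₂) =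
      Spec.map (CommRingCat.ofHom π₃) ≫ Spec.map (CommRingCat.ofHom L₃.ι) := by
    rw [← Spec.map_comp, ← Spec.map_comp]
    congr 1
    exact CommRingCat.hom_ext (RingHom.ext hb₃)
  let jj₃ : T₃' ⟶ PicRel.ovr T₂' (U₃ i₃) := Over.homMk j₃ (by
    show j₃ ≫ (U₃ i₃).hom ≫ Spec.map _ ≫ T₂.hom = Spec.map _ ≫ Spec.map _ ≫ T₂.hom
    rw [← Category.assoc, hj₃, ← Category.assoc]
    erw [hb₃']
    rw [Category.assoc])
  let e₃ : T₃' ⟶ T₂' := jj₃ ≫ PicRel.ovrHom T₂' (U₃ i₃)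
  have he₃ : e₃.left = Spec.map (CommRingCat.ofHom b₃) := hj₃
  let c₃ := PicF.pullCl (PicF.XTmap f e₃) c₂
  have hc₃i : PicF.IsInvertibleCl c₃ := PicLoc.isInvertibleCl_pullCl _ hc₂i
  let d₃ := PicF.pullCl (PicF.XTmap f (ν₃ ≫ ν₂)) d₁
  have hd₃ : PicF.IsInvertibleCl d₃ := PicLoc.isInvertibleCl_pullCl _ hd₁
  have hsq : mq₃ ≫ ν₃ ≫ ν₂ = e₃ ≫ mq₂ ≫ ν₂ := by
    refine Over.OverMorphism.ext ?_
    show Spec.map _ ≫ Spec.map _ ≫ Spec.map _ = e₃.left ≫ Spec.map _ ≫ Spec.map _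
    rw [he₃]
    erw [reassoc_of% hb₃']
  let t : PicF.XT f T₃' ⟶ PicF.XT f T₃ := PicF.XTmap f mq₃
  have hrel : c₃ ^ n = PicF.pullCl t d₃ := by
    have h1 : PicF.pullCl t d₃ = PicF.pullCl (PicF.XTmap f e₃) d₂ := by
      rw [PicClLib.pullCl_comp, ← PicClLib.XTmap_comp, hsq, PicClLib.XTmap_comp, ← PicClLib.pullCl_comp]
    rw [h1, ← PicMul.pullCl_pow, show e₃ = jj₃ ≫ PicRel.ovrHom T₂' (U₃ i₃) from rfl, PicClLib.XTmap_comp,
      ← PicClLib.pullCl_comp, ← PicClLib.pullCl_comp, hloc i₃]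
  have sqt : IsPullback t (pullback.snd f T₃'.hom) (pullback.snd f T₃.hom) (Spec.map (CommRingCat.ofHom π₃)) := by
    refine IsPullback.of_right ?_ (pullback.lift_snd _ _ _) (IsPullback.of_hasPullback f T₃.hom)
    have e : t ≫ pullback.fst f T₃.hom = pullback.fst f T₃'.hom :=
      (pullback.lift_fst _ _ _).trans (Category.comp_id _)
    rw [e]
    exact IsPullback.of_hasPullback _ _
  haveI : IsClosedImmersion t := PicLift.closed_of_sq Ideal.Quotient.mk_surjective sqt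
  have hI : t.ker * t.ker = ⊥ := by
    refine Scheme.IdealSheafData.ext (funext fun C => ?_)
    rw [Scheme.IdealSheafData.ideal_mul]
    show t.ker.ideal C * t.ker.ideal C = (⊥ : Scheme.IdealSheafData _).ideal C
    rw [PicLift.ideal_ker Ideal.Quotient.mk_surjective sqt C.2, ← Ideal.map_mul, Ideal.mk_ker,
      Ideal.span_singleton_mul_span_singleton, ← map_mul, hεε, map_zero, Ideal.span_singleton_eq_bot.2 rfl,
      Ideal.map_bot]
    simp
  have hnu : IsUnit (n : Coh.Γtop (PicF.XT f T₃)) := by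
    have h := (hn.map L.ι).map (Coh.toGlobal (A := L.R) (pullback.snd f T₃.hom))
    rwa [map_natCast, map_natCast] at h
  obtain ⟨c', hc', hpow, hres⟩ := NthRoot.exists_root t hI hnu hc₃i hd₃ hrel
  -- the lift and its descent
  let γ₁ := φP T₃ c'
  have hγh : γ₁.left ≫ m.left = Spec.map (CommRingCat.ofHom L.ι) ≫ β := by
    show (γ₁ ≫ m).left = _
    rw [← hm T₃ c' hc', hpow, hP.natural _ _ _ _ hd₁]
    show (Spec.map _ ≫ Spec.map _) ≫ (φP T₁ d₁).left = _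
    rw [hφd₁, ← Category.assoc, ← Spec.map_comp, ← Spec.map_comp]
    rfl
  let b : B →+* L.R ⧸ Ideal.span ({L.ι ε} : Set L.R) := b₃.comp (b₂.comp b₁)
  have hbL : ∀ y, b (φ y) = Ideal.Quotient.mk _ (L.ι y) := fun y => by
    show b₃ (b₂ (b₁ (φ y))) = _
    rw [hb₁, hb₂]
    exact hb₃ _
  have hγα : Spec.map (CommRingCat.ofHom π₃) ≫ γ₁.left = Spec.map (CommRingCat.ofHom b) ≫ α := by
    show (mq₃ ≫ γ₁).left = _
    rw [← hP.natural _ _ mq₃ _ hc', hres, hP.natural _ _ e₃ _ hc₂i]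
    show e₃.left ≫ (φP T₂' c₂).left = _
    rw [he₃, hφc₂, ← Category.assoc, ← Category.assoc, ← Spec.map_comp, ← Spec.map_comp]
    rfl
  exact exists_descend m.left φ hφ ε hker hεε α β hcomm L b hbL γ₁.left hγh hγα

end Groth.Agent.PicTangent.PowLift
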