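import Groth.Agent.PicTangent.NthRoot
import Groth.Agent.PicTangent.DualTest
import Groth.Agent.PicLift.Flat
import Groth.Agent.S1297
import Groth.Prelude.Def_PicRel2
import Mathlib.RingTheory.Smooth.Basic

/-!
# The power map of a relative Picard scheme has no tangent vectors where the exponent is invertible
-/

set_option autoImplicit false
set_option linter.style.haveILetI false
set_option linter.unusedSectionVars false
set_option backward.isDefEq.respectTransparency false
set_option backward.isDefEq.respectTransparency.types false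
set_option maxHeartbeats 1000000

universe u

open CategoryTheory CategoryTheory.Limits AlgebraicGeometry TopologicalSpace Opposite

noncomputable section

namespace Groth.Agent.PicTangent.PowUnram

open Groth.Agent Groth.Agent.H23

attribute [local instance] PicMul.clMonoid

/-- Etale coverings of the spectrum of a thickening of an algebraically closed field have sections. -/
theorem exists_section {K A : Type u} [Field K] [IsAlgClosed K] [CommRing A] (res : A →+* K)
    (hres : Function.Surjective res) (hnil : IsNilpotent (RingHom.ker res)) {κ : Type u}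
    (U : κ → (Spec (CommRingCat.of A)).Etale) (hU : EtCoh.Covers U) :
    ∃ (i : κ) (s : Spec (CommRingCat.of A) ⟶ (U i).left), s ≫ (U i).hom = 𝟙 _ := by
  haveI : Nontrivial A := res.domain_nontrivial
  obtain ⟨p⟩ : Nonempty (PrimeSpectrum A) := inferInstance
  obtain ⟨i, y, -⟩ := hU p
  let h : (U i).left ⟶ Spec (CommRingCat.of A) := (U i).hom
  haveI : Etale h := (U i).prop
  obtain ⟨W, hW, hyW, -⟩ := exists_isAffineOpen_mem_and_subset (U := (⊤ : (U i).left.Opens)) (x := y) trivial
  let g : CommRingCat.of A ⟶ Γ((U i).left, W) :=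
    (Scheme.ΓSpecIso (CommRingCat.of A)).inv ≫ h.appLE ⊤ W le_top
  have hg : g.hom.Etale :=
    (RingHom.Etale.respectsIso.cancel_left_isIso _ _).2 (h.etale_appLE (isAffineOpen_top _) hW le_top)
  have hgW : Spec.map g = hW.fromSpec ≫ h := by
    rw [Spec.map_comp, ← IsAffineOpen.SpecMap_appLE_fromSpec h (isAffineOpen_top _) hW le_top,
      IsAffineOpen.fromSpec_top, Scheme.isoSpec_Spec_inv]
  let W' := Γ((U i).left, W)
  letI : Algebra A W' := g.hom.toAlgebra
  haveI : Algebra.Etale A W' := hg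
  haveI : Nonempty W := ⟨⟨y, hyW⟩⟩
  haveI : Nontrivial W' := inferInstance
  obtain ⟨n, hn⟩ := Ideal.exists_maximal W'
  letI : Field (W' ⧸ n) := Ideal.Quotient.field n
  have hk : RingHom.ker res ≤ RingHom.ker (algebraMap A (W' ⧸ n)) := fun x hx => by
    obtain ⟨M, hM⟩ := hnil
    rw [RingHom.mem_ker]
    refine IsNilpotent.eq_zero ⟨M, ?_⟩
    have := Ideal.pow_mem_pow hx M
    rw [hM, Ideal.zero_eq_bot, Ideal.mem_bot] at this
    rw [← map_pow, this, map_zero]
  letI : Algebra A K := res.toAlgebra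
  letI : Algebra K (W' ⧸ n) := (res.liftOfSurjective hres ⟨algebraMap A (W' ⧸ n), hk⟩).toAlgebra
  haveI : IsScalarTower A K (W' ⧸ n) := IsScalarTower.of_algebraMap_eq fun x =>
    (RingHom.liftOfRightInverse_comp_apply res _ (Function.rightInverse_surjInv hres)
      ⟨algebraMap A (W' ⧸ n), hk⟩ x).symm
  haveI : Algebra.FiniteType A (W' ⧸ n) :=
    Algebra.FiniteType.trans (S := W') inferInstance
      (Algebra.FiniteType.of_surjective (Ideal.Quotient.mkₐ W' n) Ideal.Quotient.mk_surjective)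
  haveI : Algebra.FiniteType K (W' ⧸ n) := Algebra.FiniteType.of_restrictScalars_finiteType A K (W' ⧸ n)
  haveI : Module.Finite K (W' ⧸ n) := finite_of_finite_type_of_isJacobsonRing K (W' ⧸ n)
  have hbij : Function.Bijective (algebraMap K (W' ⧸ n)) :=
    IsAlgClosed.algebraMap_bijective_of_isIntegral (k := K) (K := W' ⧸ n)
  let red : A →ₐ[A] (W' ⧸ n) := Algebra.ofId A (W' ⧸ n)
  have hred : Function.Surjective red := fun x => by
    obtain ⟨c, rfl⟩ := hbij.2 x
    obtain ⟨a, rfl⟩ := hres c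
    exact ⟨a, IsScalarTower.algebraMap_apply A K (W' ⧸ n) a⟩
  have hredn : IsNilpotent (RingHom.ker (red : A →+* W' ⧸ n)) := by
    obtain ⟨M, hM⟩ := hnil
    refine ⟨M, le_bot_iff.1 ((Ideal.pow_right_mono (fun x hx => ?_) M).trans hM.le)⟩
    rw [RingHom.mem_ker] at hx ⊢
    refine hbij.1 ?_
    rw [map_zero]
    exact (IsScalarTower.algebraMap_apply A K (W' ⧸ n) x).symm.trans hx
  let j : W' →ₐ[A] A := Algebra.FormallySmooth.liftOfSurjective (Ideal.Quotient.mkₐ A n) red hred hredn
  refine ⟨i, Spec.map (CommRingCat.ofHom j.toRingHom) ≫ hW.fromSpec, ?_⟩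
  show (_ ≫ _) ≫ h = _
  rw [Category.assoc, ← hgW, ← Spec.map_comp, ← Spec.map_id]
  congr 1
  exact CommRingCat.hom_ext (RingHom.ext fun x => j.commutes x)

variable {X S : Scheme.{u}} (f : X ⟶ S) [IsProper f] {P : Over S}
  {φP : ∀ T : Over S, PicF.Cl (PicF.XT f T) → (T ⟶ P)} (hP : PicRel.IsRelPic f P φP) {n : ℕ} {m : P ⟶ P}
  (hm : ∀ (T : Over S) (c : PicF.Cl (PicF.XT f T)), PicF.IsInvertibleCl c → φP T (c ^ n) = φP T c ≫ m)

include hP in
/-- Over the spectrum of a thickening of an algebraically closed field, points are classes. -/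
theorem exists_class {K A : Type u} [Field K] [IsAlgClosed K] [CommRing A] (res : A →+* K)
    (hres : Function.Surjective res) (hnil : IsNilpotent (RingHom.ker res))
    (v : Spec (CommRingCat.of A) ⟶ S) (a : Over.mk v ⟶ P) :
    ∃ c, PicF.IsInvertibleCl c ∧ φP (Over.mk v) c = a := by
  obtain ⟨κ, U, hU, hc⟩ := hP.locallySurjective _ a
  obtain ⟨i, s, hs⟩ := exists_section res hres hnil U hU
  obtain ⟨c, hc, hφ⟩ := hc i
  let ss : Over.mk v ⟶ PicRel.ovr (Over.mk v) (U i) := Over.homMk s (by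
    show s ≫ (U i).hom ≫ v = v
    rw [← Category.assoc, hs]
    exact Category.id_comp _)
  refine ⟨_, PicLoc.isInvertibleCl_pullCl (PicF.XTmap f ss) hc, ?_⟩
  rw [hP.natural _ _ _ _ hc, hφ]
  refine Over.OverMorphism.ext ?_
  show s ≫ (U i).hom ≫ a.left = a.left
  rw [← Category.assoc, hs]
  exact Category.id_comp _

include hP in
/-- Over the spectrum of a thickening of an algebraically closed field, points determine classes. -/
theorem class_eq {K A : Type u} [Field K] [IsAlgClosed K] [CommRing A] (res : A →+* K)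
    (hres : Function.Surjective res) (hnil : IsNilpotent (RingHom.ker res))
    (v : Spec (CommRingCat.of A) ⟶ S) {c d : PicF.Cl (PicF.XT f (Over.mk v))} (hc : PicF.IsInvertibleCl c)
    (hd : PicF.IsInvertibleCl d) (h : φP _ c = φP _ d) : c = d := by
  obtain ⟨κ, U, hU, heq⟩ := hP.locallyInjective _ c d hc hd h
  obtain ⟨i, s, hs⟩ := exists_section res hres hnil U hU
  let ss : Over.mk v ⟶ PicRel.ovr (Over.mk v) (U i) := Over.homMk s (by
    show s ≫ (U i).hom ≫ v = v
    rw [← Category.assoc, hs]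
    exact Category.id_comp _)
  have e : ss ≫ PicRel.ovrHom (Over.mk v) (U i) = 𝟙 _ := Over.OverMorphism.ext hs
  have e' : PicF.XTmap f (𝟙 (Over.mk v)) = 𝟙 _ := by apply pullback.hom_ext <;> simp [PicF.XTmap] <;> exact Category.id_comp _
  have key := congrArg (PicF.pullCl (PicF.XTmap f ss)) (heq i)
  rwa [PicClLib.pullCl_comp, PicClLib.pullCl_comp, ← PicClLib.XTmap_comp, e, e', PicClLib.pullCl_id,
    PicClLib.pullCl_id] at key

include hP hm in
/-- Tangent vectors at geometric points are determined by their images. -/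
theorem ext_dual {K : Type u} [Field K] [IsAlgClosed K] (hn : (n : K) ≠ 0)
    (γ₁ γ₂ : Spec (CommRingCat.of (DualNumber K)) ⟶ P.left) (hγm : γ₁ ≫ m.left = γ₂ ≫ m.left)
    (hγ₀ : Spec.map (CommRingCat.ofHom (TrivSqZeroExt.fstHom K K K).toRingHom) ≫ γ₁ =
      Spec.map (CommRingCat.ofHom (TrivSqZeroExt.fstHom K K K).toRingHom) ≫ γ₂) : γ₁ = γ₂ := by
  let e₀ : DualNumber K →+* K := (TrivSqZeroExt.fstHom K K K).toRingHom
  have he₀ : Function.Surjective e₀ := fun x => ⟨TrivSqZeroExt.inl x, rfl⟩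
  have hsq : RingHom.ker e₀ * RingHom.ker e₀ = ⊥ := by
    rw [eq_bot_iff, Ideal.mul_le]
    intro a ha b hb
    rw [Ideal.mem_bot]
    have ha' : TrivSqZeroExt.fst a = 0 := ha
    have hb' : TrivSqZeroExt.fst b = 0 := hb
    refine TrivSqZeroExt.ext ((TrivSqZeroExt.fst_mul a b).trans (by rw [ha', zero_mul]; rfl))
      ((TrivSqZeroExt.snd_mul a b).trans (by rw [ha', hb']; simp))
  have hnil : IsNilpotent (RingHom.ker e₀) := ⟨2, by rw [Submodule.pow_succ, Submodule.pow_one, hsq, Ideal.zero_eq_bot]⟩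
  have hid : IsNilpotent (RingHom.ker (RingHom.id K)) :=
    ⟨1, by rw [pow_one, (RingHom.injective_iff_ker_eq_bot _).1 Function.injective_id, Ideal.zero_eq_bot]⟩
  have hw : γ₂ ≫ P.hom = γ₁ ≫ P.hom := by rw [← Over.w m, reassoc_of% hγm]
  let v := γ₁ ≫ P.hom
  let T : Over S := Over.mk v
  let a₁ : T ⟶ P := Over.homMk γ₁ rfl
  let a₂ : T ⟶ P := Over.homMk γ₂ hw
  obtain ⟨c₁, hc₁, h₁⟩ := exists_class f hP e₀ he₀ hnil v a₁
  obtain ⟨c₂, hc₂, h₂⟩ := exists_class f hP e₀ he₀ hnil v a₂
  have hinv : ∀ {Y : Scheme.{u}} {c : PicF.Cl Y}, PicF.IsInvertibleCl c → ∀ k : ℕ, PicF.IsInvertibleCl (c ^ k) := by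
    intro Y c hc k
    induction k with
    | zero => rw [pow_zero]; exact ⟨_, rfl, PicLoc.isInvertible_structureModule _⟩
    | succ k ih => rw [pow_succ]; exact PicMul.isInvertibleCl_mul ih hc
  have hpow : c₁ ^ n = c₂ ^ n := by
    refine class_eq f hP e₀ he₀ hnil v (hinv hc₁ n) (hinv hc₂ n) ?_
    rw [hm _ _ hc₁, hm _ _ hc₂, h₁, h₂]
    exact Over.OverMorphism.ext hγm
  let T₀ : Over S := Over.mk (Spec.map (CommRingCat.ofHom e₀) ≫ v)
  let q : T₀ ⟶ T := Over.homMk (Spec.map (CommRingCat.ofHom e₀)) rfl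
  have hres : PicF.pullCl (PicF.XTmap f q) c₁ = PicF.pullCl (PicF.XTmap f q) c₂ := by
    refine class_eq f hP (RingHom.id K) Function.surjective_id hid _ (PicLoc.isInvertibleCl_pullCl _ hc₁)
      (PicLoc.isInvertibleCl_pullCl _ hc₂) ?_
    rw [hP.natural T T₀ q c₁ hc₁, hP.natural T T₀ q c₂ hc₂, h₁, h₂]
    exact Over.OverMorphism.ext hγ₀
  let t : PicF.XT f T₀ ⟶ PicF.XT f T := PicF.XTmap f q
  have sqt : IsPullback t (pullback.snd f T₀.hom) (pullback.snd f T.hom) (Spec.map (CommRingCat.ofHom e₀)) := by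
    refine IsPullback.of_right ?_ (pullback.lift_snd _ _ _) (IsPullback.of_hasPullback f T.hom)
    have e : t ≫ pullback.fst f T.hom = pullback.fst f T₀.hom :=
      (pullback.lift_fst _ _ _).trans (Category.comp_id _)
    rw [e]
    exact IsPullback.of_hasPullback _ _
  haveI : IsClosedImmersion t := PicLift.closed_of_sq he₀ sqt
  have hI : t.ker * t.ker = ⊥ := by
    refine Scheme.IdealSheafData.ext (funext fun C => ?_)
    rw [Scheme.IdealSheafData.ideal_mul]
    show t.ker.ideal C * t.ker.ideal C = (⊥ : Scheme.IdealSheafData _).ideal C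
    rw [PicLift.ideal_ker he₀ sqt C.2, ← Ideal.map_mul, hsq, Ideal.map_bot]
    simp
  have hn0 : n ≠ 0 := fun h => hn (by simp [h])
  have hnu : IsUnit (n : Coh.Γtop (PicF.XT f T)) := by
    have h := ((Ne.isUnit hn).map (algebraMap K (DualNumber K))).map
      (Coh.toGlobal (A := DualNumber K) (pullback.snd f T.hom))
    rwa [map_natCast, map_natCast] at h
  have hroot : ∀ y : Γ(PicF.XT f T₀, ⊤), IsUnit y → ∃ w, w ^ n = y := by
    let p₀ : PicF.XT f T₀ ⟶ Spec (CommRingCat.of K) := pullback.snd f T₀.hom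
    haveI : IsProper p₀ := inferInstanceAs (IsProper (pullback.snd f _))
    let ρ : K →+* Γ(PicF.XT f T₀, ⊤) := p₀.appTop.hom.comp (Scheme.ΓSpecIso (CommRingCat.of K)).inv.hom
    letI : Algebra K Γ(PicF.XT f T₀, ⊤) := ρ.toAlgebra
    haveI : Module.Finite K Γ(PicF.XT f T₀, ⊤) :=
      RingHom.finite_algebraMap.1 ((S1297.finite_appTop p₀).comp (RingHom.Finite.of_surjective _
        (Scheme.ΓSpecIso (CommRingCat.of K)).symm.commRingCatIsoToRingEquiv.surjective))
    exact DualTest.exists_root_unit (K := K) hn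
  have hc : c₁ = c₂ := NthRoot.eq_of_pow_eq t hI hn0 hnu hroot hc₁ hc₂ hpow hres
  rw [hc, h₂] at h₁
  exact (congrArg CommaMorphism.left h₁).symm

end Groth.Agent.PicTangent.PowUnram
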