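import Groth.Agent.H23.KunnethH1
import Mathlib.Algebra.DualNumber

/-!
# Functions on `X × Spec R` over affine bases, and the algebra of dual numbers
-/

set_option autoImplicit false
set_option linter.style.haveILetI false
set_option backward.isDefEq.respectTransparency false
set_option backward.isDefEq.respectTransparency.types false

universe u

open CategoryTheory CategoryTheory.Limits AlgebraicGeometry MonoidalCategory CartesianMonoidalCategory
  TopologicalSpace TensorProduct Opposite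

noncomputable section

namespace Groth.Agent.PicTangent

open Groth.Agent.AModX Groth.Agent.H23 Groth.Agent.H23.ProdFun

variable {k : Type u} [Field k]

/-- The spectrum of an algebra over the field. -/
abbrev T (R : Type u) [CommRing R] [Algebra k R] : Over (Spec (CommRingCat.of k)) :=
  Over.mk (Spec.map (CommRingCat.ofHom (algebraMap k R)))

variable {R R' R'' : Type u} [CommRing R] [Algebra k R] [CommRing R'] [Algebra k R'] [CommRing R''] [Algebra k R'']

/-- The morphism of spectra of an algebra map. -/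
def Tmap (φ : R →ₐ[k] R') : T (k := k) R' ⟶ T R :=
  Over.homMk (Spec.map (CommRingCat.ofHom φ.toRingHom)) (by
    show Spec.map _ ≫ Spec.map _ = Spec.map _
    rw [← Spec.map_comp, ← CommRingCat.ofHom_comp, AlgHom.toRingHom_eq_coe, φ.comp_algebraMap])

@[simp] theorem Tmap_left (φ : R →ₐ[k] R') : (Tmap φ).left = Spec.map (CommRingCat.ofHom φ.toRingHom) := rfl

theorem Tmap_comp (φ : R →ₐ[k] R') (ψ : R' →ₐ[k] R'') : Tmap ψ ≫ Tmap φ = Tmap (ψ.comp φ) := by
  refine Over.OverMorphism.ext ?_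
  show Spec.map _ ≫ Spec.map _ = Spec.map _
  rw [← Spec.map_comp]
  rfl

theorem Tmap_eq_iff {φ ψ : R →ₐ[k] R'} : Tmap φ = Tmap ψ ↔ φ = ψ := by
  refine ⟨fun h => AlgHom.ext fun r => ?_, fun h => h ▸ rfl⟩
  have h' := Spec.map_injective (congrArg CommaMorphism.left h)
  exact congr($(h').hom r)

theorem algebraMap_T (R : Type u) [CommRing R] [Algebra k R] (c : k) :
    algebraMap k Γ((T (k := k) R).left, ⊤) c = (Scheme.ΓSpecIso (CommRingCat.of R)).inv (algebraMap k R c) := by
  show (T R).hom.appLE ⊤ ⊤ le_top ((Scheme.ΓSpecIso (CommRingCat.of k)).inv c) = _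
  rw [show (T (k := k) R).hom.appLE ⊤ ⊤ le_top = (T R).hom.appTop by simp [Scheme.Hom.appLE]]
  exact (ConcreteCategory.congr_hom (Scheme.ΓSpecIso_inv_naturality (CommRingCat.ofHom (algebraMap k R))) c).symm

/-- The functions on a spectrum. -/
def ρ (R : Type u) [CommRing R] [Algebra k R] : R →ₐ[k] Γ((T (k := k) R).left, ⊤) :=
  { (Scheme.ΓSpecIso (CommRingCat.of R)).inv.hom with commutes' := fun c => (algebraMap_T R c).symm }

theorem ρ_bijective (R : Type u) [CommRing R] [Algebra k R] : Function.Bijective (ρ (k := k) R) :=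
  ConcreteCategory.bijective_of_isIso (Scheme.ΓSpecIso (CommRingCat.of R)).inv

theorem pullFun_ρ (φ : R →ₐ[k] R') (h : (⊤ : (T (k := k) R').left.Opens) ≤ (Tmap φ).left ⁻¹ᵁ ⊤) (r : R) :
    pullFun (Tmap φ) h (ρ R r) = ρ R' (φ r) := by
  rw [pullFun_top]
  exact (ConcreteCategory.congr_hom (Scheme.ΓSpecIso_inv_naturality (CommRingCat.ofHom φ.toRingHom)) r).symm

variable (X : Over (Spec (CommRingCat.of k)))

/-- Restriction of functions. -/
abbrev rX {X : Over (Spec (CommRingCat.of k))} {U' U : X.left.Opens} (h : U' ≤ U) :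
    Γ(X.left, U) →ₐ[k] Γ(X.left, U') :=
  pullFun (𝟙 X) (show U' ≤ (𝟙 X : X ⟶ X).left ⁻¹ᵁ U from h)

theorem rX_rX {X : Over (Spec (CommRingCat.of k))} {U'' U' U : X.left.Opens} (h : U'' ≤ U') (h' : U' ≤ U)
    (a : Γ(X.left, U)) : rX h (rX h' a) = rX (h.trans h') a := by
  rw [KunnethH1.pullFun_res _ h, KunnethH1.pullFun_res _ h', KunnethH1.pullFun_res _ (h.trans h'), resR_resR]

/-- The open over an open of the base. -/
abbrev P (R : Type u) [CommRing R] [Algebra k R] (U : X.left.Opens) : (X ⊗ T (k := k) R).left.Opens :=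
  box U (⊤ : (T (k := k) R).left.Opens)

/-- The comparison map. -/
def Φ (R : Type u) [CommRing R] [Algebra k R] (U : X.left.Opens) :
    Γ(X.left, U) ⊗[k] R →ₐ[k] Γ((X ⊗ T (k := k) R).left, P X R U) :=
  (psi U ⊤).comp (Algebra.TensorProduct.map (AlgHom.id k _) (ρ R))

theorem Φ_bijective [IsSeparated X.hom] (U : X.left.Opens) (hU : IsCompact (U : Set X.left)) :
    Function.Bijective (Φ X R U) := by
  haveI : IsSeparated (T (k := k) R).hom := inferInstanceAs (IsSeparated (Spec.map _))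
  haveI : CompactSpace ↥(T (k := k) R).left := inferInstanceAs (CompactSpace (PrimeSpectrum R))
  refine (psi_bijective U hU (⊤ : (T (k := k) R).left.Opens) CompactSpace.isCompact_univ).comp ?_
  exact (TensorProduct.congr (LinearEquiv.refl k Γ(X.left, U))
    (LinearEquiv.ofBijective (ρ R).toLinearMap (ρ_bijective R))).bijective

/-- Restriction on tensors. -/
abbrev rT (R : Type u) [CommRing R] [Algebra k R] {U' U : X.left.Opens} (h : U' ≤ U) :
    Γ(X.left, U) ⊗[k] R →ₐ[k] Γ(X.left, U') ⊗[k] R :=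
  Algebra.TensorProduct.map (rX h) (AlgHom.id k R)

theorem P_mono {U' U : X.left.Opens} (h : U' ≤ U) : P X R U' ≤ P X R U := KunnethH1.box_mono h le_rfl

theorem resR_Φ {U' U : X.left.Opens} (h : U' ≤ U) (z : Γ(X.left, U) ⊗[k] R) :
    resR (P_mono X h) (Φ X R U z) = Φ X R U' (rT X R h z) := by
  induction z using TensorProduct.induction_on with
  | zero => simp only [map_zero]
  | add x y hx hy =>
    refine ((congrArg (resR (P_mono X h)) (map_add (Φ X R U) x y)).trans (map_add (resR (P_mono X h)) _ _)).trans ?_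
    refine (congrArg₂ (· + ·) hx hy).trans ?_
    exact ((congrArg (Φ X R U') (map_add (rT X R h) x y)).trans (map_add (Φ X R U') _ _)).symm
  | tmul a r =>
    show (X ⊗ T (k := k) R).left.presheaf.map (homOfLE (P_mono X h)).op (psi U ⊤ (a ⊗ₜ[k] ρ R r)) = _
    refine (map_psi h (le_refl ⊤) _ (a ⊗ₜ[k] ρ R r)).trans ?_
    show psi U' ⊤ (rX h a ⊗ₜ[k] pullFun (𝟙 (T R)) _ (ρ R r)) = psi U' ⊤ (rX h a ⊗ₜ[k] ρ R r)
    rw [KunnethH1.pullFun_res _ le_rfl, resR_self]

/-- The induced map on products. -/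
abbrev Q (φ : R →ₐ[k] R') : X ⊗ T (k := k) R' ⟶ X ⊗ T R := 𝟙 X ⊗ₘ Tmap φ

theorem P_preimage (φ : R →ₐ[k] R') (U : X.left.Opens) : (Q X φ).left ⁻¹ᵁ P X R U = P X R' U := by
  have h1 : (Q X φ).left ⁻¹ᵁ ((fst X (T R)).left ⁻¹ᵁ U) = (fst X (T R')).left ⁻¹ᵁ U := by
    rw [← Scheme.Hom.comp_preimage, ← Over.comp_left, tensorHom_fst, Category.comp_id]
  show (Q X φ).left ⁻¹ᵁ ((fst X (T R)).left ⁻¹ᵁ U ⊓ (snd X (T R)).left ⁻¹ᵁ ⊤) = _
  rw [Scheme.Hom.preimage_inf, h1]
  rfl

theorem pullFun_Φ (φ : R →ₐ[k] R') (U : X.left.Opens) (e : P X R' U ≤ (Q X φ).left ⁻¹ᵁ P X R U)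
    (z : Γ(X.left, U) ⊗[k] R) :
    pullFun (Q X φ) e (Φ X R U z) = Φ X R' U (Algebra.TensorProduct.map (AlgHom.id k _) φ z) := by
  induction z using TensorProduct.induction_on with
  | zero =>
    refine ((congrArg (pullFun (Q X φ) e) (map_zero (Φ X R U))).trans (map_zero (pullFun (Q X φ) e))).trans ?_
    exact ((congrArg (Φ X R' U) (map_zero (Algebra.TensorProduct.map (AlgHom.id k _) φ))).trans (map_zero _)).symm
  | add x y hx hy =>
    refine ((congrArg (pullFun (Q X φ) e) (map_add (Φ X R U) x y)).trans (map_add (pullFun (Q X φ) e) _ _)).trans ?_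
    refine (congrArg₂ (· + ·) hx hy).trans ?_
    exact ((congrArg (Φ X R' U) (map_add (Algebra.TensorProduct.map (AlgHom.id k _) φ) x y)).trans (map_add (Φ X R' U) _ _)).symm
  | tmul a r =>
    show pullFun (𝟙 X ⊗ₘ Tmap φ) e (psi U ⊤ (a ⊗ₜ[k] ρ R r)) = _
    refine (pullFun_psi (𝟙 X) (Tmap φ) (show U ≤ (𝟙 X : X ⟶ X).left ⁻¹ᵁ U from le_rfl)
      (show (⊤ : (T (k := k) R').left.Opens) ≤ (Tmap φ).left ⁻¹ᵁ ⊤ from le_rfl) (a ⊗ₜ[k] ρ R r)).trans ?_
    show psi U ⊤ (rX le_rfl a ⊗ₜ[k] pullFun (Tmap φ) _ (ρ R r)) = psi U ⊤ (a ⊗ₜ[k] ρ R' (φ r))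
    rw [KunnethH1.pullFun_res _ le_rfl, resR_self, pullFun_ρ]

section El

variable {A B C : Type u} [CommRing A] [Algebra k A] [CommRing B] [Algebra k B] [CommRing C] [Algebra k C]
  {m : Type} [Fintype m]

/-- The element `1 + ∑ zᵢ ⊗ rᵢ`. -/
def el (z : m → A) (r : m → R) : A ⊗[k] R := 1 + ∑ i, z i ⊗ₜ[k] r i

theorem el_mul {r : m → R} (hr : ∀ i j, r i * r j = 0) (z z' : m → A) :
    el (k := k) z r * el z' r = el (z + z') r := by
  have h : (∑ i, z i ⊗ₜ[k] r i) * (∑ i, z' i ⊗ₜ[k] r i) = 0 := by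
    rw [Finset.sum_mul_sum]
    exact Finset.sum_eq_zero fun i _ => Finset.sum_eq_zero fun j _ => by
      rw [Algebra.TensorProduct.tmul_mul_tmul, hr, TensorProduct.tmul_zero]
  simp only [el, Pi.add_apply, TensorProduct.add_tmul, Finset.sum_add_distrib]
  linear_combination h

theorem el_zero (r : m → R) : el (k := k) (0 : m → A) r = 1 := by simp [el]

theorem map_el (f : A →ₐ[k] B) (g : R →ₐ[k] R') (z : m → A) (r : m → R) :
    Algebra.TensorProduct.map f g (el z r) = el (fun i => f (z i)) fun i => g (r i) := by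
  simp [el, map_sum, Algebra.TensorProduct.map_tmul]

/-- The element `1 + ∑ zᵢ ⊗ rᵢ` as a unit. -/
def elU {r : m → R} (hr : ∀ i j, r i * r j = 0) (z : m → A) : (A ⊗[k] R)ˣ where
  val := el z r
  inv := el (-z) r
  val_inv := by rw [el_mul hr, add_neg_cancel, el_zero]
  inv_val := by rw [el_mul hr, neg_add_cancel, el_zero]

end El

section Dual

variable {K : Type u} [CommRing K] [Algebra k K] {A : Type u} [CommRing A] [Algebra k A]

/-- Reduction. -/
abbrev fK (K : Type u) [CommRing K] [Algebra k K] : DualNumber K →ₐ[k] K :=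
  (TrivSqZeroExt.fstHom K K K).restrictScalars k

/-- The constants. -/
abbrev iK (K : Type u) [CommRing K] [Algebra k K] : K →ₐ[k] DualNumber K :=
  (Algebra.ofId K (DualNumber K)).restrictScalars k

/-- The coefficient of `ε`. -/
abbrev sK (K : Type u) [CommRing K] [Algebra k K] : DualNumber K →ₗ[k] K :=
  (TrivSqZeroExt.sndHom K K).restrictScalars k

/-- Multiplication by `ε`. -/
abbrev eK (K : Type u) [CommRing K] [Algebra k K] : K →ₗ[k] DualNumber K :=
  (TrivSqZeroExt.inrHom K K).restrictScalars k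

/-- Reduction of tensors. -/
abbrev fA (K A : Type u) [CommRing K] [Algebra k K] [CommRing A] [Algebra k A] :
    A ⊗[k] DualNumber K →ₐ[k] A ⊗[k] K := Algebra.TensorProduct.map (AlgHom.id k A) (fK K)

theorem decomp (ω : A ⊗[k] DualNumber K) :
    ω = Algebra.TensorProduct.map (AlgHom.id k A) (iK K) (fA K A ω) +
      (eK K).lTensor A ((sK K).lTensor A ω) := by
  induction ω using TensorProduct.induction_on with
  | zero => simp
  | add x y hx hy => conv_lhs => rw [hx, hy]
                     simp only [map_add]; abel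
  | tmul a x =>
    simp only [Algebra.TensorProduct.map_tmul, LinearMap.lTensor_tmul, AlgHom.coe_id, id_eq, ← TensorProduct.tmul_add]
    congr 1
    exact (TrivSqZeroExt.inl_fst_add_inr_snd_eq x).symm

theorem fA_eK (y : A ⊗[k] K) : fA K A ((eK K).lTensor A y) = 0 := by
  induction y using TensorProduct.induction_on with
  | zero => simp
  | add x y hx hy => simp [map_add, hx, hy]
  | tmul a x => simp

theorem sK_eK (y : A ⊗[k] K) : (sK K).lTensor A ((eK K).lTensor A y) = y := by
  rw [← LinearMap.lTensor_comp_apply]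
  exact LinearMap.congr_fun (LinearMap.lTensor_id A K) y

theorem snd_mul (ω ω' : A ⊗[k] DualNumber K) :
    (sK K).lTensor A (ω * ω') =
      fA K A ω * (sK K).lTensor A ω' + (sK K).lTensor A ω * fA K A ω' := by
  induction ω using TensorProduct.induction_on with
  | zero => simp
  | add x y hx hy => simp only [add_mul, map_add, hx, hy]; abel
  | tmul a x =>
    induction ω' using TensorProduct.induction_on with
    | zero => simp
    | add x y hx hy => simp only [mul_add, map_add, hx, hy]; abel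
    | tmul b y =>
      simp only [Algebra.TensorProduct.tmul_mul_tmul, LinearMap.lTensor_tmul, Algebra.TensorProduct.map_tmul,
        AlgHom.coe_id, id_eq, ← TensorProduct.tmul_add]
      congr 1

theorem eK_mul_eK (y y' : A ⊗[k] K) : (eK K).lTensor A y * (eK K).lTensor A y' = 0 := by
  rw [decomp ((eK K).lTensor A y * (eK K).lTensor A y'), map_mul, snd_mul, fA_eK, fA_eK]
  simp

theorem isUnit_of_fA (ω : A ⊗[k] DualNumber K) (h : IsUnit (fA K A ω)) : IsUnit ω := by
  rw [decomp ω]
  have hn : IsNilpotent ((eK K).lTensor A ((sK K).lTensor A ω)) := ⟨2, by rw [sq, eK_mul_eK]⟩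
  refine hn.isUnit_add_left_of_commute (h.map _) ?_
  show (_ : A ⊗[k] DualNumber K) * _ = _ * _
  ring

theorem eps_mul_eps {m : Type} (t : m → K) (i j : m) : eK (k := k) K (t i) * eK (k := k) K (t j) = 0 :=
  TrivSqZeroExt.inr_mul_inr K (t i) (t j)

end Dual

end Groth.Agent.PicTangent
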