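import Groth.Agent.PicTangent.SplitUnits
import Groth.Agent.PicLift.Flat
import Mathlib.RingTheory.HopkinsLevitzki

/-!
# Units on thickenings of flat families over Artinian rings
-/

universe u

set_option autoImplicit false
set_option linter.style.haveILetI false
set_option linter.unusedSectionVars false
set_option backward.isDefEq.respectTransparency false
set_option backward.isDefEq.respectTransparency.types false
set_option maxHeartbeats 1000000

open CategoryTheory CategoryTheory.Limits AlgebraicGeometry TopologicalSpace Opposite CategoryTheory.Abelian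

noncomputable section

namespace Groth.Agent.PicTangent.UnitsThick

open Groth.Agent Groth.Agent.AModX

variable {X Y Z : Scheme.{u}}

theorem comap_comp (a : Z ⟶ X) (b : X ⟶ Y) :
    UnitsSh.comap (a ≫ b) = UnitsSh.comap b ≫ (CohTop.push b.base).map (UnitsSh.comap a) := by
  ext W s
  rfl

theorem isIso_comap (e : Z ⟶ X) [IsIso e] : IsIso (UnitsSh.comap e) := by
  haveI : ∀ W, IsIso ((UnitsSh.comap e).hom.app W) := fun W => by
    show IsIso (UnitsSh.unitsFunctor.map (e.app W.unop))
    infer_instance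
  have h' : IsIso ((sheafToPresheaf _ _).map (UnitsSh.comap e)) := by
    show IsIso (UnitsSh.comap e).hom
    exact NatIso.isIso_of_isIso_app _
  exact @isIso_of_reflects_iso _ _ _ _ _ _ (UnitsSh.comap e) (sheafToPresheaf _ _) h' _

/-- The property of a map of sheaves propagated along the induction. -/
def GoodHom {F G : CohTop.Ab Y.toTopCat} (φ : F ⟶ G) (q : ℕ) : Prop :=
  Epi φ ∧ Function.Injective (Sheaf.H.map φ q) ∧ ∀ p, q = p + 1 → Function.Surjective (Sheaf.H.map φ p)

/-- The property for the units of a morphism of schemes. -/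
def Good (f : Z ⟶ Y) (q : ℕ) : Prop := GoodHom (UnitsSh.comap f) q

theorem goodHom_of_isIso {F G : CohTop.Ab Y.toTopCat} (φ : F ⟶ G) [IsIso φ] (q : ℕ) : GoodHom φ q := by
  have key : ∀ n, Function.Bijective (Sheaf.H.map φ n) := fun n => by
    refine Function.bijective_iff_has_inverse.2 ⟨Sheaf.H.map (inv φ) n, fun x => ?_, fun x => ?_⟩
    · refine (Sheaf.H.map_comp_apply φ (inv φ) x).symm.trans ?_
      rw [IsIso.hom_inv_id, Sheaf.H.map_id_apply]
    · refine (Sheaf.H.map_comp_apply (inv φ) φ x).symm.trans ?_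
      rw [IsIso.inv_hom_id, Sheaf.H.map_id_apply]
  exact ⟨inferInstance, (key q).1, fun p _ => (key p).2⟩

theorem goodHom_comp {F G K : CohTop.Ab Y.toTopCat} {φ : F ⟶ G} {ψ : G ⟶ K} {q : ℕ}
    (hφ : GoodHom φ q) (hψ : GoodHom ψ q) : GoodHom (φ ≫ ψ) q := by
  obtain ⟨h1, h2, h3⟩ := hφ
  obtain ⟨k1, k2, k3⟩ := hψ
  haveI := h1
  haveI := k1
  refine ⟨epi_comp φ ψ, fun x y hxy => h2 (k2 ?_), fun p hp z => ?_⟩
  · exact (Sheaf.H.map_comp_apply φ ψ x).symm.trans (hxy.trans (Sheaf.H.map_comp_apply φ ψ y))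
  · obtain ⟨z₁, rfl⟩ := k3 p hp z
    obtain ⟨z₂, rfl⟩ := h3 p hp z₁
    exact ⟨z₂, Sheaf.H.map_comp_apply φ ψ z₂⟩

theorem goodHom_of_shortExact {S : ShortComplex (CohTop.Ab Y.toTopCat)} (hS : S.ShortExact) (q : ℕ)
    [Subsingleton (Sheaf.H S.X₁ q)] : GoodHom S.g q := by
  refine ⟨hS.epi_g, (injective_iff_map_eq_zero _).2 fun x hx => ?_, ?_⟩
  · obtain ⟨y, rfl⟩ := (GrLib8.PicH1.map_g_eq_zero_iff hS q x).1 hx
    rw [Subsingleton.elim y 0, map_zero]
  · rintro p rfl x
    exact (GrLib8.PicH1.connH_eq_zero_iff hS p x).1 (Subsingleton.elim _ _)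

theorem good_of_isIso (f : Z ⟶ Y) [IsIso f] (q : ℕ) : Good f q :=
  haveI := isIso_comap f
  goodHom_of_isIso (UnitsSh.comap f) q

theorem goodHom_push_toImage (b : X ⟶ Y) [IsClosedImmersion b] (a : Z ⟶ X) [IsClosedImmersion a] (q : ℕ) :
    GoodHom ((CohTop.push b.base).map ((CohTop.push a.ker.subschemeι.base).map (UnitsSh.comap a.toImage))) q := by
  haveI : IsIso (UnitsSh.comap a.toImage) := isIso_comap _
  exact goodHom_of_isIso _ q

theorem goodHom_push_subscheme (b : X ⟶ Y) [IsClosedImmersion b] (I : X.IdealSheafData) (hI : I * I = ⊥) (q : ℕ)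
    (h : Subsingleton (Coh.HH X (ClSub.idealMod I) q)) :
    GoodHom ((CohTop.push b.base).map (UnitsSh.comap I.subschemeι)) q := by
  haveI := ClosedEmb.preservesFiniteColimits_push b.isClosedEmbedding
  haveI := LerayDegen.push_left_exact b.base
  have hS : ((GrLib8.PicH1.unitsSC hI).map (CohTop.push b.base)).ShortExact :=
    (GrLib8.PicH1.unitsSC_shortExact hI).map_of_exact (CohTop.push b.base)
  have hsub : Subsingleton (Sheaf.H ((GrLib8.PicH1.unitsSC hI).map (CohTop.push b.base)).X₁ q) := by
    obtain ⟨e⟩ := SplitUnits.H_push_closed b.base b.isClosedEmbedding (Coh.toAb (ClSub.idealMod I)) q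
    exact e.symm.toEquiv.subsingleton
  exact @goodHom_of_shortExact _ _ hS q hsub

/-- One square zero step, pushed forward to an ambient scheme. -/
theorem good_comp (b : X ⟶ Y) [IsClosedImmersion b] (a : Z ⟶ X) [IsClosedImmersion a]
    (hI : a.ker * a.ker = ⊥) (q : ℕ) (h : Subsingleton (Coh.HH X (ClSub.idealMod a.ker) q))
    (hb : Good b q) {c : Z ⟶ Y} (hc : a ≫ b = c) : Good c q := by
  subst hc
  have hfac : ∀ (g : Z ⟶ X), g = a.toImage ≫ a.ker.subschemeι →
      GoodHom ((CohTop.push b.base).map (UnitsSh.comap g)) q := by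
    rintro _ rfl
    have e1 := congrArg (fun φ => (CohTop.push b.base).map φ) (comap_comp a.toImage a.ker.subschemeι)
    have e2 := e1.trans ((CohTop.push b.base).map_comp _ _)
    refine Eq.subst (motive := fun φ => GoodHom φ q) e2.symm ?_
    exact goodHom_comp (goodHom_push_subscheme b a.ker hI q h) (goodHom_push_toImage b a q)
  refine Eq.subst (motive := fun φ => GoodHom φ q) (comap_comp a b).symm ?_
  exact goodHom_comp hb (hfac a a.toImage_imageι.symm)

section Base

variable {A : Type u} [CommRing A] {X' : Scheme.{u}} (f : X' ⟶ Spec (CommRingCat.of A))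

/-- The closed subscheme of an ideal of the base. -/
abbrev incl (J : Ideal A) : pullback f (Spec.map (CommRingCat.ofHom (Ideal.Quotient.mk J))) ⟶ X' :=
  pullback.fst f _

theorem isClosedImmersion_incl (J : Ideal A) : IsClosedImmersion (incl f J) :=
  PicLift.closed_of_sq Ideal.Quotient.mk_surjective (IsPullback.of_hasPullback _ _)

variable [IsLocalRing A] [Flat f]

theorem good_step (q : ℕ)
    (hvan : Subsingleton (Coh.HH (pullback f (Spec.map (CommRingCat.ofHom (IsLocalRing.residue A))))
      (Coh.structureModule _) q))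
    {J₁ J₂ : Ideal A} (h12 : J₁ ≤ J₂) (h2 : J₂ ≤ IsLocalRing.maximalIdeal A)
    (hm : IsLocalRing.maximalIdeal A * J₂ ≤ J₁) (hfg : J₂.FG) (hb : Good (incl f J₁) q) :
    Good (incl f J₂) q := by
  classical
  obtain ⟨s, hs⟩ := hfg
  let B := A ⧸ J₁
  let π : A →+* B := Ideal.Quotient.mk J₁
  let Q : B →+* A ⧸ J₂ := Ideal.Quotient.factor h12
  have hQ : Function.Surjective Q := Ideal.Quotient.factor_surjective h12
  have h1 : J₁ ≤ IsLocalRing.maximalIdeal A := h12.trans h2
  let P : B →+* IsLocalRing.ResidueField A := Ideal.Quotient.lift J₁ (IsLocalRing.residue A)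
    fun x hx => (IsLocalRing.residue_eq_zero_iff x).2 (h1 hx)
  have hP : Function.Surjective P := Ideal.Quotient.lift_surjective_of_surjective _ _ IsLocalRing.residue_surjective
  let l : List B := (s.image π).toList
  have hl : ∀ a ∈ l, P a = 0 ∧ ∀ x, P x = 0 → x * a = 0 := by
    intro a ha
    obtain ⟨a, has, rfl⟩ := Finset.mem_image.1 (Finset.mem_toList.1 ha)
    have haJ : a ∈ J₂ := hs ▸ Ideal.subset_span has
    refine ⟨(IsLocalRing.residue_eq_zero_iff a).2 (h2 haJ), fun x hx => ?_⟩
    obtain ⟨x, rfl⟩ := Ideal.Quotient.mk_surjective x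
    rw [← map_mul, Ideal.Quotient.eq_zero_iff_mem]
    exact hm (Ideal.mul_mem_mul ((IsLocalRing.residue_eq_zero_iff x).1 hx) haJ)
  have hkQ : RingHom.ker Q = J₂.map π := by
    show RingHom.ker (Ideal.Quotient.lift J₁ (Ideal.Quotient.mk J₂) _) = _
    rw [Ideal.ker_quotient_lift, Ideal.mk_ker]
  have hker : RingHom.ker Q = Ideal.span {x | x ∈ l} := by
    rw [hkQ, ← hs, Ideal.map_span]
    congr 1
    ext x
    simp [l]
  let sπ := Spec.map (CommRingCat.ofHom π)
  let f₁ := pullback.snd f sπ
  haveI : Flat f₁ := MorphismProperty.pullback_snd f sπ inferInstance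
  haveI : IsClosedImmersion (incl f J₁) := isClosedImmersion_incl f J₁
  have eQ : Spec.map (CommRingCat.ofHom Q) ≫ sπ = Spec.map (CommRingCat.ofHom (Ideal.Quotient.mk J₂)) := by
    rw [← Spec.map_comp]; rfl
  have eP : Spec.map (CommRingCat.ofHom P) ≫ sπ = Spec.map (CommRingCat.ofHom (IsLocalRing.residue A)) := by
    rw [← Spec.map_comp]; rfl
  let t : pullback f (Spec.map (CommRingCat.ofHom (Ideal.Quotient.mk J₂))) ⟶ pullback f sπ :=
    pullback.lift (pullback.fst _ _) (pullback.snd _ _ ≫ Spec.map (CommRingCat.ofHom Q)) (by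
      rw [Category.assoc, eQ, pullback.condition])
  let j : pullback f (Spec.map (CommRingCat.ofHom (IsLocalRing.residue A))) ⟶ pullback f sπ :=
    pullback.lift (pullback.fst _ _) (pullback.snd _ _ ≫ Spec.map (CommRingCat.ofHom P)) (by
      rw [Category.assoc, eP, pullback.condition])
  have sqt : IsPullback t (pullback.snd _ _) f₁ (Spec.map (CommRingCat.ofHom Q)) := by
    refine IsPullback.of_right ?_ (pullback.lift_snd _ _ _) (IsPullback.of_hasPullback f sπ)
    rw [pullback.lift_fst, eQ]
    exact IsPullback.of_hasPullback _ _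
  have sqj : IsPullback j (pullback.snd _ _) f₁ (Spec.map (CommRingCat.ofHom P)) := by
    refine IsPullback.of_right ?_ (pullback.lift_snd _ _ _) (IsPullback.of_hasPullback f sπ)
    rw [pullback.lift_fst, eP]
    exact IsPullback.of_hasPullback _ _
  haveI : IsClosedImmersion t := PicLift.closed_of_sq hQ sqt
  have hI : t.ker * t.ker = ⊥ := by
    refine Scheme.IdealSheafData.ext (funext fun C => ?_)
    rw [Scheme.IdealSheafData.ideal_mul]
    show t.ker.ideal C * t.ker.ideal C = (⊥ : Scheme.IdealSheafData _).ideal C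
    rw [PicLift.ideal_ker hQ sqt C.2, ← Ideal.map_mul, hkQ, ← Ideal.map_mul]
    have : (J₂ * J₂).map π = ⊥ := by
      rw [← le_bot_iff, ← Ideal.map_quotient_self J₁]
      exact Ideal.map_mono ((Ideal.mul_mono_left h2).trans hm)
    rw [this, Ideal.map_bot]
    simp
  have hI' := PicLift.subsingleton_span q l hP hl hQ hker sqt sqj hvan
  exact good_comp (incl f J₁) t hI q hI' hb (pullback.lift_fst _ _ _)

theorem good_bot (q : ℕ) : Good (incl f (⊥ : Ideal A)) q := by
  haveI : IsIso (CommRingCat.ofHom (Ideal.Quotient.mk (⊥ : Ideal A))) :=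
    (ConcreteCategory.isIso_iff_bijective _).2 ⟨fun a b h => by
      have := Ideal.Quotient.eq.1 h
      rwa [Ideal.mem_bot, sub_eq_zero] at this, Ideal.Quotient.mk_surjective⟩
  exact good_of_isIso _ q

/-- Units on a flat family over an Artinian local ring. -/
theorem good_incl [IsArtinianRing A] (q : ℕ)
    (hvan : Subsingleton (Coh.HH (pullback f (Spec.map (CommRingCat.ofHom (IsLocalRing.residue A))))
      (Coh.structureModule _) q))
    (J : Ideal A) (hJ : J ≤ IsLocalRing.maximalIdeal A) : Good (incl f J) q := by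
  obtain ⟨N, hN⟩ : ∃ N, IsLocalRing.maximalIdeal A ^ N = ⊥ := by
    obtain ⟨N, hN⟩ := IsArtinianRing.isNilpotent_jacobson_bot (R := A)
    rw [IsLocalRing.jacobson_eq_maximalIdeal _ bot_ne_top] at hN
    exact ⟨N, hN⟩
  have key : ∀ d n, N ≤ n + d → Good (incl f (J ⊓ IsLocalRing.maximalIdeal A ^ n)) q := by
    intro d
    induction d with
    | zero =>
      intro n hn
      have : J ⊓ IsLocalRing.maximalIdeal A ^ n = ⊥ :=
        le_bot_iff.1 (inf_le_right.trans ((Ideal.pow_le_pow_right (by omega)).trans hN.le))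
      rw [this]
      exact good_bot f q
    | succ d ih =>
      intro n hn
      refine good_step f q hvan (inf_le_inf_left J (Ideal.pow_le_pow_right (Nat.le_succ n)))
        (inf_le_left.trans hJ) ?_ (IsNoetherian.noetherian _) (ih (n + 1) (by omega))
      refine le_inf (Ideal.mul_le_right.trans (inf_le_left : J ⊓ IsLocalRing.maximalIdeal A ^ n ≤ J)) ?_
      rw [pow_succ']
      exact Ideal.mul_mono_right inf_le_right
  have h := key N 0 (by omega)
  rw [pow_zero, Ideal.one_eq_top, inf_top_eq] at h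
  exact h

end Base

/-- Cohomology of the kernel of restriction. -/
theorem subsingleton_kernel (i : Z ⟶ X) (q : ℕ) (h : Good i q) :
    Subsingleton (Sheaf.H (kernel (UnitsSh.comap i)) q) := by
  obtain ⟨he, hi, hs⟩ := h
  haveI := he
  let S := ShortComplex.mk (kernel.ι (UnitsSh.comap i)) (UnitsSh.comap i) (kernel.condition _)
  have hS : S.ShortExact := { exact := ShortComplex.exact_of_f_is_kernel _ (kernelIsKernel _) }
  refine subsingleton_of_forall_eq 0 fun x => ?_
  have hfx : Sheaf.H.map S.f q x = 0 := by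
    refine hi (((GrLib8.PicH1.map_g_eq_zero_iff hS q _).2 ⟨x, rfl⟩).trans (map_zero _).symm)
  cases q with
  | zero =>
    have hinj : Function.Injective ((S.f).hom.app (op (⊤ : X.Opens))) := by
      haveI : Mono S.f.hom := inferInstanceAs (Mono ((sheafToPresheaf _ _).map (kernel.ι (UnitsSh.comap i))))
      exact (AddCommGrpCat.mono_iff_injective _).1 inferInstance
    exact GrLib8.PicH1.map_f_zero_injective (E := S) (Limits.isTerminalTop (α := X.Opens)) hinj
      (hfx.trans (map_zero _).symm)
  | succ p =>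
    obtain ⟨y, rfl⟩ := (GrLib8.PicH1.map_f_eq_zero_iff hS p x).1 hfx
    exact (GrLib8.PicH1.connH_eq_zero_iff hS p y).2 (hs p rfl y)

end Groth.Agent.PicTangent.UnitsThick
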